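import Mathlib.GroupTheory.Sylow
import Mathlib.GroupTheory.Nilpotent
import Cfsg.Prelude.Def_Transfer
import Cfsg.Prelude.Def_CaseTheorems

/-!
Basic facts on elementary abelian subgroups, `p`-rank and `p`-subgroups.
-/

set_option autoImplicit false

namespace Cfsg.Agent.H40

variable {G : Type*} [Group G] {p : ℕ}

theorem isPGroup_of_pow_eq_one {A : Subgroup G} (h : ∀ a ∈ A, a ^ p = 1) : IsPGroup p A :=
  fun g => ⟨1, by simpa using Subtype.ext (h g g.2)⟩

theorem isPGroup_elementary {A : Subgroup G} (hA : Cfsg.IsElementaryAbelian p A) :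
    IsPGroup p A :=
  isPGroup_of_pow_eq_one hA.2

theorem elementary_comm {A : Subgroup G} (hA : Cfsg.IsElementaryAbelian p A) {a b : G}
    (ha : a ∈ A) (hb : b ∈ A) : a * b = b * a :=
  congrArg Subtype.val (hA.1.is_comm.comm (⟨a, ha⟩ : A) ⟨b, hb⟩)

theorem elementary_of_le {A B : Subgroup G} (hA : Cfsg.IsElementaryAbelian p A) (h : B ≤ A) :
    Cfsg.IsElementaryAbelian p B :=
  ⟨⟨⟨fun a b => Subtype.ext (elementary_comm hA (h a.2) (h b.2))⟩⟩, fun a ha => hA.2 a (h ha)⟩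

theorem elementary_iff {A : Subgroup G} :
    Cfsg.IsElementaryAbelian p A ↔
      (∀ a ∈ A, ∀ b ∈ A, a * b = b * a) ∧ ∀ a ∈ A, a ^ p = 1 :=
  ⟨fun h => ⟨fun _ ha _ hb => elementary_comm h ha hb, h.2⟩,
    fun h => ⟨⟨⟨fun a b => Subtype.ext (h.1 a a.2 b b.2)⟩⟩, h.2⟩⟩

theorem elementary_map {H : Type*} [Group H] {A : Subgroup H}
    (hA : Cfsg.IsElementaryAbelian p A) (f : H →* G) :
    Cfsg.IsElementaryAbelian p (A.map f) := by
  rw [elementary_iff]
  refine ⟨?_, ?_⟩
  · rintro _ ⟨a, ha, rfl⟩ _ ⟨b, hb, rfl⟩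
    rw [← map_mul, ← map_mul, elementary_comm hA ha hb]
  · rintro _ ⟨a, ha, rfl⟩
    rw [← map_pow, hA.2 a ha, map_one]

theorem elementary_comap {H : Type*} [Group H] {A : Subgroup G}
    (hA : Cfsg.IsElementaryAbelian p A) (f : H →* G) (hf : Function.Injective f) :
    Cfsg.IsElementaryAbelian p (A.comap f) := by
  rw [elementary_iff]
  exact ⟨fun a ha b hb => hf (by simpa using elementary_comm hA (a := f a) (b := f b) ha hb),
    fun a ha => hf (by simpa using hA.2 (f a) ha)⟩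

theorem elementary_zpowers {x : G} (hx : x ^ p = 1) :
    Cfsg.IsElementaryAbelian p (Subgroup.zpowers x) := by
  rw [elementary_iff]
  refine ⟨?_, ?_⟩
  · rintro _ ⟨i, rfl⟩ _ ⟨j, rfl⟩
    exact (Commute.zpow_zpow_self x i j).eq
  · rintro _ ⟨i, rfl⟩
    show (x ^ i) ^ p = 1
    rw [← zpow_natCast, ← zpow_mul, mul_comm, zpow_mul, zpow_natCast, hx, one_zpow]

/-- two commuting elementary abelian subgroups generate an elementary abelian subgroup -/
theorem elementary_sup {A B : Subgroup G} (hA : Cfsg.IsElementaryAbelian p A)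
    (hB : Cfsg.IsElementaryAbelian p B) (hAB : ∀ a ∈ A, ∀ b ∈ B, a * b = b * a) :
    Cfsg.IsElementaryAbelian p (A ⊔ B) := by
  have hBN : B ≤ Subgroup.normalizer (A : Set G) := Subgroup.le_normalizer_iff.mpr fun b hb a ha => by
    rw [← hAB a ha b hb, mul_inv_cancel_right]; exact ha
  have key : ∀ x ∈ A ⊔ B, ∃ a ∈ A, ∃ b ∈ B, x = a * b := by
    intro x hx
    rw [← SetLike.mem_coe, Subgroup.coe_mul_of_right_le_normalizer_left A B hBN] at hx
    obtain ⟨a, ha, b, hb, h⟩ := hx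
    exact ⟨a, ha, b, hb, h.symm⟩
  rw [elementary_iff]
  refine ⟨?_, ?_⟩
  · intro x hx y hy
    obtain ⟨a, ha, b, hb, rfl⟩ := key x hx
    obtain ⟨c, hc, d, hd, rfl⟩ := key y hy
    have e1 : Commute a c := elementary_comm hA ha hc
    have e2 : Commute b d := elementary_comm hB hb hd
    have e3 : Commute a d := hAB a ha d hd
    have e4 : Commute b c := (hAB c hc b hb).symm
    exact ((e1.mul_right e3).mul_left (e4.mul_right e2)).eq
  · intro x hx
    obtain ⟨a, ha, b, hb, rfl⟩ := key x hx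
    rw [(show Commute a b from hAB a ha b hb).mul_pow, hA.2 a ha, hB.2 b hb, one_mul]

theorem card_elementary [Finite G] [hp : Fact p.Prime] {A : Subgroup G}
    (hA : Cfsg.IsElementaryAbelian p A) : ∃ n : ℕ, Nat.card A = p ^ n :=
  IsPGroup.iff_card.mp (isPGroup_elementary hA)

theorem exists_elementary_of_not_rankLE [Finite G] [hp : Fact p.Prime] {k : ℕ}
    (h : ¬ Cfsg.PRankLE p k G) :
    ∃ A : Subgroup G, Cfsg.IsElementaryAbelian p A ∧ p ^ (k + 1) ≤ Nat.card A := by
  unfold Cfsg.PRankLE at h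
  push Not at h
  obtain ⟨A, hc, he, hk⟩ := h
  have hA : Cfsg.IsElementaryAbelian p A := ⟨hc, he⟩
  obtain ⟨n, hn⟩ := card_elementary hA
  exact ⟨A, hA, by
    rw [hn] at hk ⊢
    exact Nat.pow_le_pow_right hp.out.pos ((Nat.pow_lt_pow_iff_right hp.out.one_lt).mp hk)⟩

theorem not_rankLE_of_elementary {k : ℕ} {A : Subgroup G} (hA : Cfsg.IsElementaryAbelian p A)
    (hk : p ^ k < Nat.card A) : ¬ Cfsg.PRankLE p k G :=
  fun h => (h A hA.1 hA.2).not_gt hk

theorem not_rankLE_subgroup {k : ℕ} {H A : Subgroup G} (hA : Cfsg.IsElementaryAbelian p A)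
    (hAH : A ≤ H) (hk : p ^ k < Nat.card A) : ¬ Cfsg.PRankLE p k ↥H :=
  not_rankLE_of_elementary (elementary_comap hA H.subtype H.subtype_injective)
    (lt_of_lt_of_eq hk (Nat.card_congr (Subgroup.subgroupOfEquivOfLe hAH).toEquiv).symm)

theorem rankLE_of_mulEquiv {H : Type*} [Group H] (e : G ≃* H) {k : ℕ}
    (h : Cfsg.PRankLE p k G) : Cfsg.PRankLE p k H := by
  intro A hc he
  have hA : Cfsg.IsElementaryAbelian p A := ⟨hc, he⟩
  have hB := elementary_map hA e.symm.toMonoidHom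
  have := h _ hB.1 hB.2
  rwa [Subgroup.card_map_of_injective e.symm.injective] at this

/-- In a `p`-subgroup, a proper subgroup is properly contained in its normalizer. -/
theorem exists_normalizer_gt [Finite G] [hp : Fact p.Prime] {P Q : Subgroup G}
    (hQ : IsPGroup p Q) (hPQ : P ≤ Q) (hne : P ≠ Q) :
    ∃ g ∈ Q, g ∉ P ∧ g ∈ Subgroup.normalizer (P : Set G) := by
  haveI := hQ.isNilpotent
  have hlt : P.subgroupOf Q < ⊤ := by
    rw [lt_top_iff_ne_top]
    intro h
    exact hne (le_antisymm hPQ (Subgroup.subgroupOf_eq_top.mp h))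
  have hn := Group.normalizerCondition_of_isNilpotent (P.subgroupOf Q) hlt
  obtain ⟨g, hg1, hg2⟩ := SetLike.exists_of_lt hn
  refine ⟨g, g.2, fun h => hg2 (by simpa [Subgroup.mem_subgroupOf] using h), ?_⟩
  rw [← Subgroup.subgroupOf_normalizer_eq hPQ] at hg1
  simpa [Subgroup.mem_subgroupOf] using hg1

end Cfsg.Agent.H40
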