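import Cfsg.Agent.H40.Basic

/-!
Normal subgroups of finite `p`-groups: central elements, chief steps, Alperin's lemma on elements
of order `p` in the centralizer of a maximal normal elementary abelian subgroup.
-/

set_option autoImplicit false
open scoped commutatorElement

namespace Cfsg.Agent.H40

variable {P : Type*} [Group P] [Finite P] {p : ℕ} [hp : Fact p.Prime]

/-- A nontrivial normal subgroup of a finite `p`-group contains a central element of order `p`. -/
theorem exists_central_orderOf_eq (hP : IsPGroup p P) (N : Subgroup P) [hN : N.Normal]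
    (hne : N ≠ ⊥) : ∃ z ∈ N, z ∈ Subgroup.center P ∧ orderOf z = p := by
  letI : MulAction P N :=
    { smul := fun g n => ⟨g * n * g⁻¹, hN.conj_mem n n.2 g⟩
      one_smul := fun n => Subtype.ext (by show (1 : P) * n * 1⁻¹ = n; group)
      mul_smul := fun g h n => Subtype.ext (by
        show g * h * n * (g * h)⁻¹ = g * (h * n * h⁻¹) * g⁻¹; group) }
  have hNp := hP.to_subgroup N
  have hdvd : p ∣ Nat.card N :=
    hNp.card_eq_or_dvd.resolve_left (fun h => hne (Subgroup.card_eq_one.mp h))
  have h1 : (1 : N) ∈ MulAction.fixedPoints P N := fun g => Subtype.ext (by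
    show g * (1 : P) * g⁻¹ = 1; group)
  obtain ⟨b, hb, hb1⟩ := hP.exists_fixed_point_of_prime_dvd_card_of_fixed_point N hdvd h1
  have hbc : (b : P) ∈ Subgroup.center P := Subgroup.mem_center_iff.mpr fun g => by
    have := congrArg Subtype.val (hb g)
    change g * (b : P) * g⁻¹ = b at this
    exact mul_inv_eq_iff_eq_mul.mp this
  obtain ⟨k, hk⟩ := (IsPGroup.iff_orderOf.mp hP) (b : P)
  obtain _ | k := k
  · exfalso
    exact hb1 (Subtype.ext (orderOf_eq_one_iff.mp (by simpa using hk)).symm)
  · refine ⟨(b : P) ^ p ^ k, N.pow_mem b.2 _, pow_mem hbc _, ?_⟩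
    rw [orderOf_pow' _ (pow_pos hp.out.pos k).ne', hk,
      Nat.gcd_eq_right (pow_dvd_pow p (Nat.le_succ k)), pow_succ,
      Nat.mul_div_cancel_left _ (pow_pos hp.out.pos k)]


omit [Finite P] in
theorem card_map_quotient_mul {H V : Subgroup P} [H.Normal] (h : H ≤ V) :
    Nat.card (V.map (QuotientGroup.mk' H)) * Nat.card H = Nat.card V := by
  rw [← Subgroup.relIndex_ker, QuotientGroup.ker_mk', mul_comm]
  have := Subgroup.relIndex_mul_relIndex ⊥ H V bot_le h
  rwa [Subgroup.relIndex_bot_left, Subgroup.relIndex_bot_left] at this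

omit [Finite P] in
theorem normal_of_le_center' {H : Subgroup P} (h : H ≤ Subgroup.center P) : H.Normal :=
  ⟨fun n hn g => by rw [Subgroup.mem_center_iff.mp (h hn) g, mul_inv_cancel_right]; exact hn⟩

/-- A normal subgroup of prime index in a normal subgroup: commutators land below. -/
theorem commutator_mem_of_card_eq_mul (hP : IsPGroup p P) (H V : Subgroup P) [H.Normal] [V.Normal]
    (hHV : H ≤ V) (hcard : Nat.card V = p * Nat.card H) {v : P} (hv : v ∈ V) (g : P) :
    g * v * g⁻¹ * v⁻¹ ∈ H := by
  let π := QuotientGroup.mk' H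
  have hb : IsPGroup p (P ⧸ H) := hP.to_quotient H
  haveI hn : (V.map π).Normal := Subgroup.Normal.map inferInstance π (QuotientGroup.mk'_surjective H)
  have h1 : Nat.card (V.map π) = p :=
    Nat.eq_of_mul_eq_mul_right Nat.card_pos ((card_map_quotient_mul hHV).trans hcard)
  obtain ⟨z, hz, hzc, hzo⟩ := exists_central_orderOf_eq hb (V.map π)
    (fun h => hp.out.ne_one (by rw [h, Subgroup.card_bot] at h1; exact h1.symm))
  have hle : Subgroup.zpowers z = V.map π :=
    Subgroup.eq_of_le_of_card_ge (Subgroup.zpowers_le.mpr hz) (by rw [h1, Nat.card_zpowers, hzo])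
  have hvc : π v ∈ Subgroup.center _ :=
    (Subgroup.zpowers_le.mpr hzc) (hle ▸ Subgroup.mem_map_of_mem π hv)
  rw [← QuotientGroup.eq_one_iff]
  show π (g * v * g⁻¹ * v⁻¹) = 1
  simp only [map_mul, map_inv]
  rw [Subgroup.mem_center_iff.mp hvc (π g)]
  group

/-- A normal subgroup of order at least `p ^ (k+1)` contains a normal subgroup of `P` of order
exactly `p ^ j` above any normal subgroup of order `p ^ i`. -/
theorem exists_normal_step (hP : IsPGroup p P) (H V : Subgroup P) [H.Normal] [V.Normal]
    (hHV : H < V) : ∃ K : Subgroup P, K.Normal ∧ H < K ∧ K ≤ V ∧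
      Nat.card K = p * Nat.card H := by
  let π := QuotientGroup.mk' H
  haveI hn : (V.map π).Normal := Subgroup.Normal.map inferInstance π (QuotientGroup.mk'_surjective H)
  have hne : V.map π ≠ ⊥ := by
    rw [Ne, Subgroup.map_eq_bot_iff, QuotientGroup.ker_mk']
    exact hHV.not_ge
  obtain ⟨z, hz, hzc, hzo⟩ := exists_central_orderOf_eq (hP.to_quotient H) (V.map π) hne
  haveI : (Subgroup.zpowers z).Normal := normal_of_le_center' (Subgroup.zpowers_le.mpr hzc)
  set K := (Subgroup.zpowers z).comap π with hK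
  have hKV : K ≤ V := by
    refine le_trans (Subgroup.comap_mono (Subgroup.zpowers_le.mpr hz)) ?_
    rw [Subgroup.comap_map_eq, QuotientGroup.ker_mk']
    exact sup_le le_rfl hHV.le
  have hHK : H ≤ K := fun x hx => by
    show π x ∈ Subgroup.zpowers z
    rw [(QuotientGroup.eq_one_iff x).mpr hx |> (show π x = 1 from ·)]
    exact one_mem _
  have hcard : Nat.card K = p * Nat.card H := by
    rw [← card_map_quotient_mul hHK, hK,
      Subgroup.map_comap_eq_self_of_surjective (QuotientGroup.mk'_surjective H),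
      Nat.card_zpowers, hzo]
  refine ⟨K, Subgroup.Normal.comap inferInstance π, lt_of_le_of_ne hHK ?_, hKV, hcard⟩
  intro h
  rw [← h] at hcard
  have h1 : 1 * Nat.card H = p * Nat.card H := by rw [one_mul]; exact hcard
  exact hp.out.one_lt.ne (Nat.eq_of_mul_eq_mul_right Nat.card_pos h1)

theorem normal_step_lt (hP : IsPGroup p P) (B D : Subgroup P) (K : Subgroup P) [B.Normal]
    (h : D ≤ ⁅D, K⁆ ⊔ B) : D ≤ B := by
  haveI := hP.isNilpotent
  obtain ⟨n, hn⟩ := Subgroup.nilpotent_iff_lowerCentralSeries.mp (inferInstance : Group.IsNilpotent P)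
  have key : ∀ i, D ≤ (Subgroup.lowerCentralSeries (⊤ : Subgroup P) i) ⊔ B := by
    intro i
    induction i with
    | zero => simp
    | succ i ih =>
      refine h.trans (sup_le ?_ le_sup_right)
      refine (Subgroup.commutator_mono ih le_top).trans ?_
      rw [Subgroup.commutator_le]
      intro x hx y _
      rw [← SetLike.mem_coe, Subgroup.mul_normal] at hx
      obtain ⟨u, hu, b, hb, rfl⟩ := hx
      rw [commutatorElement_mul_left_eq_conj_mul]
      refine mul_mem (Subgroup.mem_sup_right ?_) (Subgroup.mem_sup_left ?_)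
      · have : ⁅b, y⁆ ∈ B := by
          rw [commutatorElement_def, mul_assoc b, mul_assoc b]
          exact mul_mem hb (Subgroup.Normal.conj_mem inferInstance _ (inv_mem hb) _)
        exact Subgroup.Normal.conj_mem inferInstance _ this _
      · exact Subgroup.commutator_mem_commutator hu trivial
  simpa [hn] using key n

omit [Finite P] in
theorem mul_pow_of_central_commutator {c x z : P} (h : x * c = z * (c * x)) (hzc : Commute z c)
    (hzx : Commute z x) (n : ℕ) : (c * x) ^ n = z ^ n.choose 2 * (c ^ n * x ^ n) := by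
  have hx : ∀ k : ℕ, x ^ k * c = z ^ k * (c * x ^ k) := by
    intro k
    induction k with
    | zero => simp
    | succ k ih =>
      calc x ^ (k + 1) * c = x ^ k * (x * c) := by rw [pow_succ, mul_assoc]
        _ = x ^ k * z * (c * x) := by rw [h, mul_assoc]
        _ = z * (x ^ k * c) * x := by
            rw [← (hzx.pow_right k).eq]; simp only [mul_assoc]
        _ = z ^ (k + 1) * (c * x ^ (k + 1)) := by
            rw [ih, pow_succ', pow_succ]; simp only [mul_assoc]
  induction n with
  | zero => simp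
  | succ n ih =>
    calc (c * x) ^ (n + 1) = z ^ n.choose 2 * (c ^ n * (x ^ n * c) * x) := by
          rw [pow_succ, ih]; simp only [mul_assoc]
      _ = z ^ n.choose 2 * (c ^ n * z ^ n * (c * x ^ n) * x) := by
          rw [hx]; simp only [mul_assoc]
      _ = z ^ n.choose 2 * (z ^ n * (c ^ n * c) * (x ^ n * x)) := by
          rw [← (hzc.pow_pow n n).eq]; simp only [mul_assoc]
      _ = _ := by
          rw [Nat.choose_succ_succ', Nat.choose_one_right, add_comm n (n.choose 2),
            pow_add, pow_succ, pow_succ]; simp only [mul_assoc]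

/-- If all elements of order `p` of `D` lie in a subgroup `B` centralized by `D` and `x`, then every
element of order `p` of the coset `D x` lies in `B x` (`p` odd). -/
theorem alperin_coset (hP : IsPGroup p P) (hodd : p ≠ 2) (B : Subgroup P) [B.Normal] (x : P)
    (hxp : x ^ p = 1) (hxB : ∀ b ∈ B, x * b = b * x) (hBe : ∀ b ∈ B, b ^ p = 1) :
    ∀ D : Subgroup P, B ≤ D → x ∈ Subgroup.normalizer (D : Set P) →
      (∀ d ∈ D, d ^ p = 1 → d ∈ B) → (∀ d ∈ D, ∀ b ∈ B, d * b = b * d) →
      ∀ c ∈ D, (c * x) ^ p = 1 → c ∈ B := by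
  intro D
  induction D using WellFoundedLT.induction with
  | _ D ih =>
    intro hBD hxD hS hDB c hc hcx
    rcases eq_or_ne D B with rfl | hne
    · exact hc
    set D1 := ⁅D, Subgroup.zpowers x⁆ ⊔ B with hD1
    have hxD' : Subgroup.zpowers x ≤ Subgroup.normalizer (D : Set P) := Subgroup.zpowers_le.mpr hxD
    have hle : D1 ≤ D :=
      sup_le (Subgroup.le_normalizer_iff_commutator_le_left.mp hxD') hBD
    have hlt : D1 < D := lt_of_le_of_ne hle fun h =>
      hne (le_antisymm (normal_step_lt hP B D _ h.ge) hBD)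
    have hxD1 : x ∈ Subgroup.normalizer (D1 : Set P) :=
      Subgroup.zpowers_le.mp (le_trans
        (le_inf (Subgroup.normalizer_commutator_ge_right (H₁ := D) (H₂ := Subgroup.zpowers x))
          Subgroup.le_normalizer_of_normal)
        (show Subgroup.normalizer ((⁅D, Subgroup.zpowers x⁆ : Subgroup P) : Set P) ⊓
            Subgroup.normalizer (B : Set P) ≤ Subgroup.normalizer (D1 : Set P) by
          intro g hg
          rw [Subgroup.mem_normalizer_iff_map_conj_eq, hD1, Subgroup.map_sup]
          rw [Subgroup.mem_inf, Subgroup.mem_normalizer_iff_map_conj_eq,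
            Subgroup.mem_normalizer_iff_map_conj_eq] at hg
          rw [hg.1, hg.2]))
    have hcomm : ∀ d ∈ D, ⁅d, x⁆ ∈ B := by
      intro d hd
      refine ih D1 hlt le_sup_right hxD1 (fun e he => hS e (hle he))
        (fun e he => hDB e (hle he)) _
        (Subgroup.mem_sup_left (Subgroup.commutator_mem_commutator hd (Subgroup.mem_zpowers x))) ?_
      have : ⁅d, x⁆ * x = MulAut.conj d x := by
        rw [commutatorElement_def, MulAut.conj_apply]; group
      rw [this, ← map_pow, hxp, map_one]
    have hz : (⁅c, x⁆)⁻¹ ∈ B := inv_mem (hcomm c hc)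
    have h1 := mul_pow_of_central_commutator (c := c) (x := x) (z := (⁅c, x⁆)⁻¹)
      (by rw [commutatorElement_def]; group) (hDB c hc _ hz).symm (hxB _ hz).symm p
    rw [hcx, hxp, mul_one] at h1
    have h2 : ((⁅c, x⁆)⁻¹) ^ p.choose 2 = 1 := by
      obtain ⟨k, hk⟩ := hp.out.dvd_choose_self (k := 2) (by norm_num)
        (lt_of_le_of_ne hp.out.two_le (Ne.symm hodd))
      rw [hk, pow_mul, hBe _ hz, one_pow]
    rw [h2, one_mul] at h1
    exact hS c hc h1.symm

/-- Alperin's lemma. -/
theorem alperin (hP : IsPGroup p P) (hodd : p ≠ 2) (B : Subgroup P) [B.Normal]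
    (hB : Cfsg.IsElementaryAbelian p B)
    (hmax : ∀ W : Subgroup P, W.Normal → Cfsg.IsElementaryAbelian p W → B ≤ W → W = B)
    (x : P) (hxp : x ^ p = 1) (hxc : ∀ b ∈ B, x * b = b * x) : x ∈ B := by
  by_contra hx
  let C : Subgroup P := Subgroup.centralizer (B : Set P)
  have hC : ∀ y ∈ C, ∀ b ∈ B, y * b = b * y := fun y hy b hb =>
    (Subgroup.mem_centralizer_iff.mp hy b hb).symm
  let S : Set (Subgroup P) :=
    {N | N.Normal ∧ B ≤ N ∧ N ≤ C ∧ ∃ y ∈ N, y ^ p = 1 ∧ y ∉ B}
  have hne : S.Nonempty := ⟨C, inferInstance,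
    fun b hb => Subgroup.mem_centralizer_iff.mpr fun c hc => elementary_comm hB hc hb,
    le_rfl, x, Subgroup.mem_centralizer_iff.mpr fun b hb => (hxc b hb).symm, hxp, hx⟩
  obtain ⟨N, ⟨hN, hBN, hNC, y, hyN, hyp, hyB⟩, hmin⟩ := wellFounded_lt.has_min S hne
  haveI := hN
  let D : Subgroup P := ⁅N, (⊤ : Subgroup P)⁆ ⊔ B
  have hDN : D ≤ N := sup_le (Subgroup.commutator_le_left _ _) hBN
  have hDlt : D < N := lt_of_le_of_ne hDN fun h => hyB (normal_step_lt hP B N ⊤ h.ge hyN)
  have hDS : ∀ d ∈ D, d ^ p = 1 → d ∈ B := by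
    intro d hd hdp
    by_contra hdB
    exact hmin D ⟨inferInstance, le_sup_right, hDN.trans hNC, d, hd, hdp, hdB⟩ hDlt
  have hconj : ∀ g : P, g * y * g⁻¹ * y⁻¹ ∈ B := by
    intro g
    have hmem : g * y * g⁻¹ * y⁻¹ ∈ D := by
      refine Subgroup.mem_sup_left ?_
      rw [Subgroup.commutator_comm]
      exact Subgroup.commutator_mem_commutator (Subgroup.mem_top g) hyN
    refine alperin_coset hP hodd B y hyp (hC y (hNC hyN)) hB.2 D le_sup_right
      (Subgroup.le_normalizer_of_normal (K := ⊤) (Subgroup.mem_top y)) hDS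
      (fun d hd => hC d (hNC (hDN hd))) _ hmem ?_
    rw [inv_mul_cancel_right, ← MulAut.conj_apply, ← map_pow, hyp, map_one]
  let W : Subgroup P := B ⊔ Subgroup.zpowers y
  have hWn : W.Normal := by
    rw [← Subgroup.normalizer_eq_top_iff, eq_top_iff]
    intro g _
    rw [Subgroup.mem_normalizer_iff_map_conj_eq, Subgroup.map_sup, MonoidHom.map_zpowers]
    refine Subgroup.eq_of_le_of_card_ge ?_ ?_
    · refine sup_le ?_ (Subgroup.zpowers_le.mpr ?_)
      · rintro _ ⟨b, hb, rfl⟩
        exact Subgroup.mem_sup_left (Subgroup.Normal.conj_mem inferInstance b hb g)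
      · show g * y * g⁻¹ ∈ W
        have := mul_mem (Subgroup.mem_sup_left (T := Subgroup.zpowers y) (hconj g))
          (Subgroup.mem_sup_right (S := B) (Subgroup.mem_zpowers y))
        rwa [inv_mul_cancel_right] at this
    · rw [← MonoidHom.map_zpowers, ← Subgroup.map_sup,
        Subgroup.card_map_of_injective (MulAut.conj g).injective]
  have hWe : Cfsg.IsElementaryAbelian p W := elementary_sup hB (elementary_zpowers hyp) (by
    rintro b hb _ ⟨i, rfl⟩
    exact ((Commute.zpow_right (hC y (hNC hyN) b hb).symm i)).eq)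
  exact hyB (hmax W hWn hWe le_sup_left ▸ Subgroup.mem_sup_right (Subgroup.mem_zpowers y))

end Cfsg.Agent.H40
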