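import Cfsg.Agent.H40.Basic
import Cfsg.Agent.FG72.CocyclicGeneration

/-!
Generation by the centralisers of the hyperplanes of an elementary abelian group acting coprimely.
-/

set_option autoImplicit false

namespace Cfsg.Agent.H40

variable {G : Type*} [Group G] [Finite G] {p : ℕ} [hp : Fact p.Prime]

theorem card_le_mul_of_cocyclic {A B : Subgroup G} (hA : Cfsg.IsElementaryAbelian p A)
    (hB : B ∈ FG72.cocyclic A) : Nat.card A ≤ Nat.card B * p := by
  obtain ⟨hBA, a, ha, hsup⟩ := hB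
  have hn : Subgroup.zpowers a ≤ Subgroup.normalizer (B : Set G) :=
    Subgroup.le_normalizer_iff.mpr fun x hx b hb => by
      rw [elementary_comm hA (Subgroup.zpowers_le.mpr ha hx) (hBA hb), mul_inv_cancel_right]
      exact hb
  let f : B × Subgroup.zpowers a → A := fun q =>
    ⟨q.1 * q.2, mul_mem (hBA q.1.2) (Subgroup.zpowers_le.mpr ha q.2.2)⟩
  have hf : Function.Surjective f := by
    intro x
    have hx : (x : G) ∈ ((B ⊔ Subgroup.zpowers a : Subgroup G) : Set G) := by rw [hsup]; exact x.2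
    rw [Subgroup.coe_mul_of_right_le_normalizer_left B _ hn] at hx
    obtain ⟨b, hb, c, hc, hbc⟩ := hx
    exact ⟨(⟨b, hb⟩, ⟨c, hc⟩), Subtype.ext hbc⟩
  refine (Nat.card_le_card_of_surjective f hf).trans ?_
  rw [Nat.card_prod, Nat.card_zpowers]
  exact Nat.mul_le_mul_left _ (Nat.le_of_dvd hp.out.pos (orderOf_dvd_of_pow_eq_one (hA.2 a ha)))

theorem relIndex_le_of_cocyclic {A B : Subgroup G} (hA : Cfsg.IsElementaryAbelian p A)
    (hB : B ∈ FG72.cocyclic A) : B.relIndex A ≤ p := by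
  have h := Subgroup.relIndex_mul_relIndex ⊥ B A bot_le hB.1
  rw [Subgroup.relIndex_bot_left, Subgroup.relIndex_bot_left] at h
  exact Nat.le_of_mul_le_mul_left (h.trans_le (card_le_mul_of_cocyclic hA hB)) Nat.card_pos

theorem le_iSup_hyperplane {A X : Subgroup G} (hA : Cfsg.IsElementaryAbelian p A)
    (hX : ¬ p ∣ Nat.card X) (hAX : A ≤ Subgroup.normalizer (X : Set G)) :
    X ≤ ⨆ B : {B : Subgroup G // B ≤ A ∧ B.relIndex A ≤ p},
      X ⊓ Subgroup.centralizer ((B : Subgroup G) : Set G) := by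
  obtain ⟨n, hn⟩ := card_elementary hA
  refine (FG72.le_iSup_cocyclic _ G A X rfl hA.1 hAX ?_).trans (iSup₂_le fun B hB => ?_)
  · rw [hn]
    exact ((hp.out.coprime_iff_not_dvd).mpr hX).pow_left _
  · exact le_iSup_of_le ⟨B, hB.1, relIndex_le_of_cocyclic hA hB⟩ le_rfl

end Cfsg.Agent.H40
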