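import Cfsg.Agent.H40.Basic
import Cfsg.Agent.Lib.Fitting.Minimal
import Mathlib.GroupTheory.SpecificGroups.Dihedral

/-!
Thompson's dihedral lemma: an elementary abelian 2-group of order `2^d` acting faithfully on a
solvable group of odd order is covered by a product of `d` commuting dihedral groups.
-/

set_option autoImplicit false
open scoped commutatorElement

namespace Cfsg.Agent.H40

variable {G : Type*} [Group G]

/-- Conjugation by an element of `N(L)` preserves the image of a characteristic subgroup of `L`. -/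
theorem conj_mem_map_of_characteristic {L : Subgroup G} (K : Subgroup L) [hK : K.Characteristic]
    {g : G} (hg : g ∈ Subgroup.normalizer (L : Set G)) {x : G} (hx : x ∈ K.map L.subtype) :
    g * x * g⁻¹ ∈ K.map L.subtype := by
  obtain ⟨k, hk, rfl⟩ := hx
  refine ⟨(L.normalizerMonoidHom ⟨g, hg⟩) k, ?_, rfl⟩
  have := Subgroup.characteristic_iff_le_comap.mp hK (L.normalizerMonoidHom ⟨g, hg⟩)
  exact this hk

theorem eq_of_sq_eq_one_of_odd {L : Subgroup G} (hL : Odd (Nat.card L)) {x : G} (hx : x ∈ L)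
    (h : x * x = 1) : x = 1 := by
  rw [← orderOf_eq_one_iff]
  have h1 : orderOf x ∣ Nat.card L := Subgroup.orderOf_dvd_natCard L hx
  have h2 : orderOf x ∣ 2 := orderOf_dvd_of_pow_eq_one (by rw [pow_two, h])
  rcases (Nat.dvd_prime Nat.prime_two).mp h2 with h3 | h3
  · exact h3
  · exfalso
    rw [h3] at h1
    exact (Nat.not_even_iff_odd.mpr hL) (even_iff_two_dvd.mpr h1)

/-- An involution centralizing a self-centralizing normal subgroup of an odd order group
centralizes the whole group. -/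
theorem commute_of_selfcentralizing {L N : Subgroup G} (hL : Odd (Nat.card L)) (hNL : N ≤ L)
    (hLN : L ≤ Subgroup.normalizer (N : Set G)) (hC : L ⊓ Subgroup.centralizer (N : Set G) ≤ N)
    {a : G} (ha2 : a * a = 1) (haL : a ∈ Subgroup.normalizer (L : Set G))
    (haN : ∀ n ∈ N, a * n = n * a) : ∀ l ∈ L, a * l = l * a := by
  intro l hl
  have hal : a * l * a⁻¹ ∈ L := (Subgroup.mem_normalizer_iff.mp haL l).mp hl
  have hm : l⁻¹ * (a * l * a⁻¹) ∈ L ⊓ Subgroup.centralizer (N : Set G) := by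
    refine ⟨L.mul_mem (L.inv_mem hl) hal, Subgroup.mem_centralizer_iff.mpr fun n hn => ?_⟩
    have h1 : l * n * l⁻¹ ∈ N := (Subgroup.mem_normalizer_iff.mp (hLN hl) n).mp hn
    have e1 : a⁻¹ * n * a = n := by rw [mul_assoc, ← haN n hn]; group
    have e2 : a * (l * n * l⁻¹) * a⁻¹ = l * n * l⁻¹ := by rw [haN _ h1]; group
    calc n * (l⁻¹ * (a * l * a⁻¹)) = l⁻¹ * (l * n * l⁻¹) * (a * l * a⁻¹) := by group
      _ = l⁻¹ * (a * (l * n * l⁻¹) * a⁻¹) * (a * l * a⁻¹) := by rw [e2]
      _ = l⁻¹ * (a * l * a⁻¹) * (a * n * a⁻¹) := by group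
      _ = l⁻¹ * (a * l * a⁻¹) * n := by rw [haN n hn, mul_inv_cancel_right]
  obtain ⟨n, hn, hne⟩ : ∃ n ∈ N, a * l * a⁻¹ = l * n := ⟨_, hC hm, by group⟩
  have hnn : n * n = 1 := by
    have hi : a⁻¹ = a := inv_eq_of_mul_eq_one_left ha2
    have e : a * (a * l * a⁻¹) * a⁻¹ = a * (l * n) * a⁻¹ := by rw [hne]
    have lhs : a * (a * l * a⁻¹) * a⁻¹ = l := by
      rw [hi, show a * (a * l * a) * a = (a * a) * l * (a * a) by group, ha2]; group
    have rhs : a * (l * n) * a⁻¹ = l * n * n :=
      calc a * (l * n) * a⁻¹ = (a * l * a⁻¹) * (a * n * a⁻¹) := by group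
        _ = l * n * n := by rw [hne, haN n hn, mul_inv_cancel_right]
    rw [lhs, rhs, mul_assoc] at e
    exact left_eq_mul.mp e
  rw [eq_of_sq_eq_one_of_odd hL (hNL hn) hnn, mul_one, mul_inv_eq_iff_eq_mul] at hne
  exact hne

theorem exists_lowerCentralSeries_eq_bot {F : Subgroup G} (hF : Group.IsNilpotent F) :
    ∃ n, F.lowerCentralSeries n = ⊥ := by
  obtain ⟨n, hn⟩ := Subgroup.nilpotent_iff_lowerCentralSeries.mp hF
  refine ⟨n, ?_⟩
  rw [← Subgroup.top_subtype_lowerCentralSeries, hn, Subgroup.map_bot]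

variable [Finite G]

/-- If `a` inverts or fixes modulo `M`, for all `a ∈ S`, after passing to a suitable element. -/
theorem exists_signed_mod {A D M : Subgroup G} (hA : Cfsg.IsElementaryAbelian 2 A)
    (hMD : M ≤ D) (hDM : D ≤ Subgroup.normalizer (M : Set G))
    (hcomm : ∀ x ∈ D, ∀ y ∈ D, x * y * x⁻¹ * y⁻¹ ∈ M)
    (hAD : A ≤ Subgroup.normalizer (D : Set G)) (hAM : A ≤ Subgroup.normalizer (M : Set G))
    {x : G} (hx : x ∈ D) (hxM : x ∉ M) :
    ∀ S : Finset G, (∀ a ∈ S, a ∈ A) →
      ∃ x ∈ D, x ∉ M ∧ ∀ a ∈ S, a * x * a⁻¹ * x⁻¹ ∈ M ∨ a * x * a⁻¹ * x ∈ M := by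
  classical
  intro S
  induction S using Finset.induction_on with
  | empty => exact fun _ => ⟨x, hx, hxM, fun a ha => absurd ha (Finset.notMem_empty a)⟩
  | @insert b S _ ih =>
    intro hS
    obtain ⟨x, hxD, hxM, hsign⟩ := ih fun a ha => hS a (Finset.mem_insert_of_mem ha)
    have hb := hS b (Finset.mem_insert_self b S)
    have hxb : b * x * b⁻¹ ∈ D := (Subgroup.mem_normalizer_iff.mp (hAD hb) x).mp hxD
    set y := x * (b * x * b⁻¹) with hy
    have hc := hcomm x hxD _ hxb
    have hswap : ∀ g ∈ D, ∀ m ∈ M, g * m * g⁻¹ ∈ M := fun g hg m hm =>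
      (Subgroup.mem_normalizer_iff.mp (hDM hg) m).mp hm
    by_cases hyM : y ∈ M
    · refine ⟨x, hxD, hxM, fun a ha => ?_⟩
      rcases Finset.mem_insert.mp ha with rfl | ha
      · right
        have h1 := hswap _ (inv_mem hxD) _ hyM
        rwa [hy, inv_inv, show x⁻¹ * (x * (a * x * a⁻¹)) * x = a * x * a⁻¹ * x by group] at h1
      · exact hsign a ha
    · refine ⟨y, mul_mem hxD hxb, hyM, fun a ha => ?_⟩
      rcases Finset.mem_insert.mp ha with rfl | ha
      · left
        have hb2 : a⁻¹ = a := inv_eq_of_mul_eq_one_left (by rw [← pow_two]; exact hA.2 a hb)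
        have h1 := inv_mem hc
        have e : a * y * a⁻¹ * y⁻¹ = (x * (a * x * a⁻¹) * x⁻¹ * (a * x * a⁻¹)⁻¹)⁻¹ := by
          have ha1 : a * a = 1 := by rw [← pow_two]; exact hA.2 a hb
          have e1 : a * y * a⁻¹ = (a * x * a⁻¹) * x := by
            rw [hy, hb2,
              show a * (x * (a * x * a)) * a = a * x * a * x * (a * a) by group, ha1, mul_one]
          rw [e1, hy]
          group
        rw [e]
        exact h1
      · have haA := hS a (Finset.mem_insert_of_mem ha)
        have hab := elementary_comm hA haA hb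
        have e0 : a * (b * x * b⁻¹) * a⁻¹ = b * (a * x * a⁻¹) * b⁻¹ := by
          rw [show a * (b * x * b⁻¹) * a⁻¹ = (a * b) * x * (a * b)⁻¹ by group, hab]; group
        have hbm : ∀ m ∈ M, b * m * b⁻¹ ∈ M := fun m hm =>
          (Subgroup.mem_normalizer_iff.mp (hAM hb) m).mp hm
        rcases hsign a ha with h | h
        · left
          set m := a * x * a⁻¹ * x⁻¹ with hm
          have e1 : a * x * a⁻¹ = m * x := by rw [hm]; group
          have e2 : a * y * a⁻¹ = m * (x * (b * m * b⁻¹) * x⁻¹) * y := by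
            rw [hy, show a * (x * (b * x * b⁻¹)) * a⁻¹ = (a * x * a⁻¹) * (a * (b * x * b⁻¹) * a⁻¹) by
              group, e0, e1]
            group
          rw [e2, mul_inv_cancel_right]
          exact mul_mem h (hswap x hxD _ (hbm m h))
        · right
          set m := a * x * a⁻¹ * x with hm
          have e1 : a * x * a⁻¹ = m * x⁻¹ := by rw [hm]; group
          have e2 : a * y * a⁻¹ * y =
              m * (x⁻¹ * (b * m * b⁻¹) * x) * (x⁻¹ * (b * x * b⁻¹)⁻¹ * x * (b * x * b⁻¹)) := by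
            rw [hy, show a * (x * (b * x * b⁻¹)) * a⁻¹ = (a * x * a⁻¹) * (a * (b * x * b⁻¹) * a⁻¹) by
              group, e0, e1]
            group
          rw [e2]
          refine mul_mem (mul_mem h ?_) ?_
          · have := hswap _ (inv_mem hxD) _ (hbm m h)
            rwa [inv_inv] at this
          · have := hcomm _ (inv_mem hxD) _ (inv_mem hxb)
            rwa [inv_inv, inv_inv] at this

/-- A nilpotent subgroup `F` normalized by the elementary abelian 2-group `A` has an `A`-invariant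
abelian normal subgroup containing its own centralizer in `F`. -/
theorem exists_invariant_selfcentralizing {F A : Subgroup G} (hA : Cfsg.IsElementaryAbelian 2 A)
    (hF : Group.IsNilpotent F) (hAF : A ≤ Subgroup.normalizer (F : Set G)) :
    ∃ M : Subgroup G, M ≤ F ∧ F ≤ Subgroup.normalizer (M : Set G) ∧
      A ≤ Subgroup.normalizer (M : Set G) ∧ (∀ x ∈ M, ∀ y ∈ M, x * y = y * x) ∧
      F ⊓ Subgroup.centralizer (M : Set G) ≤ M := by
  let S : Set (Subgroup G) := {M | M ≤ F ∧ F ≤ Subgroup.normalizer (M : Set G) ∧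
      A ≤ Subgroup.normalizer (M : Set G) ∧ ∀ x ∈ M, ∀ y ∈ M, x * y = y * x}
  have hS : S.Nonempty := ⟨⊥, bot_le, Subgroup.le_normalizer_of_normal, Subgroup.le_normalizer_of_normal,
    fun x hx y hy => by rw [Subgroup.mem_bot.mp hx, Subgroup.mem_bot.mp hy]⟩
  obtain ⟨M, ⟨hMF, hFM, hAM, hMab⟩, hmax⟩ := S.toFinite.exists_maximal hS
  refine ⟨M, hMF, hFM, hAM, hMab, ?_⟩
  set C := F ⊓ Subgroup.centralizer (M : Set G) with hC
  by_contra hCM
  obtain ⟨n, hn⟩ := exists_lowerCentralSeries_eq_bot hF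
  classical
  have hex : ∃ i, C ⊓ F.lowerCentralSeries i ≤ M := ⟨n, by rw [hn, inf_bot_eq]; exact bot_le⟩
  obtain ⟨i, hi⟩ : ∃ i, Nat.find hex = i + 1 := by
    refine Nat.exists_eq_add_one.mpr (Nat.pos_of_ne_zero fun h => hCM ?_)
    have h1 := Nat.find_spec hex
    rw [h, Subgroup.lowerCentralSeries_zero, inf_eq_left.mpr inf_le_left] at h1
    exact h1
  have hi1 := Nat.find_spec hex
  rw [hi, Subgroup.lowerCentralSeries_succ] at hi1
  have hi2 := Nat.find_min hex (m := i) (by omega)
  have conjC : ∀ g : G, g ∈ Subgroup.normalizer (F : Set G) → g ∈ Subgroup.normalizer (M : Set G) →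
      ∀ x ∈ C, g * x * g⁻¹ ∈ C := by
    intro g hgF hgM x hx
    refine ⟨(Subgroup.mem_normalizer_iff.mp hgF x).mp hx.1, Subgroup.mem_centralizer_iff.mpr fun m hm => ?_⟩
    have hm' : g⁻¹ * m * g ∈ M := (Subgroup.mem_normalizer_iff''.mp hgM m).mp hm
    have h := Subgroup.mem_centralizer_iff.mp hx.2 _ hm'
    calc m * (g * x * g⁻¹) = g * ((g⁻¹ * m * g) * x) * g⁻¹ := by group
      _ = g * (x * (g⁻¹ * m * g)) * g⁻¹ := by rw [h]
      _ = g * x * g⁻¹ * m := by group
  set D := C ⊓ F.lowerCentralSeries i with hD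
  have hγA : ∀ j, A ≤ Subgroup.normalizer (F.lowerCentralSeries j : Set G) := by
    intro j
    induction j with
    | zero => exact hAF
    | succ j ihj =>
      rw [Subgroup.lowerCentralSeries_succ]
      intro a ha
      rw [Subgroup.mem_normalizer_iff_map_conj_eq, Subgroup.map_commutator,
        Subgroup.mem_normalizer_iff_map_conj_eq.mp (ihj ha), Subgroup.mem_normalizer_iff_map_conj_eq.mp (hAF ha)]
  have hMC : M ≤ C := le_inf hMF fun m hm => Subgroup.mem_centralizer_iff.mpr fun x hx => hMab x hx m hm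
  -- commutators of `D` with `F` lie in `M`
  have hDF : ∀ d ∈ D, ∀ f ∈ F, d * f * d⁻¹ * f⁻¹ ∈ M := fun d hd f hf => by
    refine hi1 ⟨?_, Subgroup.commutator_mem_commutator hd.2 hf⟩
    rw [show d * f * d⁻¹ * f⁻¹ = d * (f * d⁻¹ * f⁻¹) by group]
    exact mul_mem hd.1 (conjC f (Subgroup.le_normalizer hf) (hFM hf) _ (inv_mem hd.1))
  set D' := D ⊔ M with hD'
  have hD'F : D' ≤ F := sup_le (inf_le_left.trans inf_le_left) hMF
  have hD'C : D' ≤ C := sup_le inf_le_left hMC
  have hAC : A ≤ Subgroup.normalizer (C : Set G) :=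
    Subgroup.le_normalizer_iff.mpr fun a ha x hx => conjC a (hAF ha) (hAM ha) x hx
  have hAD' : A ≤ Subgroup.normalizer (D' : Set G) := by
    intro a ha
    rw [Subgroup.mem_normalizer_iff_map_conj_eq, hD', hD, Subgroup.map_sup,
      Subgroup.map_inf _ _ _ (MulAut.conj a).injective]
    rw [Subgroup.mem_normalizer_iff_map_conj_eq.mp (hAC ha), Subgroup.mem_normalizer_iff_map_conj_eq.mp (hγA i ha),
      Subgroup.mem_normalizer_iff_map_conj_eq.mp (hAM ha)]
  have hD'F' : ∀ d ∈ D', ∀ f ∈ F, d * f * d⁻¹ * f⁻¹ ∈ M := by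
    intro d hd f hf
    rw [hD', ← SetLike.mem_coe, Subgroup.coe_mul_of_left_le_normalizer_right D M
      ((inf_le_left.trans inf_le_left).trans hFM)] at hd
    obtain ⟨d, hd, m, hm, rfl⟩ := hd
    have hdN : d ∈ Subgroup.normalizer (M : Set G) := hFM ((inf_le_left.trans inf_le_left : D ≤ F) hd)
    have e : d * m * f * (d * m)⁻¹ * f⁻¹ = d * (m * (f * m⁻¹ * f⁻¹)) * d⁻¹ * (d * f * d⁻¹ * f⁻¹) := by group
    show d * m * f * (d * m)⁻¹ * f⁻¹ ∈ M
    rw [e]
    refine mul_mem ((Subgroup.mem_normalizer_iff.mp hdN _).mp ?_) (hDF d hd f hf)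
    exact mul_mem hm ((Subgroup.mem_normalizer_iff.mp (hFM hf) _).mp (inv_mem hm))
  obtain ⟨x0, hx0, hx0M⟩ := SetLike.not_le_iff_exists.mp hi2
  obtain ⟨x, hxD, hxM, hsign⟩ := exists_signed_mod hA (le_sup_right : M ≤ D') (hD'F.trans hFM)
    (fun u hu v hv => hD'F' u hu v (hD'F hv)) hAD' hAM
    (Subgroup.mem_sup_left hx0 : x0 ∈ D') hx0M (A : Set G).toFinite.toFinset (by simp)
  set M' := M ⊔ Subgroup.zpowers x with hM'
  have hxM' : x ∈ M' := Subgroup.mem_sup_right (Subgroup.mem_zpowers x)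
  have hMM' : M ≤ M' := le_sup_left
  have hM'S : M' ∈ S := by
    refine ⟨sup_le hMF (Subgroup.zpowers_le.mpr (hD'F hxD)), ?_, ?_, ?_⟩
    · rw [Subgroup.le_normalizer_iff]
      intro f hf u hu
      have hle : M' ≤ M'.comap (MulAut.conj f).toMonoidHom := by
        refine sup_le (fun m hm => hMM' ((Subgroup.mem_normalizer_iff.mp (hFM hf) m).mp hm))
          (Subgroup.zpowers_le.mpr ?_)
        show f * x * f⁻¹ ∈ M'
        have h := mul_mem (hMM' (inv_mem (hD'F' x hxD f hf))) hxM'
        rwa [show (x * f * x⁻¹ * f⁻¹)⁻¹ * x = f * x * f⁻¹ by group] at h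
      exact hle hu
    · rw [Subgroup.le_normalizer_iff]
      intro a ha u hu
      have hle : M' ≤ M'.comap (MulAut.conj a).toMonoidHom := by
        refine sup_le (fun m hm => hMM' ((Subgroup.mem_normalizer_iff.mp (hAM ha) m).mp hm))
          (Subgroup.zpowers_le.mpr ?_)
        show a * x * a⁻¹ ∈ M'
        rcases hsign a (by simp [ha]) with h | h
        · have h' := mul_mem (hMM' h) hxM'
          rwa [inv_mul_cancel_right] at h'
        · have h' := mul_mem (hMM' h) (inv_mem hxM')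
          rwa [mul_inv_cancel_right] at h'
      exact hle hu
    · have hxc := (hD'C hxD).2
      have hc1 : M' ≤ Subgroup.centralizer (M' : Set G) := by
        refine sup_le (fun m hm => ?_) (Subgroup.zpowers_le.mpr ?_) <;>
          rw [Subgroup.mem_centralizer_iff] <;> intro u hu
        · have hle : M' ≤ Subgroup.centralizer ({m} : Set G) := by
            refine sup_le (fun v hv => ?_) (Subgroup.zpowers_le.mpr ?_) <;>
              rw [Subgroup.mem_centralizer_singleton_iff]
            · exact hMab v hv m hm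
            · exact (Subgroup.mem_centralizer_iff.mp hxc m hm).symm
          exact Subgroup.mem_centralizer_singleton_iff.mp (hle hu)
        · have hle : M' ≤ Subgroup.centralizer ({x} : Set G) := by
            refine sup_le (fun v hv => ?_) (Subgroup.zpowers_le.mpr ?_) <;>
              rw [Subgroup.mem_centralizer_singleton_iff]
            exact Subgroup.mem_centralizer_iff.mp hxc v hv
          exact Subgroup.mem_centralizer_singleton_iff.mp (hle hu)
      exact fun u hu v hv => (Subgroup.mem_centralizer_iff.mp (hc1 hu) v hv).symm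
  exact hxM (hmax hM'S hMM' hxM')

omit [Finite G] in
/-- A nontrivial element of `M` inverted by `a` and fixed or inverted by every element of `S`. -/
theorem exists_inverted {A M : Subgroup G} (hA : Cfsg.IsElementaryAbelian 2 A)
    (hMab : ∀ x ∈ M, ∀ y ∈ M, x * y = y * x) (hAM : A ≤ Subgroup.normalizer (M : Set G))
    {a : G} (ha : a ∈ A) {m : G} (hm : m ∈ M) (ham : a * m ≠ m * a) :
    ∀ S : Finset G, (∀ b ∈ S, b ∈ A) →
      ∃ x ∈ M, x ≠ 1 ∧ a * x * a⁻¹ = x⁻¹ ∧ ∀ b ∈ S, b * x * b⁻¹ = x ∨ b * x * b⁻¹ = x⁻¹ := by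
  classical
  have sq : ∀ b ∈ A, b * b = 1 := fun b hb => by rw [← pow_two]; exact hA.2 b hb
  have conjM : ∀ b ∈ A, ∀ u ∈ M, b * u * b⁻¹ ∈ M := fun b hb u hu =>
    (Subgroup.mem_normalizer_iff.mp (hAM hb) u).mp hu
  have invol : ∀ b ∈ A, ∀ u : G, b * (b * u * b⁻¹) * b⁻¹ = u := fun b hb u => by
    rw [show b * (b * u * b⁻¹) * b⁻¹ = (b * b) * u * (b * b)⁻¹ by group, sq b hb]; group
  intro S
  induction S using Finset.induction_on with
  | empty =>
    refine fun _ => ⟨a * m * a⁻¹ * m⁻¹, mul_mem (conjM a ha m hm) (inv_mem hm), fun h => ham ?_, ?_,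
      fun b hb => absurd hb (Finset.notMem_empty b)⟩
    · rw [mul_inv_eq_one, mul_inv_eq_iff_eq_mul] at h
      exact h
    · calc a * (a * m * a⁻¹ * m⁻¹) * a⁻¹ = a * (a * m * a⁻¹) * a⁻¹ * (a * m * a⁻¹)⁻¹ := by group
        _ = (a * m * a⁻¹ * m⁻¹)⁻¹ := by rw [invol a ha]; group
  | @insert b S _ ih =>
    intro hS
    obtain ⟨x, hxM, hx1, hax, hsign⟩ := ih fun c hc => hS c (Finset.mem_insert_of_mem hc)
    have hb := hS b (Finset.mem_insert_self b S)
    have hbx := conjM b hb x hxM
    set y := x * (b * x * b⁻¹) with hy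
    have com := hMab x hxM _ hbx
    by_cases hy1 : y = 1
    · refine ⟨x, hxM, hx1, hax, fun c hc => ?_⟩
      rcases Finset.mem_insert.mp hc with rfl | hc
      · exact .inr (eq_inv_of_mul_eq_one_right hy1)
      · exact hsign c hc
    · have move : ∀ c ∈ A, c * (b * x * b⁻¹) * c⁻¹ = b * (c * x * c⁻¹) * b⁻¹ := fun c hc => by
        rw [show c * (b * x * b⁻¹) * c⁻¹ = (c * b) * x * (c * b)⁻¹ by group, elementary_comm hA hc hb]
        group
      have tr : ∀ c ∈ A, ∀ u, c * x * c⁻¹ = u → c * y * c⁻¹ = u * (b * u * b⁻¹) := fun c hc u hu => by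
        rw [hy, show c * (x * (b * x * b⁻¹)) * c⁻¹ = (c * x * c⁻¹) * (c * (b * x * b⁻¹) * c⁻¹) by group,
          move c hc, hu]
      have hyi : x⁻¹ * (b * x⁻¹ * b⁻¹) = y⁻¹ := by rw [hy, com]; group
      refine ⟨y, mul_mem hxM hbx, hy1, by rw [tr a ha _ hax, hyi], fun c hc => ?_⟩
      rcases Finset.mem_insert.mp hc with rfl | hc
      · left
        rw [tr c hb _ rfl, invol c hb, hy, com]
      · have hcA := hS c (Finset.mem_insert_of_mem hc)
        rcases hsign c hc with h | h
        · left; rw [tr c hcA _ h, hy]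
        · right; rw [tr c hcA _ h, hyi]

/-- The dual basis. -/
theorem exists_dual_basis {A M : Subgroup G} (hA : Cfsg.IsElementaryAbelian 2 A)
    (hMab : ∀ x ∈ M, ∀ y ∈ M, x * y = y * x) (hModd : Odd (Nat.card M))
    (hAM : A ≤ Subgroup.normalizer (M : Set G))
    (hfaith : ∀ a ∈ A, (∀ m ∈ M, a * m = m * a) → a = 1) :
    ∀ (k : ℕ) (B : Subgroup G), B ≤ A → Nat.card B = 2 ^ k →
      ∃ a x : Fin k → G, (∀ i, a i ∈ B ∧ x i ∈ M ∧ x i ≠ 1 ∧ a i * x i * (a i)⁻¹ = (x i)⁻¹) ∧
        (⨆ i, Subgroup.zpowers (a i)) = B ∧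
        (∀ i j, i ≠ j → a i * x j * (a i)⁻¹ = x j) ∧
        ∀ i, ∀ b ∈ A, b * x i * b⁻¹ = x i ∨ b * x i * b⁻¹ = (x i)⁻¹ := by
  classical
  intro k
  induction k with
  | zero =>
    intro B _ hB
    refine ⟨fun i => Fin.elim0 i, fun i => Fin.elim0 i, fun i => i.elim0, ?_, fun i => i.elim0,
      fun i => i.elim0⟩
    rw [Subgroup.eq_bot_of_card_le B (by rw [hB, pow_zero]), eq_bot_iff]
    exact iSup_le fun i => i.elim0
  | succ k ih =>
    intro B hBA hB
    obtain ⟨a, haB, ha1⟩ : ∃ a ∈ B, a ≠ 1 := by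
      by_contra h
      push Not at h
      rw [show B = ⊥ from eq_bot_iff.mpr fun u hu => Subgroup.mem_bot.mpr (h u hu), Subgroup.card_bot] at hB
      exact (Nat.one_lt_pow (Nat.succ_ne_zero k) one_lt_two).ne hB
    obtain ⟨m, hm, ham⟩ : ∃ m ∈ M, a * m ≠ m * a := by
      by_contra h
      push Not at h
      exact ha1 (hfaith a (hBA haB) h)
    obtain ⟨x, hxM, hx1, hax, hsign⟩ := exists_inverted hA hMab hAM (hBA haB) hm ham
      (A : Set G).toFinite.toFinset (by simp)
    replace hsign : ∀ b ∈ A, b * x * b⁻¹ = x ∨ b * x * b⁻¹ = x⁻¹ := fun b hb => hsign b (by simp [hb])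
    have hxx : x⁻¹ ≠ x := fun h => hx1 (eq_of_sq_eq_one_of_odd hModd hxM
      (by nth_rewrite 1 [← h]; rw [inv_mul_cancel]))
    set K := B ⊓ Subgroup.centralizer ({x} : Set G) with hK
    have hmemK : ∀ b ∈ B, b * x * b⁻¹ = x → b ∈ K := fun b hb h => ⟨hb, by
      show b ∈ Subgroup.centralizer ({x} : Set G)
      rw [Subgroup.mem_centralizer_singleton_iff]
      exact mul_inv_eq_iff_eq_mul.mp h⟩
    have hKx : ∀ b ∈ K, b * x * b⁻¹ = x := fun b hb =>
      mul_inv_eq_iff_eq_mul.mpr (Subgroup.mem_centralizer_singleton_iff.mp hb.2)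
    have haK : a ∉ K := fun h => hxx (hax.symm.trans (hKx a h))
    have hidx : K.relIndex B = 2 := by
      rw [Subgroup.relIndex, Subgroup.index_eq_two_iff]
      refine ⟨⟨a, haB⟩, fun b => ?_⟩
      simp only [Subgroup.mem_subgroupOf, Subgroup.coe_mul]
      rcases hsign b (hBA b.2) with h | h
      · refine Or.inr ⟨hmemK b b.2 h, fun h' => haK ?_⟩
        have := K.mul_mem (K.inv_mem (hmemK b b.2 h)) h'
        rwa [inv_mul_cancel_left] at this
      · refine Or.inl ⟨hmemK _ (B.mul_mem b.2 haB) ?_, fun h' => hxx (h.symm.trans (hKx b h'))⟩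
        calc (b : G) * a * x * ((b : G) * a)⁻¹ = (b : G) * (a * x * a⁻¹) * (b : G)⁻¹ := by group
          _ = ((b : G) * x * (b : G)⁻¹)⁻¹ := by rw [hax]; group
          _ = x := by rw [h, inv_inv]
    have hKcard : Nat.card K = 2 ^ k := by
      have h := Subgroup.relIndex_mul_relIndex ⊥ K B bot_le inf_le_left
      rw [Subgroup.relIndex_bot_left, Subgroup.relIndex_bot_left, hidx, hB, pow_succ] at h
      exact Nat.eq_of_mul_eq_mul_right two_pos h
    obtain ⟨as, xs, hprop, hsup, horth, hsig⟩ := ih K (inf_le_left.trans hBA) hKcard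
    have key : ∀ S : Finset (Fin k), ∃ b ∈ B, b ∉ K ∧ ∀ i ∈ S, b * xs i * b⁻¹ = xs i := by
      intro S
      induction S using Finset.induction_on with
      | empty => exact ⟨a, haB, haK, fun i hi => absurd hi (Finset.notMem_empty i)⟩
      | @insert j S hj ihS =>
        obtain ⟨b, hbB, hbK, hfix⟩ := ihS
        rcases hsig j b (hBA hbB) with h | h
        · exact ⟨b, hbB, hbK, fun i hi => (Finset.mem_insert.mp hi).elim (fun e => e ▸ h) (hfix i)⟩
        · have hjB : as j ∈ B := (inf_le_left : K ≤ B) (hprop j).1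
          refine ⟨b * as j, B.mul_mem hbB hjB, fun h' => hbK ?_, fun i hi => ?_⟩
          · have := K.mul_mem h' (K.inv_mem (hprop j).1)
            rwa [mul_inv_cancel_right] at this
          · rw [show b * as j * xs i * (b * as j)⁻¹ = b * (as j * xs i * (as j)⁻¹) * b⁻¹ by group]
            rcases Finset.mem_insert.mp hi with rfl | hi
            · rw [(hprop i).2.2.2, show b * (xs i)⁻¹ * b⁻¹ = (b * xs i * b⁻¹)⁻¹ by group, h, inv_inv]
            · rw [horth j i (fun e => hj (e ▸ hi)), hfix i hi]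
    obtain ⟨a0, ha0B, ha0K, ha0fix⟩ := key Finset.univ
    have ha0x : a0 * x * a0⁻¹ = x⁻¹ :=
      (hsign a0 (hBA ha0B)).resolve_left fun h => ha0K (hmemK a0 ha0B h)
    refine ⟨Fin.cons a0 as, Fin.cons x xs, fun i => ?_, ?_, fun i j hij => ?_, fun i => ?_⟩
    · refine Fin.cases ⟨ha0B, hxM, hx1, ha0x⟩ (fun i => ?_) i
      simp only [Fin.cons_succ]
      exact ⟨(inf_le_left : K ≤ B) (hprop i).1, (hprop i).2⟩
    · refine le_antisymm (iSup_le fun i => Subgroup.zpowers_le.mpr ?_) fun b hb => ?_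
      · refine Fin.cases ha0B (fun i => ?_) i
        simp only [Fin.cons_succ]
        exact (inf_le_left : K ≤ B) (hprop i).1
      · have hKle : K ≤ ⨆ i, Subgroup.zpowers (Fin.cons a0 as i) := by
          conv_lhs => rw [← hsup]
          exact iSup_le fun i => le_iSup_of_le i.succ (by simp)
        rcases hsign b (hBA hb) with h | h
        · exact hKle (hmemK b hb h)
        · have h1 : b * a0⁻¹ ∈ K := by
            refine hmemK _ (B.mul_mem hb (B.inv_mem ha0B)) ?_
            have e : a0⁻¹ * x * a0 = x⁻¹ := by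
              have hi : a0⁻¹ = a0 := inv_eq_of_mul_eq_one_left (by rw [← pow_two]; exact hA.2 _ (hBA ha0B))
              nth_rewrite 2 [← inv_inv a0]
              rw [hi]
              rwa [hi] at ha0x ⊢
            calc b * a0⁻¹ * x * (b * a0⁻¹)⁻¹ = b * (a0⁻¹ * x * a0) * b⁻¹ := by group
              _ = (b * x * b⁻¹)⁻¹ := by rw [e]; group
              _ = x := by rw [h, inv_inv]
          have h2 : a0 ∈ ⨆ i, Subgroup.zpowers (Fin.cons a0 as i) :=
            Subgroup.mem_iSup_of_mem 0 (Subgroup.mem_zpowers a0)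
          have h3 := mul_mem (hKle h1) h2
          rwa [inv_mul_cancel_right] at h3
    · revert hij
      refine Fin.cases ?_ (fun i => ?_) i <;> refine Fin.cases ?_ (fun j => ?_) j
      · exact fun h => absurd rfl h
      · intro _; simpa using ha0fix j (Finset.mem_univ j)
      · intro _; simpa using hKx _ (hprop i).1
      · intro h; simpa using horth i j (fun e => h (by rw [e]))
    · exact Fin.cases hsign hsig i

/-- The subgroup generated by an involution and an element it inverts is dihedral. -/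
theorem nonempty_mulEquiv_dihedral {a x : G} {n : ℕ} (hn : orderOf x = n) (ha : a * a = 1)
    (hax : a * x * a⁻¹ = x⁻¹) (hane : a ∉ Subgroup.zpowers x) :
    Nonempty (↥(Subgroup.zpowers a ⊔ Subgroup.zpowers x) ≃* DihedralGroup n) := by
  subst hn
  haveI : NeZero (orderOf x) := ⟨(orderOf_pos x).ne'⟩
  let c : ZMod (orderOf x) → G := fun i => x ^ i.val
  have hcast : ∀ k : ℕ, c (k : ZMod (orderOf x)) = x ^ k := fun k => by
    show x ^ (k : ZMod (orderOf x)).val = x ^ k
    rw [ZMod.val_natCast, pow_mod_orderOf]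
  have cadd : ∀ i j, c (i + j) = c i * c j := fun i j => by
    show x ^ (i + j).val = x ^ i.val * x ^ j.val
    rw [← pow_add, ZMod.val_add, pow_mod_orderOf]
  have cneg : ∀ i, c (-i) = (c i)⁻¹ := fun i => by
    apply eq_inv_of_mul_eq_one_left
    rw [← cadd, neg_add_cancel]
    show x ^ (0 : ZMod (orderOf x)).val = 1
    rw [ZMod.val_zero, pow_zero]
  have hswap : ∀ i, c i * a = a * (c i)⁻¹ := fun i => by
    have h1 : a * c i * a⁻¹ = (c i)⁻¹ := by
      show MulAut.conj a (x ^ i.val) = (x ^ i.val)⁻¹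
      rw [map_pow, MulAut.conj_apply, hax, inv_pow]
    have hi : a⁻¹ = a := inv_eq_of_mul_eq_one_left ha
    rw [← h1, hi, show a * (a * c i * a) = (a * a) * (c i * a) by group, ha, one_mul]
  have rmul : ∀ i j, c i * (a * c j) = a * c (j - i) := fun i j => by
    rw [← mul_assoc, hswap, mul_assoc, ← cneg, ← cadd, neg_add_eq_sub]
  let f : DihedralGroup (orderOf x) →* G :=
    { toFun := fun g => match g with
        | .r i => c i
        | .sr i => a * c i
      map_one' := by
        show x ^ (0 : ZMod (orderOf x)).val = 1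
        rw [ZMod.val_zero, pow_zero]
      map_mul' := by
        rintro (i | i) (j | j)
        · rw [DihedralGroup.r_mul_r]; exact cadd i j
        · rw [DihedralGroup.r_mul_sr]; exact (rmul i j).symm
        · rw [DihedralGroup.sr_mul_r]
          show a * c (i + j) = a * c i * c j
          rw [cadd, mul_assoc]
        · rw [DihedralGroup.sr_mul_sr]
          show c (j - i) = a * c i * (a * c j)
          rw [mul_assoc, rmul, ← mul_assoc, ha, one_mul] }
  have hinj : Function.Injective f := by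
    rw [injective_iff_map_eq_one]
    rintro (i | i) h
    · have h' : x ^ i.val = 1 := h
      have h1 := Nat.eq_zero_of_dvd_of_lt (orderOf_dvd_of_pow_eq_one h') (ZMod.val_lt i)
      rw [ZMod.val_eq_zero] at h1
      rw [h1]; rfl
    · exfalso
      refine hane ?_
      rw [eq_inv_of_mul_eq_one_left (h : a * x ^ i.val = 1)]
      exact inv_mem (pow_mem (Subgroup.mem_zpowers x) _)
  have hrange : f.range = Subgroup.zpowers a ⊔ Subgroup.zpowers x := by
    refine le_antisymm ?_ (sup_le (Subgroup.zpowers_le.mpr ⟨.sr 0, ?_⟩)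
      (Subgroup.zpowers_le.mpr ⟨.r 1, ?_⟩))
    · rintro _ ⟨(i | i), rfl⟩
      · exact Subgroup.mem_sup_right (pow_mem (Subgroup.mem_zpowers x) _)
      · exact mul_mem (Subgroup.mem_sup_left (Subgroup.mem_zpowers a))
          (Subgroup.mem_sup_right (pow_mem (Subgroup.mem_zpowers x) _))
    · show a * x ^ (0 : ZMod (orderOf x)).val = a
      rw [ZMod.val_zero, pow_zero, mul_one]
    · show c 1 = x
      rw [← Nat.cast_one, hcast, pow_one]
  exact ⟨((MonoidHom.ofInjective hinj).trans (MulEquiv.subgroupCongr hrange)).symm⟩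

end Cfsg.Agent.H40
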