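import Cfsg.Agent.S0215
import Cfsg.Agent.Lib.Involution.IndexTwo

/-!
Fusion of involutions in non-abelian simple groups.
-/

set_option autoImplicit false

namespace Cfsg.Agent.H40

open Subgroup

variable {G : Type*} [Group G] [Finite G] [IsSimpleGroup G]

omit [Finite G] in
theorem center_eq_bot_of_simple (hG : ¬ IsMulCommutative G) : center G = ⊥ := by
  rcases IsSimpleGroup.eq_bot_or_eq_top_of_normal (center G) inferInstance with h | h
  · exact h
  · exact absurd ⟨⟨fun a b => (mem_center_iff.mp (h ▸ mem_top a : a ∈ center G) b).symm⟩⟩ hG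

/-- An involution in a Sylow 2-subgroup of a non-abelian simple group is fused to another one. -/
theorem exists_fusion (hG : ¬ IsMulCommutative G) (T : Sylow 2 G) {u : G} (hu : orderOf u = 2)
    (huT : u ∈ T) : ∃ g : G, g * u * g⁻¹ ∈ T ∧ g * u * g⁻¹ ≠ u := by
  by_contra h
  push Not at h
  obtain ⟨N, hN, hodd, hc⟩ := S0215.result T u hu huT h
  rcases IsSimpleGroup.eq_bot_or_eq_top_of_normal N hN with rfl | rfl
  · have hmem : u ∈ center G := mem_center_iff.mpr fun g => by
      have h1 := mem_bot.mp (hc g)
      rw [mul_inv_eq_one] at h1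
      exact (mul_inv_eq_iff_eq_mul.mp h1).symm
    rw [center_eq_bot_of_simple hG, mem_bot] at hmem
    exact Involution.ne_one_of_orderOf hu hmem
  · rw [card_top] at hodd
    have h2 : 2 ∣ Nat.card G := hu ▸ orderOf_dvd_natCard u
    exact absurd hodd (Nat.not_odd_iff_even.mpr (even_iff_two_dvd.mpr h2))

/-- In a non-abelian simple group every involution is fused into each maximal subgroup of a Sylow
2-subgroup. -/
theorem exists_conj_mem (hG : ¬ IsMulCommutative G) (T : Sylow 2 G)
    (B : Subgroup ↥(T : Subgroup G)) (hB : B.index = 2) {u : G} (hu : orderOf u = 2) :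
    ∃ g : G, ∃ h : g * u * g⁻¹ ∈ T, (⟨g * u * g⁻¹, h⟩ : ↥(T : Subgroup G)) ∈ B := by
  by_contra hno
  push Not at hno
  obtain ⟨M, hM, hMi, huM⟩ := Involution.thompson_transfer T (B.map (T : Subgroup G).subtype)
    (map_subtype_le B)
    (by rw [relIndex, ← comap_subtype, comap_map_eq_self_of_injective (subtype_injective _)]
        exact hB)
    (Involution.mul_self_of_orderOf hu) (fun g hg => by
      obtain ⟨⟨w, hw⟩, hwB, rfl⟩ := hg
      exact hno g hw hwB)
  rcases IsSimpleGroup.eq_bot_or_eq_top_of_normal M hM with rfl | rfl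
  · rw [index_bot] at hMi
    haveI : IsCyclic G := isCyclic_of_prime_card hMi
    exact hG IsCyclic.isMulCommutative
  · exact huM (mem_top u)

end Cfsg.Agent.H40
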