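import Cfsg.Agent.H40.PGroupBasic
import Mathlib.GroupTheory.SpecificGroups.Cyclic
import Mathlib.RingTheory.ZMod.UnitsCyclic

/-!
A `p`-group of rank at least three has a normal elementary abelian subgroup of order `p^2`; for odd
`p`, one of rank at least four has a normal elementary abelian subgroup of order `≥ p^4`.
-/

set_option autoImplicit false
open scoped commutatorElement

namespace Cfsg.Agent.H40

variable {P : Type*} [Group P] [Finite P] {p : ℕ} [hp : Fact p.Prime]

theorem sqrt_one_cases {n : ℕ} {k : ℤ} (hn : 2 ≤ n) (h : (2 : ℤ) ^ n ∣ k * k - 1) :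
    (2 : ℤ) ^ (n - 1) ∣ k - 1 ∨ (2 : ℤ) ^ (n - 1) ∣ k + 1 := by
  obtain ⟨m, rfl⟩ : ∃ m, n = m + 1 := ⟨n - 1, by omega⟩
  rw [Nat.add_sub_cancel]
  have h2 : (2 : ℤ) ∣ k * k - 1 := (dvd_pow_self 2 (by omega)).trans h
  obtain ⟨j, rfl⟩ : ∃ j, k = 2 * j + 1 := by
    rcases Int.even_or_odd k with ⟨j, rfl⟩ | ⟨j, hj⟩
    · exfalso
      have h3 : (2 : ℤ) ∣ (j + j) * (j + j) := ⟨2 * j * j, by ring⟩
      have := Int.dvd_sub h3 h2
      norm_num at this
    · exact ⟨j, hj⟩
  have e : (2 * j + 1) * (2 * j + 1) - 1 = 2 * (2 * (j * (j + 1))) := by ring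
  rw [e, pow_succ'] at h
  have h4 : (2 : ℤ) ^ m ∣ 2 * (j * (j + 1)) := Int.dvd_of_mul_dvd_mul_left (by norm_num) h
  rcases Int.even_or_odd j with hj | hj
  · left
    have hcop : IsCoprime ((2 : ℤ) ^ m) (j + 1) := by
      refine IsCoprime.pow_left ?_
      obtain ⟨i, rfl⟩ := hj
      exact ⟨-i, 1, by ring⟩
    have : (2 : ℤ) ^ m ∣ 2 * j := hcop.dvd_of_dvd_mul_right (by rwa [← mul_assoc] at h4)
    simpa using this
  · right
    have hcop : IsCoprime ((2 : ℤ) ^ m) j := by
      refine IsCoprime.pow_left ?_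
      obtain ⟨i, rfl⟩ := hj
      exact ⟨-i, 1, by ring⟩
    have : (2 : ℤ) ^ m ∣ 2 * (j + 1) := hcop.dvd_of_dvd_mul_left (by rwa [mul_left_comm] at h4)
    convert this using 1
    ring

theorem exists_max_normal_abelian :
    ∃ A : Subgroup P, A.Normal ∧ IsMulCommutative A ∧
      ∀ W : Subgroup P, W.Normal → IsMulCommutative W → A ≤ W → W = A := by
  let S : Set (Subgroup P) := {A | A.Normal ∧ IsMulCommutative A}
  have : S.Nonempty := ⟨⊥, inferInstance, inferInstance⟩
  obtain ⟨A, hA, hmax⟩ := S.toFinite.exists_maximal this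
  exact ⟨A, hA.1, hA.2, fun W h1 h2 h3 => le_antisymm (hmax ⟨h1, h2⟩ h3) h3⟩

theorem centralizer_max_normal_abelian (hP : IsPGroup p P) {A : Subgroup P} [A.Normal]
    (hA : IsMulCommutative A)
    (hmax : ∀ W : Subgroup P, W.Normal → IsMulCommutative W → A ≤ W → W = A) :
    Subgroup.centralizer (A : Set P) = A := by
  by_contra h
  have hle : A ≤ Subgroup.centralizer (A : Set P) := fun a ha =>
    Subgroup.mem_centralizer_iff.mpr fun b hb =>
      congrArg Subtype.val (hA.is_comm.comm (⟨b, hb⟩ : A) ⟨a, ha⟩)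
  obtain ⟨K, hK, hAK, hKC, hcard⟩ := exists_normal_step hP A _ (lt_of_le_of_ne hle (Ne.symm h))
  obtain ⟨x, hxK, hxA⟩ := SetLike.exists_of_lt hAK
  have hsup : A ⊔ Subgroup.zpowers x = K := by
    refine Subgroup.eq_of_le_of_card_ge (sup_le hAK.le (Subgroup.zpowers_le.mpr hxK)) ?_
    have hd := Subgroup.card_dvd_of_le (sup_le hAK.le (Subgroup.zpowers_le.mpr hxK))
    rw [hcard] at hd ⊢
    obtain ⟨j, hj⟩ := Subgroup.card_dvd_of_le (le_sup_left : A ≤ A ⊔ Subgroup.zpowers x)
    rw [hj, mul_comm p] at hd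
    rw [hj, mul_comm p]
    rcases (Nat.dvd_prime hp.out).mp (Nat.dvd_of_mul_dvd_mul_left Nat.card_pos hd) with h1 | h1
    · exfalso
      refine hxA ?_
      have := Subgroup.eq_of_le_of_card_ge (le_sup_left : A ≤ A ⊔ Subgroup.zpowers x)
        (by rw [hj, h1, mul_one])
      rw [this]
      exact Subgroup.mem_sup_right (Subgroup.mem_zpowers x)
    · rw [h1]
  have hKc : IsMulCommutative K := by
    rw [← Subgroup.commutator_self_eq_bot_iff, Subgroup.commutator_eq_bot_iff_le_centralizer]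
    have h1 : K ≤ Subgroup.centralizer (A : Set P) := hKC
    have hxc : x ∈ Subgroup.centralizer (K : Set P) := by
      rw [Subgroup.mem_centralizer_iff, ← hsup]
      intro y hy
      have : y ∈ Subgroup.centralizer ({x} : Set P) := by
        refine (sup_le (fun a ha => ?_) (Subgroup.zpowers_le.mpr ?_) : A ⊔ Subgroup.zpowers x ≤ _) hy
        · rw [Subgroup.mem_centralizer_singleton_iff]
          exact Subgroup.mem_centralizer_iff.mp (h1 hxK) a ha
        · rw [Subgroup.mem_centralizer_singleton_iff]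
      exact Subgroup.mem_centralizer_singleton_iff.mp this
    conv_lhs => rw [← hsup]
    exact sup_le (fun a ha => Subgroup.mem_centralizer_iff.mpr fun k hk =>
      (Subgroup.mem_centralizer_iff.mp (h1 hk) a ha).symm) (Subgroup.zpowers_le.mpr hxc)
  exact hAK.ne (hmax K hK hKc hAK.le).symm

/-- The exponent of an automorphism of a finite cyclic group. -/
theorem exists_exponent_hom {A : Type*} [Group A] [Finite A] [IsCyclic A] {N : ℕ}
    (hN : Nat.card A = N) : ∃ χ : MulAut A →* (ZMod N)ˣ, Function.Injective χ ∧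
      ∀ (σ : MulAut A) (a : A) (k : ℤ), ((k : ℤ) : ZMod N) = χ σ → σ a = a ^ k := by
  obtain ⟨g, hg⟩ := IsCyclic.exists_generator (α := A)
  have hgo : orderOf g = N := by rw [← hN, orderOf_eq_card_of_forall_mem_zpowers hg]
  have hex : ∀ σ : MulAut A, ∃ k : ℤ, σ g = g ^ k := fun σ =>
    (hg (σ g)).imp fun k hk => hk.symm
  choose K hK using hex
  have huniq : ∀ (σ : MulAut A) (k : ℤ), σ g = g ^ k ↔ (k : ZMod N) = K σ := by
    intro σ k
    rw [hK σ, eq_comm, zpow_eq_zpow_iff_modEq, hgo, ← ZMod.intCast_eq_intCast_iff]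
  let f : MulAut A →* ZMod N :=
    { toFun := fun σ => (K σ : ZMod N)
      map_one' := by
        have := (huniq 1 1).mp (by simp)
        simpa using this.symm
      map_mul' := fun σ τ => by
        have : (σ * τ) g = g ^ (K σ * K τ) := by
          rw [MulAut.mul_apply, hK τ, map_zpow, hK σ, ← zpow_mul]
        have := (huniq _ _).mp this
        rw [← this]
        push_cast
        rfl }
  refine ⟨f.toHomUnits, ?_, ?_⟩
  · intro σ τ h
    have h' : (K σ : ZMod N) = K τ := congrArg Units.val h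
    apply MulEquiv.ext
    intro x
    obtain ⟨i, rfl⟩ := hg x
    show σ (g ^ i) = τ (g ^ i)
    rw [map_zpow, map_zpow, (huniq σ _).mpr h'.symm, ← hK τ]
  · intro σ a k hk
    obtain ⟨i, rfl⟩ := hg a
    show σ (g ^ i) = (g ^ i) ^ k
    rw [map_zpow, (huniq σ k).mpr hk, ← zpow_mul, ← zpow_mul, mul_comm]

/-- A `p`-group of rank at least `3` has a normal elementary abelian subgroup of order `p^2`. -/
theorem exists_normal_elementary_sq (hP : IsPGroup p P) (hrk : ¬ Cfsg.PRankLE p 2 P) :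
    ∃ U : Subgroup P, U.Normal ∧ Cfsg.IsElementaryAbelian p U ∧ Nat.card U = p ^ 2 := by
  obtain ⟨E, hE, hE3⟩ := exists_elementary_of_not_rankLE hrk
  obtain ⟨A, hAn, hAc, hAmax⟩ := exists_max_normal_abelian (P := P)
  haveI := hAn
  haveI := hAc
  have hCA := centralizer_max_normal_abelian hP hAc hAmax
  have comm : ∀ a ∈ A, ∀ b ∈ A, a * b = b * a := fun a ha b hb =>
    congrArg Subtype.val (hAc.is_comm.comm (⟨a, ha⟩ : A) ⟨b, hb⟩)
  let T : Subgroup P :=
    { carrier := {a | a ∈ A ∧ a ^ p = 1}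
      one_mem' := ⟨one_mem A, one_pow p⟩
      mul_mem' := fun {a b} ha hb => ⟨mul_mem ha.1 hb.1, by
        rw [(show Commute a b from comm a ha.1 b hb.1).mul_pow, ha.2, hb.2, one_mul]⟩
      inv_mem' := fun {a} ha => ⟨inv_mem ha.1, by rw [inv_pow, ha.2, inv_one]⟩ }
  haveI hTn : T.Normal := ⟨fun a ha g => ⟨hAn.conj_mem a ha.1 g, by
    rw [conj_pow, ha.2, mul_one, mul_inv_cancel]⟩⟩
  have hTe : Cfsg.IsElementaryAbelian p T :=
    elementary_iff.mpr ⟨fun a ha b hb => comm a ha.1 b hb.1, fun a ha => ha.2⟩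
  by_cases hT : p ^ 2 ≤ Nat.card T
  · have hbot : ⊥ < T := by
      refine bot_lt_iff_ne_bot.mpr fun h => ?_
      rw [h, Subgroup.card_bot] at hT
      exact absurd hT (not_le.mpr (Nat.one_lt_pow two_ne_zero hp.out.one_lt))
    obtain ⟨K1, hK1, -, hK1T, hK1c⟩ := exists_normal_step hP ⊥ T hbot
    rw [Subgroup.card_bot, mul_one] at hK1c
    haveI := hK1
    have hlt : K1 < T := lt_of_le_of_ne hK1T fun h => by
      rw [← h, hK1c] at hT
      exact absurd hT (not_le.mpr (lt_self_pow₀ hp.out.one_lt (by norm_num)))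
    obtain ⟨K2, hK2, -, hK2T, hK2c⟩ := exists_normal_step hP K1 T hlt
    exact ⟨K2, hK2, elementary_of_le hTe hK2T, by rw [hK2c, hK1c, sq]⟩
  have hTcard : Nat.card T ≤ p := by
    obtain ⟨n, hn⟩ := card_elementary hTe
    rw [hn] at hT ⊢
    exact le_of_le_of_eq (Nat.pow_le_pow_right hp.out.pos
      (Nat.le_of_lt_succ ((Nat.pow_lt_pow_iff_right hp.out.one_lt).mp (not_le.mp hT)))) (pow_one p)
  -- `A` is cyclic
  haveI hAcyc : IsCyclic A := by
    classical
    haveI := Fintype.ofFinite A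
    refine isCyclic_of_card_pow_eq_one_le fun k hk => ?_
    letI : CommGroup A := { (inferInstance : Group A) with mul_comm := hAc.is_comm.comm }
    have key : ∀ j : ℕ, Nat.card (powMonoidHom (p ^ j) : A →* A).ker ≤ p ^ j := by
      intro j
      induction j with
      | zero =>
        refine le_of_eq_of_le ?_ le_rfl
        rw [Subgroup.card_eq_one.mpr, pow_zero]
        ext x
        simp
      | succ j ih =>
        let f : (powMonoidHom (p ^ (j + 1)) : A →* A).ker →* A :=
          (powMonoidHom p).comp (Subgroup.subtype _)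
        have h1 := Subgroup.card_mul_index f.ker
        rw [Subgroup.index_ker] at h1
        have h2 : Nat.card f.ker ≤ p := by
          refine le_trans (Nat.card_le_card_of_injective
            (fun x => (⟨((x.1 : A) : P), (x.1 : A).2, congrArg Subtype.val x.2⟩ : T)) ?_) hTcard
          intro x y hxy
          exact Subtype.ext (Subtype.ext (Subtype.ext (congrArg (fun t : T => (t : P)) hxy)))
        have h3 : Nat.card f.range ≤ p ^ j := by
          refine le_trans (Subgroup.card_le_of_le ?_) ih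
          rintro _ ⟨x, rfl⟩
          show ((x : A) ^ p) ^ p ^ j = 1
          rw [← pow_mul, ← pow_succ']
          exact x.2
        exact h1.symm.trans_le ((Nat.mul_le_mul h2 h3).trans_eq (pow_succ' p j).symm)
    obtain ⟨m, hm⟩ := IsPGroup.iff_card.mp (hP.to_subgroup A)
    obtain ⟨j, -, hj⟩ := (Nat.dvd_prime_pow hp.out).mp (hm ▸ Nat.gcd_dvd_right k (Nat.card A))
    have : ∀ x : A, x ^ k = 1 ↔ x ^ p ^ j = 1 := fun x => by
      rw [← hj, ← orderOf_dvd_iff_pow_eq_one, ← orderOf_dvd_iff_pow_eq_one, Nat.dvd_gcd_iff]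
      exact (and_iff_left (hm ▸ orderOf_dvd_natCard x)).symm
    calc _ = Nat.card {x : A // x ^ k = 1} := by
          rw [Nat.card_eq_fintype_card, Fintype.card_subtype]
      _ = Nat.card {x : A // x ^ p ^ j = 1} := Nat.card_congr (Equiv.subtypeEquivRight this)
      _ = Nat.card (powMonoidHom (p ^ j) : A →* A).ker :=
          Nat.card_congr (Equiv.subtypeEquivRight fun x => by rfl)
      _ ≤ p ^ j := key j
      _ ≤ k := hj ▸ Nat.gcd_le_left _ hk
  obtain ⟨m, hm⟩ := IsPGroup.iff_card.mp (hP.to_subgroup A)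
  -- the action of `E` on `A`
  obtain ⟨e, he_inj, he⟩ := exists_exponent_hom hm
  let φ : E →* (ZMod (p ^ m))ˣ :=
    e.comp ((MulAut.conjNormal : P →* MulAut A).comp E.subtype)
  have hker : Nat.card φ.ker ≤ p := by
    refine le_trans (Nat.card_le_card_of_injective (fun x => (⟨((x.1 : E) : P), ?_, hE.2 _ x.1.2⟩ : T))
      ?_) hTcard
    · have h1 : (MulAut.conjNormal ((x.1 : E) : P) : MulAut A) = 1 := by
        apply he_inj
        rw [map_one]
        exact x.2
      rw [← hCA, Subgroup.mem_centralizer_iff]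
      intro a ha
      have := congrArg (fun f : MulAut A => ((f ⟨a, ha⟩ : A) : P)) h1
      simp only [MulAut.one_apply] at this
      rw [MulAut.conjNormal_apply] at this
      exact (mul_inv_eq_iff_eq_mul.mp this).symm
    · intro x y hxy
      exact Subtype.ext (Subtype.ext (congrArg (fun t : T => (t : P)) hxy))
  have hrange : p ^ 2 ≤ Nat.card φ.range := by
    have h1 := Subgroup.card_mul_index φ.ker
    rw [Subgroup.index_ker] at h1
    have : p * p ^ 2 ≤ p * Nat.card φ.range := by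
      rw [← pow_succ']
      exact le_trans hE3 (h1 ▸ Nat.mul_le_mul_right _ hker)
    exact Nat.le_of_mul_le_mul_left this hp.out.pos
  have hroot : ∀ u ∈ φ.range, u ^ p = 1 := by
    rintro _ ⟨x, rfl⟩
    rw [← map_pow, show x ^ p = 1 from Subtype.ext (hE.2 _ x.2), map_one]
  haveI : NeZero (p ^ m) := ⟨pow_ne_zero _ hp.out.ne_zero⟩
  classical
  by_cases hp2 : p = 2
  swap
  · exfalso
    haveI : IsCyclic (ZMod (p ^ m))ˣ := ZMod.isCyclic_units_of_prime_pow p hp.out hp2 m
    have h1 := IsCyclic.card_pow_eq_one_le (α := (ZMod (p ^ m))ˣ) (n := p) hp.out.pos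
    have h2 : Nat.card φ.range ≤ p := by
      refine le_trans ?_ h1
      rw [← Fintype.card_subtype, ← Nat.card_eq_fintype_card]
      exact Nat.card_le_card_of_injective (fun u => (⟨u.1, hroot u.1 u.2⟩ :
        {a : (ZMod (p ^ m))ˣ // a ^ p = 1})) (fun u v h => Subtype.ext (congrArg Subtype.val h :))
    exact absurd (hrange.trans h2) (not_le.mpr (lt_self_pow₀ hp.out.one_lt (by norm_num)))
  subst hp2
  -- p = 2
  have hm3 : 2 ≤ m := by
    by_contra h
    have h1 : Nat.card φ.range ≤ 2 := by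
      refine le_trans (Subgroup.card_le_card_group _) ?_
      rw [Nat.card_eq_fintype_card, ZMod.card_units_eq_totient]
      exact (Nat.totient_le _).trans (Nat.pow_le_pow_right (by norm_num) (by omega : m ≤ 1))
    omega
  let r : (ZMod (2 ^ m))ˣ → ℤ := fun u => ((u : ZMod (2 ^ m)).val : ℤ)
  have hr : ∀ u, ((r u : ℤ) : ZMod (2 ^ m)) = u := fun u => by
    simp [r]
  set hh : ZMod (2 ^ m) := ((2 ^ (m - 1) : ℤ) : ZMod (2 ^ m)) with hhdef
  have hh2 : hh + hh = 0 := by
    rw [hhdef, ← Int.cast_add, ← two_mul, ← pow_succ', Nat.sub_add_cancel (by omega : 1 ≤ m)]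
    rw [ZMod.intCast_zmod_eq_zero_iff_dvd]
    push_cast
    exact dvd_rfl
  have hcases : ∀ u : (ZMod (2 ^ m))ˣ, u ^ 2 = 1 →
      (u : ZMod (2 ^ m)) ∈ ({1, 1 + hh, -1, -1 + hh} : Finset (ZMod (2 ^ m))) := by
    intro u hu
    have hdvd : (2 : ℤ) ^ m ∣ r u * r u - 1 := by
      have : ((r u * r u - 1 : ℤ) : ZMod (2 ^ m)) = 0 := by
        push_cast
        rw [hr, ← Units.val_mul, ← sq, hu, Units.val_one, sub_self]
      rw [ZMod.intCast_zmod_eq_zero_iff_dvd] at this
      exact_mod_cast this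
    have half : ∀ c : ℤ, (2 : ℤ) ^ (m - 1) ∣ r u - c →
        (u : ZMod (2 ^ m)) = c ∨ (u : ZMod (2 ^ m)) = c + hh := by
      rintro c ⟨j, hj⟩
      have hu' : (u : ZMod (2 ^ m)) = c + hh * j := by
        rw [← hr u, (by linarith : r u = c + 2 ^ (m - 1) * j)]
        push_cast [hhdef]
        rfl
      rcases Int.even_or_odd j with ⟨i, rfl⟩ | ⟨i, rfl⟩
      · left
        rw [hu']; push_cast
        linear_combination (i : ZMod (2 ^ m)) * hh2
      · right
        rw [hu']; push_cast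
        linear_combination (i : ZMod (2 ^ m)) * hh2
    rcases sqrt_one_cases hm3 hdvd with h | h
    · rcases half 1 h with h | h <;> simp [h]
    · rcases half (-1) (by simpa [sub_neg_eq_add] using h) with h | h <;> simp [h]
  obtain ⟨f, hfE, hf, hfA⟩ : ∃ f : E, (f : P) ^ 2 = 1 ∧ (φ f : ZMod (2 ^ m)) = 1 + hh ∧ (f : P) ∉ A := by
    let im : Finset (ZMod (2 ^ m)) := Finset.univ.image (fun u : φ.range => ((u : (ZMod (2 ^ m))ˣ) : ZMod (2 ^ m)))
    have hsub : im ⊆ {1, 1 + hh, -1, -1 + hh} := by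
      intro x hx
      obtain ⟨u, -, rfl⟩ := Finset.mem_image.mp hx
      exact hcases _ (hroot _ u.2)
    have hcard : 4 ≤ im.card := by
      rw [Finset.card_image_of_injective _ (fun u v h => Subtype.ext (Units.ext h)), Finset.card_univ,
        ← Nat.card_eq_fintype_card]
      simpa using hrange
    have heq := Finset.eq_of_subset_of_card_le hsub (le_trans (Finset.card_le_four) hcard)
    have hmem : (1 + hh) ∈ im := heq ▸ (by simp)
    obtain ⟨⟨u, f, rfl⟩, -, hu⟩ := Finset.mem_image.mp hmem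
    refine ⟨f, hE.2 _ f.2, hu, fun hfA => ?_⟩
    have : φ f = 1 := by
      show e (MulAut.conjNormal (f : P)) = 1
      rw [(show (MulAut.conjNormal (f : P) : MulAut A) = 1 from ?_), map_one]
      apply MulEquiv.ext
      intro a
      apply Subtype.ext
      rw [MulAut.conjNormal_apply, MulAut.one_apply, comm _ hfA _ a.2, mul_inv_cancel_right]
    have hu1 : (1 : ZMod (2 ^ m)) = 1 + hh := by
      exact ((congrArg Units.val this).symm.trans hu).trans rfl
    have h0 : hh = 0 := left_eq_add.mp hu1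
    rw [hhdef, ZMod.intCast_zmod_eq_zero_iff_dvd] at h0
    have h0' : (2 : ℕ) ^ m ∣ 2 ^ (m - 1) := by exact_mod_cast h0
    have := (Nat.pow_dvd_pow_iff_le_right (by norm_num)).mp h0'
    omega
  -- conjugation by an element of `P` raises elements of `A` to an integer power
  have hpow : ∀ g : P, ∃ k : ℤ, ∀ a ∈ A, g * a * g⁻¹ = a ^ k := by
    intro g
    obtain ⟨a₀, ha₀⟩ := IsCyclic.exists_generator (α := A)
    obtain ⟨k, hk⟩ := ha₀ (MulAut.conjNormal g a₀)
    refine ⟨k, fun a ha => ?_⟩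
    obtain ⟨i, hi⟩ := ha₀ ⟨a, ha⟩
    have e1 : g * (a₀ : P) * g⁻¹ = (a₀ : P) ^ k := by
      have := congrArg Subtype.val hk
      rw [MulAut.conjNormal_apply] at this
      simpa using this.symm
    have e2 : a = (a₀ : P) ^ i := by simpa using (congrArg Subtype.val hi).symm
    rw [e2, ← MulAut.conj_apply, map_zpow, MulAut.conj_apply, e1, ← zpow_mul, ← zpow_mul, mul_comm]
  have hfact : ∀ a ∈ A, (f : P) * a * (f : P)⁻¹ = a ^ ((1 + 2 ^ (m - 1) : ℕ)) := by
    intro a ha
    have h := he (MulAut.conjNormal (f : P)) ⟨a, ha⟩ ((1 + 2 ^ (m - 1) : ℕ) : ℤ) (by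
      show _ = (φ f : ZMod (2 ^ m))
      rw [hf, hhdef]; push_cast; rfl)
    have h' := congrArg Subtype.val h
    rw [MulAut.conjNormal_apply, zpow_natCast, SubmonoidClass.coe_pow] at h'
    exact h'
  obtain ⟨a, haA, hao⟩ : ∃ a ∈ A, orderOf a = 2 ^ m := by
    obtain ⟨a₀, ha₀⟩ := IsCyclic.exists_ofOrder_eq_natCard (α := A)
    exact ⟨a₀, a₀.2, by rw [Subgroup.orderOf_coe, ha₀, hm]⟩
  set z : P := a ^ 2 ^ (m - 1) with hz
  have hzA : z ∈ A := pow_mem haA _
  have hzo : orderOf z = 2 := by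
    have hm1 : 2 ^ m = 2 ^ (m - 1) * 2 := by rw [← pow_succ, Nat.sub_add_cancel (by omega)]
    rw [hz, orderOf_pow_of_dvd (pow_ne_zero _ (by norm_num)) (by rw [hao, hm1]; exact dvd_mul_right _ _),
      hao, hm1, Nat.mul_div_cancel_left _ (by positivity)]
  have hzT : z ∈ T := ⟨hzA, by conv_lhs => rw [← hzo, pow_orderOf_eq_one]⟩
  have hTz : Subgroup.zpowers z = T := Subgroup.eq_of_le_of_card_ge (Subgroup.zpowers_le.mpr hzT)
    (by rw [Nat.card_zpowers, hzo]; exact hTcard)
  have hzc : z ∈ Subgroup.center P := by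
    have hne : T ≠ ⊥ := fun h => by
      have := hTz.trans h
      rw [Subgroup.zpowers_eq_bot] at this
      rw [this, orderOf_one] at hzo
      omega
    obtain ⟨w, hwT, hwc, hwo⟩ := exists_central_orderOf_eq hP T hne
    have hw : Subgroup.zpowers w = T := Subgroup.eq_of_le_of_card_ge (Subgroup.zpowers_le.mpr hwT)
      (by rw [Nat.card_zpowers, hwo]; exact hTcard)
    exact Subgroup.zpowers_le.mpr hwc (hw ▸ hzT)
  let U : Subgroup P := Subgroup.zpowers z ⊔ Subgroup.zpowers (f : P)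
  have hzU : Subgroup.zpowers z ≤ U := le_sup_left
  have hconj : ∀ g : P, g * (f : P) * g⁻¹ ∈ U := by
    intro g
    obtain ⟨k, hk⟩ := hpow g
    obtain ⟨k', hk'⟩ := hpow g⁻¹
    have hc : g * (f : P) * g⁻¹ * (f : P)⁻¹ ∈ A := by
      rw [← hCA, Subgroup.mem_centralizer_iff]
      intro b hb
      have hb' : g⁻¹ * b * g⁻¹⁻¹ ∈ A := hAn.conj_mem b hb g⁻¹
      rw [inv_inv] at hb'
      have hi : (f : P)⁻¹ = (f : P) := inv_eq_of_mul_eq_one_left (by rw [← sq]; exact hfE)
      have e0 : ∀ c ∈ A, (f : P) * (g * c * g⁻¹) * (f : P)⁻¹ = g * ((f : P) * c * (f : P)⁻¹) * g⁻¹ := by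
        intro c hc
        rw [hk c hc, hfact _ (zpow_mem hc k), hfact c hc, hk _ (pow_mem hc _)]
        simp only [← zpow_natCast, ← zpow_mul]
        rw [mul_comm]
      symm
      calc g * (f : P) * g⁻¹ * (f : P)⁻¹ * b
          = g * ((f : P) * (g⁻¹ * ((f : P)⁻¹ * b * (f : P)) * g) * (f : P)⁻¹) * g⁻¹ *
              (g * (f : P) * g⁻¹ * (f : P)⁻¹) := by group
        _ = (f : P) * (g * (g⁻¹ * ((f : P)⁻¹ * b * (f : P)) * g) * g⁻¹) * (f : P)⁻¹ *
              (g * (f : P) * g⁻¹ * (f : P)⁻¹) := by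
            rw [← e0]
            have := hAn.conj_mem _ (hAn.conj_mem b hb (f : P)⁻¹) g⁻¹
            simpa using this
        _ = b * (g * (f : P) * g⁻¹ * (f : P)⁻¹) := by group
    set c := g * (f : P) * g⁻¹ * (f : P)⁻¹ with hcdef
    have hsq : (c * (f : P)) ^ 2 = 1 := by
      rw [hcdef, inv_mul_cancel_right, conj_pow, hfE, mul_one, mul_inv_cancel]
    have h2 : c ^ (2 + 2 ^ (m - 1)) = 1 := by
      have hi : (f : P)⁻¹ = (f : P) := inv_eq_of_mul_eq_one_left (by rw [← sq]; exact hfE)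
      rw [show 2 + 2 ^ (m - 1) = 1 + (1 + 2 ^ (m - 1)) by omega, pow_add, pow_one, ← hfact c hc, ← hsq,
        sq, hi]
      simp only [mul_assoc]
    have h3 : c ^ 2 = 1 := by
      rcases Nat.lt_or_ge m 3 with h | h
      · obtain rfl : m = 2 := by omega
        norm_num at h2
        have h4 : c ^ 4 = 1 := h2
        exfalso
        have hu : (φ f : ZMod (2 ^ 2)) = 1 + hh := hf
        have hle : Nat.card φ.range ≤ 2 := by
          refine le_trans (Subgroup.card_le_card_group _) ?_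
          rw [Nat.card_eq_fintype_card, ZMod.card_units_eq_totient]
          decide
        omega
      · obtain ⟨j, rfl⟩ : ∃ j, m = j + 3 := ⟨m - 3, by omega⟩
        have he : 2 + 2 ^ (j + 3 - 1) = 2 * (1 + 2 ^ (j + 1)) := by
          rw [show j + 3 - 1 = (j + 1) + 1 by omega, pow_succ]; ring
        rw [he, pow_mul] at h2
        have hd1 : orderOf (c ^ 2) ∣ 1 + 2 ^ (j + 1) := orderOf_dvd_of_pow_eq_one h2
        obtain ⟨i, hi⟩ := IsPGroup.iff_orderOf.mp hP (c ^ 2)
        rw [← orderOf_eq_one_iff, hi]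
        rcases Nat.eq_zero_or_pos i with rfl | hi0
        · simp
        · exfalso
          rw [hi] at hd1
          have h5 := (dvd_pow_self 2 hi0.ne').trans hd1
          have h6 : 2 ∣ 2 ^ (j + 1) := dvd_pow_self 2 (by omega)
          omega
    have hcU : c ∈ U := hzU (hTz ▸ (⟨hc, h3⟩ : c ∈ T))
    have := mul_mem hcU (Subgroup.mem_sup_right (S := Subgroup.zpowers z) (Subgroup.mem_zpowers (f : P)))
    rwa [hcdef, inv_mul_cancel_right] at this
  have hUe : Cfsg.IsElementaryAbelian 2 U := by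
    refine elementary_sup (elementary_zpowers hzT.2) (elementary_zpowers hfE) ?_
    rintro x hx y -
    exact ((Subgroup.mem_center_iff.mp (Subgroup.zpowers_le.mpr hzc hx)) y).symm
  have hUn : U.Normal := by
    rw [← Subgroup.normalizer_eq_top_iff, eq_top_iff]
    intro g _
    rw [Subgroup.mem_normalizer_iff_map_conj_eq]
    refine Subgroup.eq_of_le_of_card_ge ?_
      (by rw [Subgroup.card_map_of_injective (MulAut.conj g).injective])
    rw [Subgroup.map_sup, MonoidHom.map_zpowers, MonoidHom.map_zpowers, sup_le_iff,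
      Subgroup.zpowers_le, Subgroup.zpowers_le]
    refine ⟨?_, hconj g⟩
    show g * z * g⁻¹ ∈ U
    rw [Subgroup.mem_center_iff.mp hzc g, mul_inv_cancel_right]
    exact hzU (Subgroup.mem_zpowers z)
  refine ⟨U, hUn, hUe, le_antisymm ?_ ?_⟩
  · haveI : (Subgroup.zpowers z).Normal := normal_of_le_center' (Subgroup.zpowers_le.mpr hzc)
    have hmap : U.map (QuotientGroup.mk' (Subgroup.zpowers z)) =
        Subgroup.zpowers (QuotientGroup.mk' (Subgroup.zpowers z) (f : P)) := by
      rw [Subgroup.map_sup, QuotientGroup.map_mk'_self, bot_sup_eq, MonoidHom.map_zpowers]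
    have := card_map_quotient_mul hzU
    rw [hmap, Nat.card_zpowers, Nat.card_zpowers, hzo] at this
    rw [← this, sq]
    refine Nat.mul_le_mul_right _ (Nat.le_of_dvd (by norm_num) (orderOf_dvd_of_pow_eq_one ?_))
    rw [← map_pow, hfE, map_one]
  · obtain ⟨n, hn⟩ := card_elementary hUe
    rw [hn]
    refine Nat.pow_le_pow_right (by norm_num) ?_
    by_contra h
    have h1 : Nat.card U ≤ Nat.card (Subgroup.zpowers z) := by
      rw [Nat.card_zpowers, hzo, hn]
      exact le_of_le_of_eq (Nat.pow_le_pow_right (by norm_num) (by omega : n ≤ 1)) (pow_one 2)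
    have h2 := Subgroup.eq_of_le_of_card_ge hzU h1
    apply hfA
    have h3 : (f : P) ∈ U := Subgroup.mem_sup_right (Subgroup.mem_zpowers (f : P))
    rw [← h2] at h3
    exact Subgroup.zpowers_le.mpr hzA h3

end Cfsg.Agent.H40
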