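import Cfsg.Agent.Lib.LinearGroup.Simple
import Cfsg.Agent.Lib.Components.GenFitting
import Mathlib.LinearAlgebra.Matrix.GeneralLinearGroup.Defs

/-!
`SL_m` embedded in the upper left corner of `SL_{m+1}` and `GL_{m+1}`.
-/

set_option autoImplicit false
open Matrix

namespace Cfsg.Agent.H40

variable {F : Type*} [Field F] {m : ℕ}

theorem isQuasisimple_SL {ι : Type*} [Fintype ι] [DecidableEq ι] [Nontrivial ι]
    (h : Fintype.card ι = 2 → ∃ a : F, a ≠ 0 ∧ a ^ 2 ≠ 1) :
    Cfsg.IsQuasisimple (SpecialLinearGroup ι F) :=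
  ⟨⟨LinearGroup.commutator_SL_eq_top' h⟩, LinearGroup.isSimpleGroup_PSL' h⟩

/-- The block diagonal matrix `diag(A, 1)`. -/
def blockMat (A : Matrix (Fin m) (Fin m) F) : Matrix (Fin (m + 1)) (Fin (m + 1)) F :=
  Matrix.reindex finSumFinEquiv finSumFinEquiv (Matrix.fromBlocks A 0 0 (1 : Matrix (Fin 1) (Fin 1) F))

theorem blockMat_cast_cast (A : Matrix (Fin m) (Fin m) F) (a b : Fin m) :
    blockMat A a.castSucc b.castSucc = A a b := by
  simp [blockMat]

theorem blockMat_cast_last (A : Matrix (Fin m) (Fin m) F) (a : Fin m) :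
    blockMat A a.castSucc (Fin.last m) = 0 := by
  simp [blockMat]

theorem blockMat_last_cast (A : Matrix (Fin m) (Fin m) F) (b : Fin m) :
    blockMat A (Fin.last m) b.castSucc = 0 := by
  simp [blockMat]

theorem blockMat_last_last (A : Matrix (Fin m) (Fin m) F) :
    blockMat A (Fin.last m) (Fin.last m) = 1 := by
  simp [blockMat]

theorem blockMat_mul (A B : Matrix (Fin m) (Fin m) F) :
    blockMat (A * B) = blockMat A * blockMat B := by
  simp [blockMat, Matrix.submatrix_mul_equiv, Matrix.fromBlocks_multiply]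

theorem det_blockMat (A : Matrix (Fin m) (Fin m) F) : (blockMat A).det = A.det := by
  rw [blockMat, Matrix.det_reindex_self, Matrix.det_fromBlocks_zero₂₁, Matrix.det_one, mul_one]

/-- `A ↦ diag(A, 1)` on `SL`. -/
def embSL : SpecialLinearGroup (Fin m) F →* SpecialLinearGroup (Fin (m + 1)) F where
  toFun A := ⟨blockMat (A : Matrix (Fin m) (Fin m) F), by rw [det_blockMat]; exact A.2⟩
  map_one' := Subtype.ext (by
    show blockMat (1 : Matrix (Fin m) (Fin m) F) = 1
    rw [blockMat, Matrix.fromBlocks_one, Matrix.reindex_apply,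
      Matrix.submatrix_one_equiv])
  map_mul' A B := Subtype.ext (blockMat_mul _ _)

theorem coe_embSL (A : SpecialLinearGroup (Fin m) F) :
    ((embSL A : SpecialLinearGroup (Fin (m + 1)) F) : Matrix (Fin (m + 1)) (Fin (m + 1)) F) =
      blockMat (A : Matrix (Fin m) (Fin m) F) := rfl

theorem embSL_injective :
    Function.Injective (embSL : SpecialLinearGroup (Fin m) F →* SpecialLinearGroup (Fin (m + 1)) F) := by
  intro A B h
  have h' : blockMat (A : Matrix (Fin m) (Fin m) F) = blockMat (B : Matrix (Fin m) (Fin m) F) := by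
    rw [← coe_embSL, ← coe_embSL, h]
  apply Subtype.ext
  ext a b
  rw [← blockMat_cast_cast (A : Matrix (Fin m) (Fin m) F) a b, h', blockMat_cast_cast]

/-- Block diagonal matrices. -/
def IsBlock (g : Matrix (Fin (m + 1)) (Fin (m + 1)) F) : Prop :=
  ∀ a : Fin m, g a.castSucc (Fin.last m) = 0 ∧ g (Fin.last m) a.castSucc = 0

theorem isBlock_blockMat (A : Matrix (Fin m) (Fin m) F) : IsBlock (blockMat A) :=
  fun a => ⟨blockMat_cast_last A a, blockMat_last_cast A a⟩

theorem isBlock_mul {g h : Matrix (Fin (m + 1)) (Fin (m + 1)) F} (hg : IsBlock g) (hh : IsBlock h) :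
    IsBlock (g * h) ∧
      (g * h) (Fin.last m) (Fin.last m) = g (Fin.last m) (Fin.last m) * h (Fin.last m) (Fin.last m) := by
  refine ⟨fun a => ⟨?_, ?_⟩, ?_⟩ <;> rw [Matrix.mul_apply, Fin.sum_univ_castSucc]
  · simp [fun c => (hh c).1, (hg a).1]
  · simp [fun c => (hg c).2, (hh a).2]
  · simp [fun c => (hg c).2]

theorem eq_blockMat {g : Matrix (Fin (m + 1)) (Fin (m + 1)) F} (hg : IsBlock g)
    (h1 : g (Fin.last m) (Fin.last m) = 1) :
    g = blockMat (g.submatrix Fin.castSucc Fin.castSucc) := by
  ext a b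
  refine Fin.lastCases ?_ (fun a => ?_) a <;> refine Fin.lastCases ?_ (fun b => ?_) b
  · rw [blockMat_last_last, h1]
  · rw [blockMat_last_cast, (hg b).2]
  · rw [blockMat_cast_last, (hg a).1]
  · rw [blockMat_cast_cast]; rfl

theorem mem_range_embSL {g : SpecialLinearGroup (Fin (m + 1)) F} :
    g ∈ (embSL (F := F) (m := m)).range ↔
      IsBlock (g : Matrix (Fin (m + 1)) (Fin (m + 1)) F) ∧
        (g : Matrix (Fin (m + 1)) (Fin (m + 1)) F) (Fin.last m) (Fin.last m) = 1 := by
  constructor
  · rintro ⟨A, rfl⟩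
    exact ⟨isBlock_blockMat _, blockMat_last_last _⟩
  · rintro ⟨hg, h1⟩
    have he := eq_blockMat hg h1
    have hd : ((g : Matrix (Fin (m + 1)) (Fin (m + 1)) F).submatrix Fin.castSucc Fin.castSucc).det = 1 := by
      rw [← det_blockMat, ← he]
      exact g.2
    exact ⟨⟨_, hd⟩, Subtype.ext he.symm⟩

/-- A matrix commuting with `diag(1, …, 1, -1)` or its negative is block diagonal. -/
theorem isBlock_of_commute_diagonal (e : Fin (m + 1) → F) (he : ∀ a : Fin m, e a.castSucc ≠ e (Fin.last m))
    {g : Matrix (Fin (m + 1)) (Fin (m + 1)) F} (h : g * Matrix.diagonal e = Matrix.diagonal e * g) :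
    IsBlock g := by
  intro a
  constructor
  · have h1 := congrFun (congrFun h a.castSucc) (Fin.last m)
    rw [Matrix.mul_diagonal, Matrix.diagonal_mul] at h1
    by_contra hne
    apply he a
    rw [mul_comm (e a.castSucc)] at h1
    exact (mul_left_cancel₀ hne h1).symm
  · have h1 := congrFun (congrFun h (Fin.last m)) a.castSucc
    rw [Matrix.mul_diagonal, Matrix.diagonal_mul] at h1
    by_contra hne
    apply he a
    rw [mul_comm (e (Fin.last m))] at h1
    exact mul_left_cancel₀ hne h1

theorem commute_diagonal_of_isBlock (e : Fin (m + 1) → F) (he : ∀ a b : Fin m, e a.castSucc = e b.castSucc)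
    {g : Matrix (Fin (m + 1)) (Fin (m + 1)) F} (hg : IsBlock g) :
    g * Matrix.diagonal e = Matrix.diagonal e * g := by
  ext a b
  rw [Matrix.mul_diagonal, Matrix.diagonal_mul]
  refine Fin.lastCases ?_ (fun a => ?_) a <;> refine Fin.lastCases ?_ (fun b => ?_) b
  · ring
  · rw [(hg b).2]; ring
  · rw [(hg a).1]; ring
  · rw [he a b]; ring

/-- What commutes with every `diag(A, 1)` is `diag(c, …, c, d)`. -/
theorem diagonal_of_commute_embSL (hm : 2 ≤ m) {x : Matrix (Fin (m + 1)) (Fin (m + 1)) F}
    (h : ∀ A : SpecialLinearGroup (Fin m) F, x * blockMat (A : Matrix (Fin m) (Fin m) F) =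
      blockMat (A : Matrix (Fin m) (Fin m) F) * x) :
    x = Matrix.diagonal x.diag ∧ ∀ a b : Fin m, x.diag a.castSucc = x.diag b.castSucc := by
  classical
  haveI : Nontrivial (Fin m) := Fin.nontrivial_iff_two_le.mpr hm
  have ht : ∀ a b : Fin m, a ≠ b → x * Matrix.single a.castSucc b.castSucc (1 : F) =
      Matrix.single a.castSucc b.castSucc (1 : F) * x := by
    intro a b hab
    have h1 := h ⟨Matrix.transvection a b 1, Matrix.det_transvection_of_ne a b hab 1⟩
    have h2 : blockMat (Matrix.transvection a b (1 : F)) =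
        Matrix.transvection a.castSucc b.castSucc (1 : F) := by
      ext c d
      refine Fin.lastCases ?_ (fun c => ?_) c <;> refine Fin.lastCases ?_ (fun d => ?_) d
      · simp [blockMat_last_last, Matrix.transvection, Matrix.single_apply,
          (Fin.castSucc_lt_last a).ne]
      · simp [blockMat_last_cast, Matrix.transvection, Matrix.single_apply,
          (Fin.castSucc_lt_last a).ne, (Fin.castSucc_lt_last d).ne']
      · simp [blockMat_cast_last, Matrix.transvection, Matrix.single_apply,
          (Fin.castSucc_lt_last c).ne, (Fin.castSucc_lt_last b).ne]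
      · simp [blockMat_cast_cast, Matrix.transvection, Matrix.single_apply, Matrix.one_apply]
    change x * blockMat (Matrix.transvection a b (1 : F)) = blockMat (Matrix.transvection a b (1 : F)) * x at h1
    rw [h2] at h1
    simpa only [Matrix.transvection, Matrix.mul_add, Matrix.add_mul, mul_one, one_mul, add_right_inj] using h1
  have hcol : ∀ (a : Fin m) (c : Fin (m + 1)), c ≠ a.castSucc → x c a.castSucc = 0 := by
    intro a c hc
    obtain ⟨b, hb⟩ := exists_ne a
    have := congrFun (congrFun (ht a b hb.symm) c) b.castSucc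
    simpa [hc] using this
  have hdiag : ∀ a b : Fin m, x a.castSucc a.castSucc = x b.castSucc b.castSucc := by
    intro a b
    rcases eq_or_ne a b with rfl | hab
    · rfl
    · have := congrFun (congrFun (ht a b hab) a.castSucc) b.castSucc
      simpa using this
  refine ⟨?_, fun a b => hdiag a b⟩
  ext c d
  rcases eq_or_ne c d with rfl | hcd
  · simp
  · rw [Matrix.diagonal_apply_ne _ hcd]
    revert hcd
    refine Fin.lastCases ?_ (fun d => ?_) d
    · refine Fin.lastCases ?_ (fun c => ?_) c
      · exact fun h => absurd rfl h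
      · intro _
        obtain ⟨a, ha⟩ := exists_ne c
        have := congrFun (congrFun (ht a c ha) a.castSucc) (Fin.last m)
        simpa [(Fin.castSucc_lt_last c).ne, (Fin.castSucc_lt_last c).ne'] using this.symm
    · exact fun hcd => hcol d c hcd

end Cfsg.Agent.H40
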