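import Cfsg.Agent.H40.QuadraticBound
import Cfsg.Agent.Lib.PGroup.Basic
import Cfsg.Prelude.Def_Transfer
import Mathlib.Algebra.Module.ZMod

/-!
Groups of class two and exponent four whose involutions form a subgroup.
-/

set_option autoImplicit false

namespace Cfsg.Agent.H40.ClassTwoExpFour

open Subgroup Module
open scoped commutatorElement

theorem zmod_two_cases : ∀ c : ZMod 2, c = 0 ∨ c = 1 := by decide

variable {G : Type*} [Group G] [Finite G]

theorem card_bound (hG : IsPGroup 2 G) (hcl : commutator G ≤ center G) (hexp : ∀ x : G, x ^ 4 = 1)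
    (hN : ∀ x y : G, x ^ 2 = 1 → y ^ 2 = 1 → (x * y) ^ 2 = 1) :
    Nat.card G ≤ Nat.card {x : G // x ^ 2 = 1} ^ 3 ∧
      (¬ Cfsg.IsSpecial 2 G → Nat.card G < Nat.card {x : G // x ^ 2 = 1} ^ 3) := by
  classical
  haveI : Fact (Nat.Prime 2) := ⟨Nat.prime_two⟩
  let N : Subgroup G :=
    { carrier := {x | x ^ 2 = 1}
      one_mem' := one_pow 2
      mul_mem' := fun ha hb => hN _ _ ha hb
      inv_mem' := fun {a} ha => by
        show a⁻¹ ^ 2 = 1
        rw [inv_pow, show a ^ 2 = 1 from ha, inv_one] }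
  have hsqN : ∀ x : G, x ^ 2 ∈ N := fun x => by
    show (x ^ 2) ^ 2 = 1
    rw [← pow_mul]; exact hexp x
  have hc : ∀ a b g : G, Commute g ⁅a, b⁆ := fun a b g =>
    mem_center_iff.mp (hcl (commutator_mem_commutator (mem_top a) (mem_top b))) g
  have hsq : ∀ x y : G, (x * y) ^ 2 = x ^ 2 * y ^ 2 * ⁅y, x⁆ := by
    intro x y
    calc (x * y) ^ 2 = x * (⁅y, x⁆ * (x * y)) * y := by rw [pow_two, commutatorElement_def]; group
      _ = x * (x * y * ⁅y, x⁆) * y := by rw [(hc y x (x * y)).eq]
      _ = x * x * y * (⁅y, x⁆ * y) := by group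
      _ = x ^ 2 * y ^ 2 * ⁅y, x⁆ := by rw [← (hc y x y).eq, pow_two, pow_two]; group
  have hcN : ∀ a b : G, ⁅a, b⁆ ∈ N := fun a b => by
    have h := mul_mem (inv_mem (mul_mem (hsqN b) (hsqN a))) (hsqN (b * a))
    rwa [hsq, inv_mul_cancel_left] at h
  have hsqc : ∀ x : G, x ^ 2 ∈ center G := fun x => mem_center_iff.mpr fun y => by
    have h1 : y * x = ⁅y, x⁆ * x * y := by rw [commutatorElement_def]; group
    have h2 : ⁅y, x⁆ * ⁅y, x⁆ = 1 := by rw [← pow_two]; exact hcN y x
    calc y * x ^ 2 = y * x * x := by rw [pow_two]; group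
      _ = ⁅y, x⁆ * x * (y * x) := by rw [h1]; group
      _ = ⁅y, x⁆ * (x * ⁅y, x⁆) * x * y := by rw [h1]; group
      _ = ⁅y, x⁆ * ⁅y, x⁆ * (x * x * y) := by rw [(hc y x x).eq]; group
      _ = x ^ 2 * y := by rw [h2, one_mul, pow_two]
  set F := closure (Set.range fun g : G => g ^ 2) with hFdef
  have hFc : F ≤ center G := by rw [hFdef, closure_le]; rintro _ ⟨g, rfl⟩; exact hsqc g
  have hFN : F ≤ N := by rw [hFdef, closure_le]; rintro _ ⟨g, rfl⟩; exact hsqN g
  haveI : F.Normal := ⟨fun a ha g => by rwa [mem_center_iff.mp (hFc ha) g, mul_inv_cancel_right]⟩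
  have hsqF : ∀ x : G, x ^ 2 ∈ F := fun x => subset_closure ⟨x, rfl⟩
  have hcF : ∀ a b : G, ⁅a, b⁆ ∈ F := fun a b => by
    have h := mul_mem (inv_mem (mul_mem (hsqF b) (hsqF a))) (hsqF (b * a))
    rwa [hsq, inv_mul_cancel_left] at h
  have hinv : ∀ x y : G, (x * y) ^ 2 = x ^ 2 → y ^ 2 = ⁅y, x⁆⁻¹ := fun x y h => by
    rw [hsq, mul_assoc] at h
    exact eq_inv_of_mul_eq_one_left (mul_eq_left.mp h)
  -- the squaring map
  letI : CommGroup F :=
    { (inferInstance : Group F) with
      mul_comm := fun a b => Subtype.ext (mem_center_iff.mp (hFc b.2) a) }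
  letI : CommGroup (G ⧸ F) :=
    { (inferInstance : Group (G ⧸ F)) with
      mul_comm := fun a b => by
        induction a using QuotientGroup.induction_on with
        | H a => induction b using QuotientGroup.induction_on with
          | H b =>
            show ((a * b : G) : G ⧸ F) = ((b * a : G) : G ⧸ F)
            rw [QuotientGroup.eq, show (a * b)⁻¹ * (b * a) = ⁅b⁻¹, a⁻¹⁆ by
              rw [commutatorElement_def]; group]
            exact hcF _ _ }
  haveI : Module (ZMod 2) (Additive F) := AddCommGroup.zmodModule fun x => by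
    show Additive.toMul x ^ 2 = 1
    exact Subtype.ext (hFN (Additive.toMul x).2)
  haveI : Module (ZMod 2) (Additive (G ⧸ F)) := AddCommGroup.zmodModule fun x => by
    show Additive.toMul x ^ 2 = 1
    induction Additive.toMul x using QuotientGroup.induction_on with
    | H a =>
      show ((a ^ 2 : G) : G ⧸ F) = 1
      exact (QuotientGroup.eq_one_iff _).mpr (hsqF a)
  let q₀ : G ⧸ F → F := Quotient.lift (fun g => ⟨g ^ 2, hsqF g⟩) fun a b hab => by
    have hn : a⁻¹ * b ∈ F := QuotientGroup.leftRel_apply.mp hab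
    refine Subtype.ext (show a ^ 2 = b ^ 2 from ?_)
    conv_rhs => rw [show b = a * (a⁻¹ * b) by group]
    rw [Commute.mul_pow (mem_center_iff.mp (hFc hn) a : Commute a (a⁻¹ * b)),
      show (a⁻¹ * b) ^ 2 = 1 from hFN hn, mul_one]
  let q : Additive (G ⧸ F) → Additive F := fun u => Additive.ofMul (q₀ (Additive.toMul u))
  have hpol : ∀ a b : G, QuadraticMap.polar q (Additive.ofMul (a : G ⧸ F))
      (Additive.ofMul (b : G ⧸ F)) = Additive.ofMul (⟨⁅b, a⁆, hcF b a⟩ : F) := by
    intro a b
    show Additive.ofMul ((⟨(a * b) ^ 2, hsqF (a * b)⟩ : F) / ⟨a ^ 2, hsqF a⟩ / ⟨b ^ 2, hsqF b⟩) = _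
    refine congrArg Additive.ofMul ?_
    rw [div_div, div_eq_iff_eq_mul']
    exact Subtype.ext (hsq a b)
  have hadd : ∀ x x' y : Additive (G ⧸ F),
      QuadraticMap.polar q (x + x') y = QuadraticMap.polar q x y + QuadraticMap.polar q x' y := by
    intro x x' y
    obtain ⟨a, ha⟩ := QuotientGroup.mk_surjective (Additive.toMul x)
    obtain ⟨a', ha'⟩ := QuotientGroup.mk_surjective (Additive.toMul x')
    obtain ⟨b, hb⟩ := QuotientGroup.mk_surjective (Additive.toMul y)
    rw [show x = Additive.ofMul (a : G ⧸ F) from ha.symm, show x' = Additive.ofMul (a' : G ⧸ F)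
      from ha'.symm, show y = Additive.ofMul (b : G ⧸ F) from hb.symm,
      show Additive.ofMul (a : G ⧸ F) + Additive.ofMul (a' : G ⧸ F) =
        Additive.ofMul ((a * a' : G) : G ⧸ F) from rfl, hpol, hpol, hpol]
    refine congrArg Additive.ofMul (Subtype.ext (show ⁅b, a * a'⁆ = ⁅b, a⁆ * ⁅b, a'⁆ from ?_))
    calc ⁅b, a * a'⁆ = ⁅b, a⁆ * (a * ⁅b, a'⁆ * a⁻¹) := by simp only [commutatorElement_def]; group
      _ = _ := by rw [(hc b a' a).eq, mul_inv_cancel_right]
  have hq0 : q 0 = 0 :=
    congrArg Additive.ofMul (Subtype.ext (one_pow 2) : (⟨(1 : G) ^ 2, hsqF 1⟩ : F) = 1)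
  let Q : QuadraticMap (ZMod 2) (Additive (G ⧸ F)) (Additive F) :=
    QuadraticMap.ofPolar q (fun c x => by
      have hcases : c = 0 ∨ c = 1 := zmod_two_cases c
      rcases hcases with rfl | rfl
      · rw [zero_smul, mul_zero, zero_smul, hq0]
      · rw [one_smul, mul_one, one_smul]) hadd (fun c x y => by
      have hcases : c = 0 ∨ c = 1 := zmod_two_cases c
      rcases hcases with rfl | rfl
      · rw [zero_smul, zero_smul, QuadraticMap.polar, zero_add, hq0, sub_zero, sub_self]
      · rw [one_smul, one_smul])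
  let K : Submodule (ZMod 2) (Additive (G ⧸ F)) :=
    AddSubgroup.toZModSubmodule 2 (Subgroup.toAddSubgroup (N.map (QuotientGroup.mk' F)))
  have hzero : ∀ u, Q u = 0 → u ∈ K := by
    intro u hu
    obtain ⟨a, ha⟩ := QuotientGroup.mk_surjective (Additive.toMul u)
    rw [show u = Additive.ofMul (a : G ⧸ F) from ha.symm] at hu ⊢
    exact ⟨a, congrArg Subtype.val (Additive.ofMul.injective hu : (⟨a ^ 2, hsqF a⟩ : F) = 1), rfl⟩
  -- cardinalities
  have hcW : Nat.card F = 2 ^ finrank (ZMod 2) (Additive F) := by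
    have h := Module.natCard_eq_pow_finrank (K := ZMod 2) (V := Additive F)
    rw [Nat.card_zmod] at h
    exact (Nat.card_congr Additive.ofMul).trans h
  have hcU : Nat.card (G ⧸ F) = 2 ^ finrank (ZMod 2) (Additive (G ⧸ F)) := by
    have h := Module.natCard_eq_pow_finrank (K := ZMod 2) (V := Additive (G ⧸ F))
    rw [Nat.card_zmod] at h
    exact (Nat.card_congr Additive.ofMul).trans h
  have hcK : Nat.card (N.map (QuotientGroup.mk' F)) = 2 ^ finrank (ZMod 2) K := by
    have h := Module.natCard_eq_pow_finrank (K := ZMod 2) (V := K)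
    rw [Nat.card_zmod] at h
    exact h
  have hcardN : Nat.card {x : G // x ^ 2 = 1} =
      2 ^ (finrank (ZMod 2) K + finrank (ZMod 2) (Additive F)) := by
    rw [pow_add, ← hcK, ← hcW, ← relIndex_bot_left (F), ← relIndex_ker]
    rw [QuotientGroup.ker_mk', mul_comm, relIndex_mul_relIndex _ _ _ bot_le hFN, relIndex_bot_left]
    rfl
  have hcardG : Nat.card G =
      2 ^ (finrank (ZMod 2) (Additive (G ⧸ F)) + finrank (ZMod 2) (Additive F)) := by
    rw [pow_add, ← hcU, ← hcW, ← card_eq_card_quotient_mul_card_subgroup]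
  have hbound := QuadraticBound.finrank_le_add Q K hzero
  rw [hcardG, hcardN, ← pow_mul]
  refine ⟨Nat.pow_le_pow_right two_pos (by omega), fun hns => Nat.pow_lt_pow_right one_lt_two ?_⟩
  rcases Nat.eq_zero_or_pos (finrank (ZMod 2) K) with hk | hk
  swap
  · omega
  have hzero' : ∀ u, Q u = 0 → u = 0 := fun u hu => by
    have h := hzero u hu
    rwa [Submodule.finrank_eq_zero.mp hk, Submodule.mem_bot] at h
  suffices finrank (ZMod 2) (Additive (G ⧸ F)) < 2 * finrank (ZMod 2) (Additive F) by omega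
  have hFrat : frattini G = F := PGroup.frattini_eq_closure_sq hG
  by_cases hZ : center G ≤ F
  · -- the derived group is a proper subgroup of `F`
    have hcomm : commutator G ≤ F := by
      rw [_root_.commutator_def, commutator_le]; exact fun a _ b _ => hcF a b
    have hne : ¬ F ≤ commutator G := fun hF => hns ⟨hG, hFrat.trans (le_antisymm hFc hZ),
      le_antisymm hcl (hZ.trans hF)⟩
    obtain ⟨w₀, hw₀, hw₀n⟩ := SetLike.not_le_iff_exists.mp hne
    let D : Submodule (ZMod 2) (Additive F) :=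
      AddSubgroup.toZModSubmodule 2 (Subgroup.toAddSubgroup ((commutator G).subgroupOf F))
    obtain ⟨l, hl0, hlD⟩ := Submodule.exists_le_ker_of_lt_top D (lt_top_iff_ne_top.mpr fun h => by
      have : Additive.ofMul (⟨w₀, hw₀⟩ : F) ∈ D := h ▸ Submodule.mem_top
      exact hw₀n this)
    refine QuadraticBound.finrank_lt_of_linear Q hzero' l hl0 fun u v => ?_
    obtain ⟨a, ha⟩ := QuotientGroup.mk_surjective (Additive.toMul u)
    obtain ⟨b, hb⟩ := QuotientGroup.mk_surjective (Additive.toMul v)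
    have h1 : l (QuadraticMap.polar q u v) = 0 := by
      rw [show u = Additive.ofMul (a : G ⧸ F) from ha.symm,
        show v = Additive.ofMul (b : G ⧸ F) from hb.symm, hpol]
      exact LinearMap.mem_ker.mp (hlD (show (⟨⁅b, a⁆, hcF b a⟩ : F) ∈ (commutator G).subgroupOf F
        from commutator_mem_commutator (mem_top b) (mem_top a)))
    rw [QuadraticMap.polar, map_sub, map_sub, sub_sub, sub_eq_zero] at h1
    exact h1
  · obtain ⟨z, hz, hzF⟩ := SetLike.not_le_iff_exists.mp hZ
    refine QuadraticBound.finrank_lt_of_radical Q hzero' (z := Additive.ofMul (z : G ⧸ F))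
      (fun h => hzF ((QuotientGroup.eq_one_iff z).mp (Additive.ofMul.injective h))) fun v => ?_
    obtain ⟨b, hb⟩ := QuotientGroup.mk_surjective (Additive.toMul v)
    rw [show v = Additive.ofMul (b : G ⧸ F) from hb.symm]
    exact congrArg Additive.ofMul (Subtype.ext
      (show (z * b) ^ 2 = z ^ 2 * b ^ 2 from
        Commute.mul_pow (mem_center_iff.mp hz b : Commute b z).symm 2))

end Cfsg.Agent.H40.ClassTwoExpFour
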