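import Cfsg.Agent.Lib.Components.GenFitting
import Cfsg.Agent.Lib.Coprime.Action

/-!
A criterion for standard subgroups with solvable centralizer.
-/

set_option autoImplicit false

namespace Cfsg.Agent.H40

variable {G : Type*} [Group G]

theorem normalizer_le_normalizer_centralizer (L : Subgroup G) :
    Subgroup.normalizer (L : Set G) ≤
      Subgroup.normalizer ((Subgroup.centralizer (L : Set G) : Subgroup G) : Set G) :=
  Coprime.le_normalizer_centralizer le_rfl

/-- A quasisimple subgroup with solvable, tightly embedded centralizer whose normalizer normalizes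
it is standard. -/
theorem isStandardSubgroup_of_solvable_centralizer (L : Subgroup G) (hL : Cfsg.IsQuasisimple L)
    (hsolv : Group.IsSolvable ↥(Subgroup.centralizer (L : Set G)))
    (htight : Cfsg.IsTightlyEmbedded (Subgroup.centralizer (L : Set G)))
    (hN : Subgroup.normalizer ((Subgroup.centralizer (L : Set G) : Subgroup G) : Set G) ≤
      Subgroup.normalizer (L : Set G)) : Cfsg.IsStandardSubgroup L := by
  refine ⟨hL, htight, fun g _ h => ?_, le_antisymm (normalizer_le_normalizer_centralizer L) hN⟩
  rw [Subgroup.commutator_comm, Subgroup.commutator_eq_bot_iff_le_centralizer] at h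
  have hq : Cfsg.IsQuasisimple ↥(L.map (MulAut.conj g).toMonoidHom) :=
    Components.isQuasisimple_of_mulEquiv
      (L.equivMapOfInjective (MulAut.conj g).toMonoidHom (MulAut.conj g).injective) hL
  haveI := hsolv
  exact Components.not_isSolvable_of_isQuasisimple hq
    (Group.isSolvable_of_isSolvable_injective (Subgroup.inclusion_injective h))

end Cfsg.Agent.H40
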