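import Cfsg.Agent.H40.BlockEmbed
import Cfsg.Agent.H40.Standard
import Cfsg.Agent.Lib.Thompson.Cores
import Mathlib.Algebra.CharP.Two
import Mathlib.FieldTheory.Finite.Basic

/-!
`GL_n(q)` is of component type, and the component of a hyperplane involution of `SL_n(q)` is standard.
-/

set_option autoImplicit false
open Matrix

namespace Cfsg.Agent.H40

variable {F : Type*} [Field F] [Fintype F] [DecidableEq F]

theorem neg_one_ne_one (hF : Odd (Fintype.card F)) : (-1 : F) ≠ 1 :=
  Ring.neg_one_ne_one_of_char_ne_two fun h =>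
    (Nat.not_even_iff_odd.mpr hF) (FiniteField.even_card_iff_char_two.mp h |> Nat.even_iff.mpr)

theorem exists_sq_ne_one (hF : Odd (Fintype.card F)) (h3 : Fintype.card F ≠ 3) :
    ∃ a : F, a ≠ 0 ∧ a ^ 2 ≠ 1 := by
  classical
  by_contra h
  push Not at h
  have hsub : (Finset.univ : Finset F) ⊆ ({0, 1, -1} : Finset F) := fun a _ => by
    by_cases ha : a = 0
    · simp [ha]
    · rcases sq_eq_one_iff.mp (h a ha) with h' | h' <;> simp [h']
  have h1 := Finset.card_le_card hsub
  have h2 := Finset.card_le_three (a := (0 : F)) (b := 1) (c := -1)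
  rw [Finset.card_univ] at h1
  have h4 := Fintype.one_lt_card (α := F)
  obtain ⟨k, hk⟩ := hF
  omega

variable {m : ℕ}

theorem exists_involution_SL (hF : Odd (Fintype.card F)) (hm : 2 ≤ m) :
    ∃ A : SpecialLinearGroup (Fin m) F, orderOf A = 2 := by
  set i : Fin m := ⟨0, by omega⟩
  set j : Fin m := ⟨1, by omega⟩
  have hij : i ≠ j := by simp [i, j]
  let f : Fin m → F := fun a => (if a = i then -1 else 1) * (if a = j then -1 else 1)
  have hdet : (Matrix.diagonal f).det = 1 := by
    rw [Matrix.det_diagonal, Finset.prod_mul_distrib, Finset.prod_ite_eq', Finset.prod_ite_eq']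
    simp
  obtain ⟨A, hA⟩ : ∃ A : SpecialLinearGroup (Fin m) F,
      (A : Matrix (Fin m) (Fin m) F) = Matrix.diagonal f := ⟨⟨_, hdet⟩, rfl⟩
  refine ⟨A, orderOf_eq_prime ?_ ?_⟩
  · apply Subtype.ext
    rw [pow_two]
    show (A : Matrix (Fin m) (Fin m) F) * (A : Matrix (Fin m) (Fin m) F) = 1
    rw [hA]
    rw [Matrix.diagonal_mul_diagonal, ← Matrix.diagonal_one]
    congr 1
    funext a
    simp only [f]
    split_ifs <;> ring
  · intro h
    have h1 : Matrix.diagonal f = (1 : Matrix (Fin m) (Fin m) F) := by rw [← hA, h]; rfl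
    have := congrFun (congrFun h1 i) i
    simp [f, hij] at this
    exact neg_one_ne_one hF this

theorem gl_component_type (hF : Odd (Fintype.card F)) (hm : 2 ≤ m)
    (h33 : ¬ (m = 2 ∧ Fintype.card F = 3)) :
    ∃ t : GeneralLinearGroup (Fin (m + 1)) F, orderOf t = 2 ∧
      t ∉ Subgroup.center (GeneralLinearGroup (Fin (m + 1)) F) ∧
      Cfsg.HasComponent (↥(Subgroup.centralizer ({t} : Set (GeneralLinearGroup (Fin (m + 1)) F))) ⧸
        Cfsg.oddCore ↥(Subgroup.centralizer ({t} : Set (GeneralLinearGroup (Fin (m + 1)) F)))) := by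
  classical
  haveI : Nontrivial (Fin m) := Fin.nontrivial_iff_two_le.mpr hm
  let e : Fin (m + 1) → F := fun a => if a = Fin.last m then -1 else 1
  have hee : Matrix.diagonal e * Matrix.diagonal e = 1 := by
    rw [Matrix.diagonal_mul_diagonal, ← Matrix.diagonal_one]
    congr 1
    funext a
    simp only [e]
    split_ifs <;> ring
  let t : GeneralLinearGroup (Fin (m + 1)) F := ⟨Matrix.diagonal e, Matrix.diagonal e, hee, hee⟩
  have hne : ∀ a : Fin m, e a.castSucc ≠ e (Fin.last m) := fun a => by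
    simp [e, (Fin.castSucc_lt_last a).ne, (neg_one_ne_one hF).symm]
  have heq : ∀ a b : Fin m, e a.castSucc = e b.castSucc := fun a b => by
    simp [e, (Fin.castSucc_lt_last a).ne, (Fin.castSucc_lt_last b).ne]
  have ht2 : orderOf t = 2 := by
    refine orderOf_eq_prime (by rw [pow_two]; exact Units.ext hee) fun h => ?_
    have h1 : Matrix.diagonal e = (1 : Matrix (Fin (m + 1)) (Fin (m + 1)) F) := congrArg Units.val h
    have := congrFun (congrFun h1 (Fin.last m)) (Fin.last m)
    simp [e] at this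
    exact neg_one_ne_one hF this
  refine ⟨t, ht2, fun hc => ?_, ?_⟩
  · set i : Fin m := ⟨0, by omega⟩
    have hd := Matrix.det_transvection_of_ne (Fin.last m) i.castSucc (Fin.castSucc_lt_last i).ne' (1 : F)
    have h1 := congrArg Units.val (Subgroup.mem_center_iff.mp hc
      (GeneralLinearGroup.mkOfDetNeZero _ (by rw [hd]; exact one_ne_zero :
        (Matrix.transvection (Fin.last m) i.castSucc (1 : F)).det ≠ 0)))
    have h2 : IsBlock (Matrix.transvection (Fin.last m) i.castSucc (1 : F)) :=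
      isBlock_of_commute_diagonal e hne h1
    have := (h2 i).2
    simp [Matrix.transvection, (Fin.castSucc_lt_last i).ne'] at this
  set C := Subgroup.centralizer ({t} : Set (GeneralLinearGroup (Fin (m + 1)) F)) with hC
  let φ : SpecialLinearGroup (Fin m) F →* GeneralLinearGroup (Fin (m + 1)) F :=
    SpecialLinearGroup.toGL.comp embSL
  have hφv : ∀ A, (φ A : Matrix (Fin (m + 1)) (Fin (m + 1)) F) =
      blockMat (A : Matrix (Fin m) (Fin m) F) := fun A => rfl
  have hφ : Function.Injective φ := fun A B h => embSL_injective (Subtype.ext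
    (show blockMat (A : Matrix (Fin m) (Fin m) F) = blockMat (B : Matrix (Fin m) (Fin m) F) by
      rw [← hφv, ← hφv, h]))
  have hCblock : ∀ g ∈ C, IsBlock (g : Matrix (Fin (m + 1)) (Fin (m + 1)) F) := fun g hg =>
    isBlock_of_commute_diagonal e hne
      (congrArg Units.val (Subgroup.mem_centralizer_singleton_iff.mp hg))
  have hLC : φ.range ≤ C := by
    rintro _ ⟨A, rfl⟩
    rw [hC, Subgroup.mem_centralizer_singleton_iff]
    exact Units.ext (commute_diagonal_of_isBlock e heq (isBlock_blockMat _))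
  haveI hn : (φ.range.subgroupOf C).Normal := by
    refine ⟨fun x hx g => ?_⟩
    obtain ⟨A, hA⟩ := hx
    rw [Subgroup.coe_subtype] at hA
    set X : GeneralLinearGroup (Fin (m + 1)) F := (g : GeneralLinearGroup (Fin (m + 1)) F) * φ A *
      (g : GeneralLinearGroup (Fin (m + 1)) F)⁻¹ with hX
    show ((g * x * g⁻¹ : C) : GeneralLinearGroup (Fin (m + 1)) F) ∈ φ.range
    rw [Subgroup.coe_mul, Subgroup.coe_mul, Subgroup.coe_inv, ← hA, ← hX]
    have hb1 := hCblock _ g.2
    have hb2 := hCblock _ (inv_mem g.2)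
    have hbA : IsBlock (φ A : Matrix (Fin (m + 1)) (Fin (m + 1)) F) := isBlock_blockMat _
    have hX' := isBlock_mul (isBlock_mul hb1 hbA).1 hb2
    have hmul1 : ((g : GeneralLinearGroup (Fin (m + 1)) F) : Matrix (Fin (m + 1)) (Fin (m + 1)) F) *
        (((g : GeneralLinearGroup (Fin (m + 1)) F)⁻¹ : GeneralLinearGroup (Fin (m + 1)) F) :
          Matrix (Fin (m + 1)) (Fin (m + 1)) F) = 1 := Units.mul_inv _
    have hcorner : (X : Matrix (Fin (m + 1)) (Fin (m + 1)) F) (Fin.last m) (Fin.last m) = 1 := by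
      rw [hX, Units.val_mul, Units.val_mul, hX'.2, (isBlock_mul hb1 hbA).2, hφv, blockMat_last_last,
        mul_one, ← (isBlock_mul hb1 hb2).2, hmul1, Matrix.one_apply_eq]
    have hdet : (X : Matrix (Fin (m + 1)) (Fin (m + 1)) F).det = 1 := by
      rw [hX, Units.val_mul, Units.val_mul, Matrix.det_mul, Matrix.det_mul, hφv, det_blockMat,
        A.2, mul_one, ← Matrix.det_mul, hmul1, Matrix.det_one]
    have hblock : IsBlock (X : Matrix (Fin (m + 1)) (Fin (m + 1)) F) := by
      rw [hX, Units.val_mul, Units.val_mul]; exact hX'.1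
    obtain ⟨B, hB⟩ := (mem_range_embSL (g := ⟨_, hdet⟩)).mpr ⟨hblock, hcorner⟩
    exact ⟨B, Units.ext (congrArg Subtype.val hB)⟩
  have hq : Cfsg.IsQuasisimple ↥φ.range := Components.isQuasisimple_of_mulEquiv
    (MonoidHom.ofInjective hφ) (isQuasisimple_SL fun h2 => exists_sq_ne_one hF fun h3 =>
      h33 ⟨by simpa using h2, h3⟩)
  have hcomp : Cfsg.IsComponent (φ.range.subgroupOf C) :=
    ⟨hn.isSubnormal, Components.isQuasisimple_of_mulEquiv (Subgroup.subgroupOfEquivOfLe hLC).symm hq⟩
  rcases Components.component_map_or_eq_bot (QuotientGroup.mk' (Cfsg.oddCore ↥C))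
    (QuotientGroup.mk'_surjective _) hcomp with h | h
  · exfalso
    rw [Subgroup.map_eq_bot_iff, QuotientGroup.ker_mk'] at h
    obtain ⟨A, hA⟩ := exists_involution_SL hF hm
    have hA2 : orderOf (φ A) = 2 := by rw [orderOf_injective φ hφ, hA]
    have hmem : (⟨φ A, hLC ⟨A, rfl⟩⟩ : C) ∈ Cfsg.oddCore ↥C := h ⟨A, rfl⟩
    have hd := Subgroup.orderOf_dvd_natCard _ hmem
    rw [Subgroup.orderOf_mk, hA2] at hd
    exact (Thompson.not_dvd_card_pPrimeCore (p := 2) (G := ↥C)) hd
  · exact ⟨_, h.1, h.2⟩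

theorem sl_hyperplane_standard (hF : Odd (Fintype.card F)) (hm : 3 ≤ m) (hev : Even m)
    (t : SpecialLinearGroup (Fin (m + 1)) F)
    (ht : (t : Matrix (Fin (m + 1)) (Fin (m + 1)) F) =
      Matrix.diagonal (fun i : Fin (m + 1) => if i = Fin.last m then (1 : F) else -1)) :
    Cfsg.IsStandardSubgroup
      ((Cfsg.layer ↥(Subgroup.centralizer ({t} : Set (SpecialLinearGroup (Fin (m + 1)) F)))).map
        (Subgroup.centralizer ({t} : Set (SpecialLinearGroup (Fin (m + 1)) F))).subtype) := by
  classical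
  haveI : Nontrivial (Fin m) := Fin.nontrivial_iff_two_le.mpr (by omega)
  set e : Fin (m + 1) → F := fun i => if i = Fin.last m then (1 : F) else -1 with he
  set C := Subgroup.centralizer ({t} : Set (SpecialLinearGroup (Fin (m + 1)) F)) with hC
  set L := (embSL : SpecialLinearGroup (Fin m) F →* SpecialLinearGroup (Fin (m + 1)) F).range with hL
  have hne : ∀ a : Fin m, e a.castSucc ≠ e (Fin.last m) := fun a => by
    simp [e, (Fin.castSucc_lt_last a).ne, neg_one_ne_one hF]
  have heq : ∀ a b : Fin m, e a.castSucc = e b.castSucc := fun a b => by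
    simp [e, (Fin.castSucc_lt_last a).ne, (Fin.castSucc_lt_last b).ne]
  have hCblock : ∀ g ∈ C, IsBlock (g : Matrix (Fin (m + 1)) (Fin (m + 1)) F) := fun g hg => by
    refine isBlock_of_commute_diagonal e hne ?_
    rw [← ht]
    exact congrArg (fun s : SpecialLinearGroup (Fin (m + 1)) F =>
      (s : Matrix (Fin (m + 1)) (Fin (m + 1)) F)) (Subgroup.mem_centralizer_singleton_iff.mp hg)
  have hblockC : ∀ g : SpecialLinearGroup (Fin (m + 1)) F,
      IsBlock (g : Matrix (Fin (m + 1)) (Fin (m + 1)) F) → g ∈ C := fun g hg => by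
    rw [hC, Subgroup.mem_centralizer_singleton_iff]
    apply Subtype.ext
    show (g : Matrix (Fin (m + 1)) (Fin (m + 1)) F) * (t : Matrix (Fin (m + 1)) (Fin (m + 1)) F) =
      (t : Matrix (Fin (m + 1)) (Fin (m + 1)) F) * (g : Matrix (Fin (m + 1)) (Fin (m + 1)) F)
    rw [ht]
    exact commute_diagonal_of_isBlock e heq hg
  have hLC : L ≤ C := fun g hg => hblockC g (mem_range_embSL.mp hg).1
  -- `C` normalizes `L`
  have hCL : C ≤ Subgroup.normalizer (L : Set (SpecialLinearGroup (Fin (m + 1)) F)) := by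
    rw [Subgroup.le_normalizer_iff]
    intro g hg x hx
    obtain ⟨hxb, hx1⟩ := mem_range_embSL.mp hx
    have hb1 := hCblock _ hg
    have hb2 := hCblock _ (inv_mem hg)
    have hX' := isBlock_mul (isBlock_mul hb1 hxb).1 hb2
    refine mem_range_embSL.mpr ⟨?_, ?_⟩
    · exact hX'.1
    · refine hX'.2.trans ?_
      rw [(isBlock_mul hb1 hxb).2, hx1, mul_one, ← (isBlock_mul hb1 hb2).2]
      show ((g * g⁻¹ : SpecialLinearGroup (Fin (m + 1)) F) : Matrix (Fin (m + 1)) (Fin (m + 1)) F)
        (Fin.last m) (Fin.last m) = 1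
      rw [mul_inv_cancel]
      exact Matrix.one_apply_eq _
  have hq : Cfsg.IsQuasisimple ↥L := Components.isQuasisimple_of_mulEquiv
    (MonoidHom.ofInjective embSL_injective)
    (isQuasisimple_SL fun h2 => absurd h2 (by simp only [Fintype.card_fin]; omega))
  set Z := Subgroup.centralizer (L : Set (SpecialLinearGroup (Fin (m + 1)) F)) with hZ
  have hdiagZ : ∀ x ∈ Z, (x : Matrix (Fin (m + 1)) (Fin (m + 1)) F) =
      Matrix.diagonal (x : Matrix (Fin (m + 1)) (Fin (m + 1)) F).diag ∧
        ∀ a b : Fin m, (x : Matrix (Fin (m + 1)) (Fin (m + 1)) F).diag a.castSucc =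
          (x : Matrix (Fin (m + 1)) (Fin (m + 1)) F).diag b.castSucc := fun x hx => by
    refine diagonal_of_commute_embSL (by omega) fun A => ?_
    exact congrArg (fun s : SpecialLinearGroup (Fin (m + 1)) F =>
      (s : Matrix (Fin (m + 1)) (Fin (m + 1)) F))
      (Subgroup.mem_centralizer_iff.mp hx (embSL A) ⟨A, rfl⟩).symm
  have hZcomm : IsMulCommutative ↥Z := ⟨⟨fun x y => Subtype.ext (Subtype.ext (by
    show ((x : SpecialLinearGroup (Fin (m + 1)) F) : Matrix (Fin (m + 1)) (Fin (m + 1)) F) *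
        ((y : SpecialLinearGroup (Fin (m + 1)) F) : Matrix (Fin (m + 1)) (Fin (m + 1)) F) = _ * _
    rw [(hdiagZ x x.2).1, (hdiagZ y y.2).1, Matrix.diagonal_mul_diagonal, Matrix.diagonal_mul_diagonal]
    simp only [mul_comm]))⟩⟩
  have hsolv : Group.IsSolvable ↥Z := Group.isSolvable_of_comm hZcomm.is_comm.comm
  -- the layer of `C`
  have hlayer : (Cfsg.layer ↥C).map C.subtype = L := by
    have hcomp : Cfsg.IsComponent (L.subgroupOf C) :=
      ⟨((Subgroup.normal_subgroupOf_iff_le_normalizer hLC).mpr hCL).isSubnormal,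
        Components.isQuasisimple_of_mulEquiv (Subgroup.subgroupOfEquivOfLe hLC).symm hq⟩
    refine le_antisymm ?_ ?_
    · rw [Subgroup.map_le_iff_le_comap, Components.layer_le_iff]
      intro K hK
      rcases Components.component_eq_or_commutator_eq_bot hK hcomp with h | h
      · rw [h]; exact le_rfl
      · exfalso
        have hKZ : K.map C.subtype ≤ Z := by
          rintro _ ⟨k, hk, rfl⟩
          rw [hZ, Subgroup.mem_centralizer_iff]
          intro l hl
          exact congrArg Subtype.val (Subgroup.mem_centralizer_iff.mp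
            (Subgroup.commutator_eq_bot_iff_le_centralizer.mp h hk) ⟨l, hLC hl⟩ hl)
        haveI := hsolv
        refine Components.component_not_isSolvable hK ?_
        haveI : Group.IsSolvable ↥(K.map C.subtype) :=
          Group.isSolvable_of_isSolvable_injective (Subgroup.inclusion_injective hKZ)
        exact Group.isSolvable_of_isSolvable_injective
          (f := (K.equivMapOfInjective C.subtype C.subtype_injective).toMonoidHom)
          (K.equivMapOfInjective C.subtype C.subtype_injective).injective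
    · rw [← Subgroup.map_subgroupOf_eq_of_le hLC]
      exact Subgroup.map_mono (Components.component_le_layer hcomp)
  rw [hlayer]
  have htZ : t ∈ Z := Subgroup.mem_centralizer_iff.mpr fun l hl =>
    Subgroup.mem_centralizer_singleton_iff.mp (hLC hl)
  have htdiag : (t : Matrix (Fin (m + 1)) (Fin (m + 1)) F) = Matrix.diagonal e := ht
  have ht1 : t ≠ 1 := fun h => by
    have h1 : Matrix.diagonal e = (1 : Matrix (Fin (m + 1)) (Fin (m + 1)) F) := by rw [← htdiag, h]; rfl
    have h0 := congrFun (congrFun h1 (⟨0, by omega⟩ : Fin (m + 1))) (⟨0, by omega⟩ : Fin (m + 1))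
    have hne0 : (⟨0, by omega⟩ : Fin (m + 1)) ≠ Fin.last m := by simp [Fin.ext_iff]; omega
    simp only [e, Matrix.diagonal_apply_eq, Matrix.one_apply_eq, if_neg hne0] at h0
    exact neg_one_ne_one hF h0
  have ht2 : orderOf t = 2 := by
    refine orderOf_eq_prime (Subtype.ext ?_) ht1
    rw [pow_two]
    show (t : Matrix (Fin (m + 1)) (Fin (m + 1)) F) * (t : Matrix (Fin (m + 1)) (Fin (m + 1)) F) = 1
    rw [htdiag, Matrix.diagonal_mul_diagonal, ← Matrix.diagonal_one]
    congr 1
    funext a
    simp only [e]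
    split_ifs <;> ring
  -- `t` is the only involution of `Z`
  have huniq : ∀ x ∈ Z, orderOf x = 2 → x = t := by
    intro x hx hx2
    obtain ⟨M, hM⟩ : ∃ M, M = (x : Matrix (Fin (m + 1)) (Fin (m + 1)) F) := ⟨_, rfl⟩
    obtain ⟨h1, h2⟩ := hdiagZ x hx
    rw [← hM] at h1 h2
    set a0 : Fin m := ⟨0, by omega⟩
    obtain ⟨c, hc⟩ : ∃ c, c = M.diag a0.castSucc := ⟨_, rfl⟩
    obtain ⟨d, hd⟩ : ∃ d, d = M.diag (Fin.last m) := ⟨_, rfl⟩
    have hxx : M * M = 1 := by
      have hxx' : x * x = 1 := by rw [← pow_two, ← hx2]; exact pow_orderOf_eq_one x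
      rw [hM]
      exact congrArg (fun s : SpecialLinearGroup (Fin (m + 1)) F =>
        (s : Matrix (Fin (m + 1)) (Fin (m + 1)) F)) hxx'
    rw [h1, Matrix.diagonal_mul_diagonal] at hxx
    have hsq : ∀ i, M.diag i * M.diag i = 1 := fun i => by
      simpa using congrFun (congrFun hxx i) i
    have hdet : M.det = 1 := hM.symm ▸ x.2
    rw [h1, Matrix.det_diagonal, Fin.prod_univ_castSucc,
      Finset.prod_congr rfl (fun a _ => (h2 a a0).trans hc.symm), Finset.prod_const, Finset.card_univ,
      Fintype.card_fin, ← hd] at hdet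
    have hcm : c ^ m = 1 := by
      obtain ⟨k, hk⟩ := hev
      rw [hk, ← two_mul, pow_mul, pow_two, hc, hsq, one_pow]
    rw [hcm, one_mul] at hdet
    have hc1 : c ≠ 1 := by
      intro hc'
      have hx1 : x = 1 := by
        apply Subtype.ext
        show (x : Matrix (Fin (m + 1)) (Fin (m + 1)) F) = 1
        rw [← hM]
        rw [h1, ← Matrix.diagonal_one]
        congr 1
        funext i
        refine Fin.lastCases ?_ (fun a => ?_) i
        · rw [← hd, hdet]
        · rw [h2 a a0, ← hc, hc']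
      rw [hx1, orderOf_one] at hx2
      omega
    have hc' : c = -1 := by
      rcases mul_self_eq_one_iff.mp (by rw [hc]; exact hsq _ : c * c = 1) with h | h
      · exact absurd h hc1
      · exact h
    apply Subtype.ext
    show (x : Matrix (Fin (m + 1)) (Fin (m + 1)) F) = (t : Matrix (Fin (m + 1)) (Fin (m + 1)) F)
    rw [← hM, htdiag, h1]
    congr 1
    funext i
    refine Fin.lastCases ?_ (fun a => ?_) i
    · rw [← hd, hdet]; simp [e]
    · rw [h2 a a0, ← hc, hc']; simp [e, (Fin.castSucc_lt_last a).ne]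
  have hNC : Subgroup.normalizer (Z : Set (SpecialLinearGroup (Fin (m + 1)) F)) ≤ C := fun g hg => by
    rw [hC, Subgroup.mem_centralizer_singleton_iff]
    have := huniq _ ((Subgroup.mem_normalizer_iff.mp hg t).mp htZ)
      (by rw [← MulAut.conj_apply, MulEquiv.orderOf_eq, ht2])
    exact mul_inv_eq_iff_eq_mul.mp this
  refine isStandardSubgroup_of_solvable_centralizer L hq hsolv ⟨?_, fun g hg => ?_⟩ (hNC.trans hCL)
  · rw [even_iff_two_dvd]
    exact ht2 ▸ Subgroup.orderOf_dvd_natCard _ htZ
  · rw [← Nat.not_even_iff_odd, even_iff_two_dvd]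
    intro hd
    obtain ⟨x, hx⟩ := exists_prime_orderOf_dvd_card' 2 hd
    rw [← Subgroup.orderOf_coe] at hx
    obtain ⟨hxZ, y, hy, hyx⟩ := x.2
    have h1 := huniq _ hxZ hx
    have h2 := huniq y hy (by
      rw [← hx, ← hyx]
      exact (MulEquiv.orderOf_eq (MulAut.conj g) y).symm)
    rw [h1, h2] at hyx
    apply hg
    have hgC : g ∈ C := by
      rw [hC, Subgroup.mem_centralizer_singleton_iff]
      exact mul_inv_eq_iff_eq_mul.mp hyx
    exact normalizer_le_normalizer_centralizer L (hCL hgC)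

end Cfsg.Agent.H40
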