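import Cfsg.Agent.H40.NormalRank

/-!
The commuting graph on elementary abelian subgroups of order at least `p^2` of a `p`-group.
-/

set_option autoImplicit false

namespace Cfsg.Agent.H40

variable {P : Type*} [Group P] [Finite P] {p : ℕ} [hp : Fact p.Prime]

/-- adjacency in the commuting graph -/
abbrev Adj (p : ℕ) (A B : Subgroup P) : Prop :=
  Cfsg.IsElementaryAbelian p A ∧ p ^ 2 ≤ Nat.card ↥A ∧ Cfsg.IsElementaryAbelian p B ∧
    p ^ 2 ≤ Nat.card ↥B ∧ ∀ a ∈ A, ∀ b ∈ B, a * b = b * a

omit [Finite P] hp in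
theorem adj_symm {A B : Subgroup P} (h : Relation.ReflTransGen (Adj p) A B) :
    Relation.ReflTransGen (Adj p) B A := by
  induction h with
  | refl => exact .refl
  | @tail B C _ hBC ih =>
    exact .head ⟨hBC.2.2.1, hBC.2.2.2.1, hBC.1, hBC.2.1,
      fun a ha b hb => (hBC.2.2.2.2 b hb a ha).symm⟩ ih

omit [Finite P] hp in
theorem le_centralizer_of_commute {A B : Subgroup P} (h : ∀ a ∈ A, ∀ b ∈ B, a * b = b * a) :
    A ≤ Subgroup.centralizer (B : Set P) :=
  fun a ha => Subgroup.mem_centralizer_iff.mpr fun b hb => (h a ha b hb).symm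

theorem pow_three_le_of_lt {A : Subgroup P} (hA : Cfsg.IsElementaryAbelian p A)
    (h : p ^ 2 < Nat.card A) : p ^ 3 ≤ Nat.card A := by
  obtain ⟨n, hn⟩ := card_elementary hA
  rw [hn] at h ⊢
  exact Nat.pow_le_pow_right hp.out.pos ((Nat.pow_lt_pow_iff_right hp.out.one_lt).mp h)

theorem connected_iff (hP : IsPGroup p P) (hrk : ¬ Cfsg.PRankLE p 2 P) {U : Subgroup P}
    (hUn : U.Normal) (hU : Cfsg.IsElementaryAbelian p U) (hUc : Nat.card U = p ^ 2)
    {X : Subgroup P} (hX : Cfsg.IsElementaryAbelian p X) (hX2 : p ^ 2 ≤ Nat.card X) :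
    Relation.ReflTransGen (Adj p) X U ↔ ¬ Cfsg.PRankLE p 2 ↥(Subgroup.centralizer (X : Set P)) := by
  haveI := hUn
  have hlt23 : p ^ 2 < p ^ 3 := Nat.pow_lt_pow_right hp.out.one_lt (by norm_num)
  obtain ⟨K, hKn, hKb, hKU, hKc⟩ := exists_normal_step hP ⊥ U (bot_lt_iff_ne_bot.mpr fun h => by
    rw [h, Subgroup.card_bot] at hUc
    exact (Nat.one_lt_pow two_ne_zero hp.out.one_lt).ne hUc)
  rw [Subgroup.card_bot, mul_one] at hKc
  haveI := hKn
  have hKcen : K ≤ Subgroup.center P := by
    intro k hk
    rw [Subgroup.mem_center_iff]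
    intro g
    have := commutator_mem_of_card_eq_mul hP ⊥ K bot_le (by rw [Subgroup.card_bot, mul_one, hKc]) hk g
    rw [Subgroup.mem_bot, mul_inv_eq_one, mul_inv_eq_iff_eq_mul] at this
    exact this
  obtain ⟨u, huU, huK⟩ : ∃ u ∈ U, u ∉ K := SetLike.exists_of_lt (lt_of_le_of_ne hKU fun h => by
    rw [← h, hKc] at hUc
    exact (lt_self_pow₀ hp.out.one_lt (by norm_num : 1 < 2)).ne hUc)
  have hgen : K ⊔ Subgroup.zpowers u = U := by
    have hle : K ⊔ Subgroup.zpowers u ≤ U := sup_le hKU (Subgroup.zpowers_le.mpr huU)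
    refine Subgroup.eq_of_le_of_card_ge hle ?_
    obtain ⟨n, hn⟩ := card_elementary (elementary_of_le hU hle)
    rw [hUc, hn]
    refine Nat.pow_le_pow_right hp.out.pos ?_
    by_contra h
    have h1 := Subgroup.eq_of_le_of_card_ge (le_sup_left : K ≤ K ⊔ Subgroup.zpowers u) (by
      rw [hn, hKc]
      exact le_of_le_of_eq (Nat.pow_le_pow_right hp.out.pos (by omega : n ≤ 1)) (pow_one p))
    exact huK (h1 ▸ Subgroup.mem_sup_right (Subgroup.mem_zpowers u))
  have hcomU : ∀ g : P, g * u * g⁻¹ * u⁻¹ ∈ K := fun g =>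
    commutator_mem_of_card_eq_mul hP K U hKU (by rw [hUc, hKc, sq]) huU g
  -- `C(U)` meets every elementary abelian subgroup of order `p^3` in order at least `p^2`
  have hbig : ∀ E : Subgroup P, Cfsg.IsElementaryAbelian p E → p ^ 3 ≤ Nat.card E →
      p ^ 2 ≤ Nat.card ↥(E ⊓ Subgroup.centralizer (U : Set P)) := by
    intro E hE hE3
    let ψ : E →* K :=
      { toFun := fun e => ⟨(e : P) * u * (e : P)⁻¹ * u⁻¹, hcomU e⟩
        map_one' := Subtype.ext (by simp)
        map_mul' := fun e e' => Subtype.ext (by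
          have hc := Subgroup.mem_center_iff.mp (hKcen (hcomU e'))
          show (e : P) * e' * u * ((e : P) * e')⁻¹ * u⁻¹ =
            (e : P) * u * (e : P)⁻¹ * u⁻¹ * ((e' : P) * u * (e' : P)⁻¹ * u⁻¹)
          calc (e : P) * e' * u * ((e : P) * e')⁻¹ * u⁻¹
              = (e : P) * ((e' : P) * u * (e' : P)⁻¹ * u⁻¹) * u * (e : P)⁻¹ * u⁻¹ := by group
            _ = ((e' : P) * u * (e' : P)⁻¹ * u⁻¹) * ((e : P) * u * (e : P)⁻¹ * u⁻¹) := by
                rw [hc (e : P)]; group
            _ = _ := (hc _).symm) }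
    have h1 := Subgroup.card_mul_index ψ.ker
    rw [Subgroup.index_ker] at h1
    refine le_trans (b := Nat.card ψ.ker) (Nat.le_of_mul_le_mul_right ?_ hp.out.pos)
      (Nat.card_le_card_of_injective
      (fun e : ψ.ker => (⟨((e.1 : E) : P), e.1.2, ?_⟩ : (E ⊓ Subgroup.centralizer (U : Set P) : Subgroup P)))
      (fun a b hab => Subtype.ext (Subtype.ext (congrArg
        (fun q : (E ⊓ Subgroup.centralizer (U : Set P) : Subgroup P) => (q : P)) hab))))
    · rw [← pow_succ]
      refine hE3.trans (h1 ▸ Nat.mul_le_mul_left _ ?_)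
      exact hKc ▸ Subgroup.card_le_card_group _
    · have he : ((e.1 : E) : P) * u * ((e.1 : E) : P)⁻¹ * u⁻¹ = 1 := congrArg Subtype.val e.2
      rw [mul_inv_eq_one, mul_inv_eq_iff_eq_mul] at he
      have hle : U ≤ Subgroup.centralizer ({((e.1 : E) : P)} : Set P) := by
        rw [← hgen]
        refine sup_le (hKcen.trans (Subgroup.center_le_centralizer _)) (Subgroup.zpowers_le.mpr ?_)
        rw [Subgroup.mem_centralizer_singleton_iff]
        exact he.symm
      exact Subgroup.mem_centralizer_iff.mpr fun x hx =>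
        Subgroup.mem_centralizer_singleton_iff.mp (hle hx)
  constructor
  · intro hcon hrkX
    -- vertices whose centralizer has rank two are isolated
    have hiso : ∀ B : Subgroup P, Relation.ReflTransGen (Adj p) X B → B = X := by
      intro B hB
      induction hB with
      | refl => rfl
      | @tail B C _ hBC ih =>
        subst ih
        have hsup := elementary_sup hBC.1 hBC.2.2.1 hBC.2.2.2.2
        have hle : B ⊔ C ≤ Subgroup.centralizer (B : Set P) :=
          le_centralizer_of_commute fun a ha b hb => elementary_comm hsup ha (le_sup_left (b := C) hb)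
        have hcard : Nat.card ↥(B ⊔ C) ≤ p ^ 2 := not_lt.mp fun h =>
          not_rankLE_subgroup hsup hle h hrkX
        have h1 := Subgroup.eq_of_le_of_card_ge (le_sup_left : B ≤ B ⊔ C) (hcard.trans hBC.2.1)
        exact (Subgroup.eq_of_le_of_card_ge (le_sup_right : C ≤ B ⊔ C) (hcard.trans hBC.2.2.2.1)).trans h1.symm
    obtain rfl := hiso U hcon
    obtain ⟨E, hE, hE3⟩ := exists_elementary_of_not_rankLE hrk
    have h2 := hbig E hE hE3
    set M := E ⊓ Subgroup.centralizer (U : Set P) with hM
    have hMe : Cfsg.IsElementaryAbelian p M := elementary_of_le hE inf_le_left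
    have hMU : ∀ a ∈ M, ∀ b ∈ U, a * b = b * a := fun a ha b hb =>
      (Subgroup.mem_centralizer_iff.mp ha.2 b hb).symm
    by_cases hsub : M ≤ U
    · have hUE : U ≤ E := by
        have : M = U := Subgroup.eq_of_le_of_card_ge hsub (hUc ▸ h2)
        exact this ▸ inf_le_left
      exact not_rankLE_subgroup hE (le_centralizer_of_commute fun a ha b hb =>
        elementary_comm hE ha (hUE hb)) (lt_of_lt_of_le hlt23 hE3) hrkX
    · have hsup := elementary_sup hMe hU hMU
      refine not_rankLE_subgroup hsup (sup_le inf_le_right (le_centralizer_of_commute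
        fun a ha b hb => elementary_comm hU ha hb)) ?_ hrkX
      rw [← hUc]
      refine lt_of_le_of_ne (Subgroup.card_le_of_le le_sup_right) fun h => hsub ?_
      rw [Subgroup.eq_of_le_of_card_ge (le_sup_right : U ≤ M ⊔ U) h.ge]
      exact le_sup_left
  · intro hrkX
    obtain ⟨E0, hE0, hE03⟩ := exists_elementary_of_not_rankLE hrkX
    have hEe := elementary_map hE0 (Subgroup.centralizer (X : Set P)).subtype
    have hEc : p ^ 3 ≤ Nat.card ↥(E0.map (Subgroup.centralizer (X : Set P)).subtype) := by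
      rw [Subgroup.card_map_of_injective (Subgroup.subtype_injective _)]
      exact hE03
    have h2 := hbig _ hEe hEc
    have hle : p ^ 2 ≤ p ^ 3 := hlt23.le
    refine .head ⟨hX, hX2, hEe, hle.trans hEc, ?_⟩ (.head ⟨hEe, hle.trans hEc,
      elementary_of_le hEe inf_le_left, h2, fun a ha b hb => elementary_comm hEe ha hb.1⟩
      (.single ⟨elementary_of_le hEe inf_le_left, h2, hU, hUc.ge, fun a ha b hb =>
        (Subgroup.mem_centralizer_iff.mp ha.2 b hb).symm⟩))
    rintro a ha _ ⟨b, -, rfl⟩
    exact Subgroup.mem_centralizer_iff.mp b.2 a ha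

/-- For `p = 3`, in the presence of a normal elementary abelian subgroup of order `≥ 3^4` every
elementary abelian subgroup of order `≥ 9` has centralizer of rank at least `3`. -/
theorem rank_centralizer_three {P : Type*} [Group P] [Finite P] [Fact (Nat.Prime 3)]
    (hP : IsPGroup 3 P) {W : Subgroup P} (hWn : W.Normal)
    (hW : Cfsg.IsElementaryAbelian 3 W) (hW4 : 3 ^ 4 ≤ Nat.card W) {X : Subgroup P}
    (hX : Cfsg.IsElementaryAbelian 3 X) (hX2 : 3 ^ 2 ≤ Nat.card X) :
    ¬ Cfsg.PRankLE 3 2 ↥(Subgroup.centralizer (X : Set P)) := by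
  haveI := hWn
  have hXC : X ≤ Subgroup.centralizer (X : Set P) :=
    le_centralizer_of_commute fun a ha b hb => elementary_comm hX ha hb
  rcases lt_or_eq_of_le hX2 with hlt | heq
  · exact not_rankLE_subgroup hX hXC hlt
  by_cases hXW : X ≤ W
  · exact not_rankLE_subgroup hW (le_centralizer_of_commute fun a ha b hb => elementary_comm hW ha (hXW hb))
      (lt_of_lt_of_le (by norm_num) hW4)
  obtain ⟨x, hxX, hxW⟩ := SetLike.not_le_iff_exists.mp hXW
  -- the centralizer of `x` in `W` has order at least `9`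
  set Cx := W ⊓ Subgroup.centralizer ({x} : Set P) with hCx
  have hCx9 : 3 ^ 2 ≤ Nat.card Cx := by
    letI : CommGroup W := { (inferInstance : Group W) with mul_comm := hW.1.is_comm.comm }
    let d : W →* W :=
      { toFun := fun w => MulAut.conjNormal x w * w⁻¹
        map_one' := by simp
        map_mul' := fun a b => by rw [map_mul, mul_inv, mul_mul_mul_comm] }
    have hd3 : ∀ w, d (d (d w)) = 1 := by
      intro w
      have e : ∀ v, d v = MulAut.conjNormal x v * v⁻¹ := fun _ => rfl
      have hc3 : MulAut.conjNormal x (MulAut.conjNormal x (MulAut.conjNormal x w)) = w := by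
        rw [← MulAut.mul_apply, ← MulAut.mul_apply, ← map_mul, ← map_mul,
          show x * x * x = x ^ 3 by rw [pow_succ, pow_two], hX.2 x hxX, map_one, MulAut.one_apply]
      have h3 : ∀ v : W, v * v * v = 1 := fun v => Subtype.ext (by
        show (v : P) * v * v = 1
        rw [show (v : P) * v * v = (v : P) ^ 3 by rw [pow_succ, pow_two]]; exact hW.2 _ v.2)
      simp only [e, map_mul, map_inv, mul_inv, inv_inv, hc3]
      generalize hb : MulAut.conjNormal x (MulAut.conjNormal x w) = b
      generalize MulAut.conjNormal x w = a at hb ⊢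
      have ha3 : (3 : ℕ) • Additive.ofMul a = 0 := by
        rw [← ofMul_pow, show a ^ 3 = a * a * a by rw [pow_succ, pow_two], h3, ofMul_one]
      have hb3 : (3 : ℕ) • Additive.ofMul b = 0 := by
        rw [← ofMul_pow, show b ^ 3 = b * b * b by rw [pow_succ, pow_two], h3, ofMul_one]
      apply Additive.ofMul.injective
      simp only [ofMul_mul, ofMul_inv, ofMul_one]
      calc _ = (3 : ℕ) • Additive.ofMul a - (3 : ℕ) • Additive.ofMul b := by abel
        _ = 0 := by rw [ha3, hb3, sub_zero]
    have hker : d.ker = Cx.subgroupOf W := by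
      ext w
      rw [MonoidHom.mem_ker, Subgroup.mem_subgroupOf, hCx, Subgroup.mem_inf,
        Subgroup.mem_centralizer_singleton_iff]
      show MulAut.conjNormal x w * w⁻¹ = 1 ↔ _
      rw [mul_inv_eq_one, ← Subtype.coe_inj, MulAut.conjNormal_apply, mul_inv_eq_iff_eq_mul]
      exact ⟨fun h => ⟨w.2, h.symm⟩, fun h => h.2.symm⟩
    have hk : Nat.card d.ker = Nat.card Cx := by
      rw [hker]
      exact Nat.card_congr (Subgroup.subgroupOfEquivOfLe inf_le_left).toEquiv
    have step : ∀ (K : Subgroup W), Nat.card K ≤ Nat.card Cx * Nat.card (K.map d) := by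
      intro K
      have h1 := Subgroup.card_mul_index ((d.domRestrict K).ker)
      rw [Subgroup.index_ker, show (d.domRestrict K).range = K.map d from MonoidHom.domRestrict_range K d] at h1
      rw [← h1, ← hk]
      exact Nat.mul_le_mul_right _ (Nat.card_le_card_of_injective
        (fun a => (⟨a.1.1, a.2⟩ : d.ker))
        (fun a b hab => Subtype.ext (Subtype.ext (congrArg (fun q : d.ker => (q : W)) hab))))
    have s1 := step ⊤
    have s2 := step ((⊤ : Subgroup W).map d)
    have s3 := step (((⊤ : Subgroup W).map d).map d)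
    have s4 : ((((⊤ : Subgroup W).map d).map d).map d) = ⊥ := by
      rw [eq_bot_iff]
      rintro _ ⟨_, ⟨_, ⟨w, -, rfl⟩, rfl⟩, rfl⟩
      exact hd3 w
    rw [s4, Subgroup.card_bot, mul_one] at s3
    rw [Subgroup.card_top] at s1
    have htot : 3 ^ 4 ≤ Nat.card Cx ^ 3 :=
      calc 3 ^ 4 ≤ Nat.card W := hW4
        _ ≤ Nat.card Cx * (Nat.card Cx * Nat.card Cx) :=
          s1.trans (Nat.mul_le_mul_left _ (s2.trans (Nat.mul_le_mul_left _ s3)))
        _ = Nat.card Cx ^ 3 := by ring
    obtain ⟨n, hn⟩ := card_elementary (elementary_of_le hW (inf_le_left : Cx ≤ W))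
    rw [hn, ← pow_mul] at htot
    have := (Nat.pow_le_pow_iff_right (by norm_num)).mp htot
    rw [hn]
    exact Nat.pow_le_pow_right (by norm_num) (by omega)
  -- an element of `W` centralizing `X` outside `X`
  obtain ⟨w, hwW, hwX, hwC⟩ : ∃ w ∈ W, w ∉ X ∧ w ∈ Subgroup.centralizer (X : Set P) := by
    have hne : ¬ Cx ≤ X := by
      intro hle
      have h1 : Cx = X := Subgroup.eq_of_le_of_card_ge hle (heq ▸ hCx9)
      exact hXW (h1 ▸ inf_le_left)
    by_cases hint : X ⊓ W = ⊥
    · -- a fixed point of the action of `X` on `W`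
      letI : MulAction X W := MulAction.compHom W
        ((MulAut.conjNormal : P →* MulAut W).comp X.subtype)
      have hdvd : 3 ∣ Nat.card W :=
        ((hP.to_subgroup W).card_eq_or_dvd).resolve_left (fun h => by omega)
      have h1 : (1 : W) ∈ MulAction.fixedPoints X W := fun a => by
        show MulAut.conjNormal (a : P) (1 : W) = 1
        rw [map_one]
      obtain ⟨w, hw, hw1⟩ := (hP.to_subgroup X).exists_fixed_point_of_prime_dvd_card_of_fixed_point W hdvd h1
      refine ⟨w, w.2, fun h => hw1 ?_, ?_⟩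
      · have : (w : P) ∈ X ⊓ W := ⟨h, w.2⟩
        rw [hint, Subgroup.mem_bot] at this
        exact Subtype.ext this.symm
      · rw [Subgroup.mem_centralizer_iff]
        intro a ha
        have := congrArg Subtype.val (hw ⟨a, ha⟩)
        change ((MulAut.conjNormal a w : W) : P) = w at this
        rwa [MulAut.conjNormal_apply, mul_inv_eq_iff_eq_mul] at this
    · obtain ⟨w, hwC, hwX⟩ := SetLike.not_le_iff_exists.mp hne
      refine ⟨w, hwC.1, hwX, ?_⟩
      -- `X` is generated by `x` and `X ⊓ W`
      have hgenX : Subgroup.zpowers x ⊔ (X ⊓ W) = X := by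
        have hle : Subgroup.zpowers x ⊔ (X ⊓ W) ≤ X := sup_le (Subgroup.zpowers_le.mpr hxX) inf_le_left
        refine Subgroup.eq_of_le_of_card_ge hle ?_
        obtain ⟨n, hn⟩ := card_elementary (elementary_of_le hX hle)
        rw [← heq, hn]
        refine Nat.pow_le_pow_right (by norm_num) ?_
        by_contra h
        have hn1 : Nat.card ↥(Subgroup.zpowers x ⊔ (X ⊓ W)) ≤ 3 := by
          rw [hn]; exact le_of_le_of_eq (Nat.pow_le_pow_right (by norm_num) (by omega : n ≤ 1)) (pow_one 3)
        have hxW' : 3 ≤ Nat.card ↥(X ⊓ W) := Nat.le_of_dvd Nat.card_pos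
          (((hP.to_subgroup _).card_eq_or_dvd).resolve_left
            fun h => hint (Subgroup.card_eq_one.mp h))
        have h2 := Subgroup.eq_of_le_of_card_ge (le_sup_right : X ⊓ W ≤ Subgroup.zpowers x ⊔ (X ⊓ W))
          (hn1.trans hxW')
        exact hxW (h2 ▸ Subgroup.mem_sup_left (Subgroup.mem_zpowers x) : x ∈ X ⊓ W).2
      have hle : X ≤ Subgroup.centralizer ({w} : Set P) := by
        rw [← hgenX]
        refine sup_le (Subgroup.zpowers_le.mpr ?_) fun a ha => ?_
        · rw [Subgroup.mem_centralizer_singleton_iff]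
          exact (Subgroup.mem_centralizer_singleton_iff.mp hwC.2).symm
        · rw [Subgroup.mem_centralizer_singleton_iff]
          exact elementary_comm hW ha.2 hwC.1
      exact Subgroup.mem_centralizer_iff.mpr fun a ha => Subgroup.mem_centralizer_singleton_iff.mp (hle ha)
  have hsup : Cfsg.IsElementaryAbelian 3 (X ⊔ Subgroup.zpowers w) := by
    refine elementary_sup hX (elementary_zpowers (hW.2 w hwW)) ?_
    rintro a ha _ ⟨i, rfl⟩
    exact ((show Commute a w from Subgroup.mem_centralizer_iff.mp hwC a ha).zpow_right i).eq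
  refine not_rankLE_subgroup hsup (sup_le hXC (Subgroup.zpowers_le.mpr hwC)) ?_
  rw [heq]
  refine lt_of_le_of_ne (Subgroup.card_le_of_le le_sup_left) fun h => hwX ?_
  have h1 : Subgroup.zpowers w ≤ X ⊔ Subgroup.zpowers w := le_sup_right
  rw [← Subgroup.eq_of_le_of_card_ge (le_sup_left : X ≤ X ⊔ Subgroup.zpowers w) h.ge] at h1
  exact h1 (Subgroup.mem_zpowers w)

end Cfsg.Agent.H40
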