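import Cfsg.Agent.Lib.Components.GenFitting

/-!
The layer, normal subgroups, and the generalized Fitting subgroup.
-/

set_option autoImplicit false
open scoped commutatorElement

namespace Cfsg.Agent.H40

variable {G : Type*} [Group G]

/-- The join of a conjugation invariant family of subgroups is normal. -/
theorem sSup_normal' {S : Set (Subgroup G)}
    (h : ∀ (g : G), ∀ L ∈ S, L.map (MulAut.conj g).toMonoidHom ∈ S) : (sSup S).Normal := by
  refine ⟨fun x hx g => ?_⟩
  have hle : sSup S ≤ (sSup S).comap (MulAut.conj g).toMonoidHom := sSup_le fun L hL =>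
    Subgroup.map_le_iff_le_comap.mp (le_sSup (h g L hL))
  exact hle hx

/-- The layer centralizes modulo `⁅E(G), U⁆`. -/
theorem component_le_commutator_or_centralizer {U L : Subgroup G} (hL : Cfsg.IsComponent L) :
    L ≤ ⁅Cfsg.layer G, U⁆ ∨ L ≤ Subgroup.centralizer (U : Set G) := by
  set N := ⁅Cfsg.layer G, U⁆ with hN
  rcases Components.component_le_or_commutator_eq_bot_of_le_normalizer hL
    ((Components.component_le_layer hL).trans (Subgroup.normalizer_commutator_ge_left _ U))
    with h | h
  · exact .inl h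
  refine .inr ?_
  have hLN : L ≤ Subgroup.centralizer (N : Set G) := Subgroup.commutator_eq_bot_iff_le_centralizer.mp h
  have hperf := Components.component_commutator_eq_self hL
  have hmem : ∀ u ∈ U, ∀ b ∈ L, b * (u * b⁻¹ * u⁻¹) ∈ N := fun u hu b hb => by
    have := Subgroup.commutator_mem_commutator (Components.component_le_layer hL hb) hu
    rwa [commutatorElement_def, show b * u * b⁻¹ * u⁻¹ = b * (u * b⁻¹ * u⁻¹) by group] at this
  have hstab : ∀ u ∈ U, u ∈ Subgroup.normalizer (L : Set G) := by
    intro u hu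
    rw [Subgroup.mem_normalizer_iff_map_conj_eq]
    by_contra hne
    have hc := Components.component_le_centralizer hL (Components.component_map_conj u hL) (Ne.symm hne)
    refine Components.component_ne_bot hL ?_
    rw [← hperf, Subgroup.commutator_eq_bot_iff_le_centralizer]
    intro a ha
    rw [Subgroup.mem_centralizer_iff]
    intro b hb
    have c1 : Commute (b * (u * b⁻¹ * u⁻¹)) a :=
      Subgroup.mem_centralizer_iff.mp (hLN ha) _ (hmem u hu b hb)
    have c2 : Commute (u * b * u⁻¹) a :=
      Subgroup.mem_centralizer_iff.mp (hc ha) _ ⟨b, hb, rfl⟩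
    have h3 := c1.mul_left c2
    rw [show b * (u * b⁻¹ * u⁻¹) * (u * b * u⁻¹) = b by group] at h3
    exact h3.eq
  rw [Subgroup.le_centralizer_iff]
  intro u hu
  refine Components.mem_centralizer_of_commutator_mem_centralizer hperf (hstab u hu) fun l hl => ?_
  rw [Subgroup.mem_centralizer_iff]
  intro a ha
  have h1 := inv_mem (hmem u hu l hl)
  have e : (l * (u * l⁻¹ * u⁻¹))⁻¹ = u * l * u⁻¹ * l⁻¹ := by group
  rw [e] at h1
  exact (Subgroup.mem_centralizer_iff.mp (hLN ha) _ h1).symm

theorem generalizedFitting_le_of_selfcentralizing (Y : Subgroup G) [Y.Normal]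
    (hF : Cfsg.fittingSubgroup G ≤ Y) (hC : Subgroup.centralizer (Y : Set G) ≤ Y) :
    Cfsg.generalizedFittingSubgroup G ≤ Y :=
  sup_le (Components.layer_le_iff.mpr fun L hL =>
    (Components.component_le_or_commutator_eq_bot_of_normal hL Y).elim id
      (fun h => (Subgroup.commutator_eq_bot_iff_le_centralizer.mp h).trans hC)) hF

variable [Finite G]

theorem centralizer_fitting_le_iff :
    Subgroup.centralizer (Cfsg.fittingSubgroup G : Set G) ≤ Cfsg.fittingSubgroup G ↔
      Cfsg.layer G = ⊥ := by
  constructor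
  · intro h
    rw [Components.layer_eq_bot_iff]
    intro L hL
    haveI : Group.IsNilpotent ↥(Cfsg.fittingSubgroup G) := Fitting.fitting_isNilpotent
    exact Components.component_not_le_isSolvable hL inferInstance
      ((Components.component_le_layer hL).trans (Components.layer_le_centralizer_fitting.trans h))
  · intro h
    have h1 := Components.centralizer_generalizedFitting_le (G := G)
    rwa [Cfsg.generalizedFittingSubgroup, h, bot_sup_eq] at h1

theorem generalizedFitting_inf_normal (B : Subgroup G) [hB : B.Normal] :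
    Cfsg.generalizedFittingSubgroup G ⊓ B = (Cfsg.generalizedFittingSubgroup ↥B).map B.subtype := by
  refine le_antisymm ?_ (le_inf (Components.map_generalizedFitting_isSubnormal_le hB.isSubnormal)
    (Subgroup.map_subtype_le _))
  set T := {L : Subgroup G | Cfsg.IsComponent L ∧ ¬ L ≤ B} with hT
  set E1 := sSup {L : Subgroup G | Cfsg.IsComponent L ∧ L ≤ B} with hE1
  set E2 := sSup T with hE2
  have hlayer : Cfsg.layer G ≤ E1 ⊔ E2 := Components.layer_le_iff.mpr fun L hL => by
    by_cases h : L ≤ B
    · exact le_sup_of_le_left (le_sSup ⟨hL, h⟩)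
    · exact le_sup_of_le_right (le_sSup ⟨hL, h⟩)
  have hE1B : E1 ≤ B := sSup_le fun L hL => hL.2
  have hE1F : E1 ≤ (Cfsg.generalizedFittingSubgroup ↥B).map B.subtype := sSup_le fun L hL => by
    rw [← Subgroup.map_subgroupOf_eq_of_le hL.2]
    exact Subgroup.map_mono (Components.component_le_generalizedFitting
      (Components.component_subgroupOf hL.1 hL.2))
  have hE2B : E2 ≤ Subgroup.centralizer (B : Set G) := sSup_le fun L hL =>
    Subgroup.commutator_eq_bot_iff_le_centralizer.mp
      ((Components.component_le_or_commutator_eq_bot_of_normal hL.1 B).resolve_left hL.2)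
  have hE2F : E2 ≤ Subgroup.centralizer (Cfsg.fittingSubgroup G : Set G) :=
    le_trans (sSup_le fun L hL => Components.component_le_layer hL.1) Components.layer_le_centralizer_fitting
  set F := Cfsg.fittingSubgroup G with hF
  set M := (E2 ⊔ F) ⊓ B with hM
  have hdec : ∀ y ∈ E2 ⊔ F, ∃ e ∈ E2, ∃ f ∈ F, y = e * f := by
    intro y hy
    rw [← SetLike.mem_coe, Subgroup.mul_normal] at hy
    obtain ⟨e, he, f, hf, h⟩ := hy
    exact ⟨e, he, f, hf, h.symm⟩
  -- derived subgroup of `M`
  have key : ∀ m ∈ M, ∀ m' ∈ E2 ⊔ F, ∀ e ∈ E2, ∀ f ∈ F, m = e * f → ∃ f' ∈ F, ⁅m, m'⁆ = ⁅f, f'⁆ := by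
    intro m hm m' hm' e he f hf hmef
    obtain ⟨e', he', f', hf', rfl⟩ := hdec m' hm'
    refine ⟨f', hf', ?_⟩
    have c1 : Commute m e' := Subgroup.mem_centralizer_iff.mp (hE2B he') m hm.2
    have c2 : Commute e f' := (Subgroup.mem_centralizer_iff.mp (hE2F he) f' hf').symm
    have c3 : Commute e' ⁅f, f'⁆ := (Subgroup.mem_centralizer_iff.mp (hE2F he') _
      (mul_mem (mul_mem (mul_mem hf hf') (inv_mem hf)) (inv_mem hf'))).symm
    have c4 : Commute e ⁅f, f'⁆ := (Subgroup.mem_centralizer_iff.mp (hE2F he) _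
      (mul_mem (mul_mem (mul_mem hf hf') (inv_mem hf)) (inv_mem hf'))).symm
    calc ⁅m, e' * f'⁆ = (m * e') * f' * m⁻¹ * (e' * f')⁻¹ := by rw [commutatorElement_def]; group
      _ = e' * ((m * f' * m⁻¹) * f'⁻¹) * e'⁻¹ := by rw [c1.eq]; group
      _ = e' * (e * (f * f' * f⁻¹ * f'⁻¹) * (f' * e⁻¹) * f'⁻¹) * e'⁻¹ := by rw [hmef]; group
      _ = e' * (e * ⁅f, f'⁆ * e⁻¹) * e'⁻¹ := by
          rw [← c2.inv_left.eq, commutatorElement_def]; group
      _ = ⁅f, f'⁆ := by rw [c4.eq, mul_inv_cancel_right, c3.eq, mul_inv_cancel_right]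
  have hlow : ∀ k, M.lowerCentralSeries (k + 1) ≤ F.lowerCentralSeries (k + 1) := by
    intro k
    induction k with
    | zero =>
      simp only [Subgroup.lowerCentralSeries_succ, Subgroup.lowerCentralSeries_zero]
      rw [Subgroup.commutator_le]
      intro m hm m' hm'
      obtain ⟨e, he, f, hf, hmef⟩ := hdec m hm.1
      obtain ⟨f', hf', h⟩ := key m hm m' hm'.1 e he f hf hmef
      rw [h]
      exact Subgroup.commutator_mem_commutator hf hf'
    | succ k ih =>
      rw [Subgroup.lowerCentralSeries_succ, Subgroup.lowerCentralSeries_succ F (k + 1), Subgroup.commutator_le]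
      intro m hm m' hm'
      have hmF : m ∈ F.lowerCentralSeries (k + 1) := ih hm
      have hmM : m ∈ M := by
        have h0 : M.lowerCentralSeries (k + 1) ≤ M.lowerCentralSeries 0 :=
          M.lowerCentralSeries_antitone (Nat.zero_le _)
        exact h0 hm
      obtain ⟨f', hf', h⟩ := key m hmM m' hm'.1 1 (one_mem _) m
        (F.lowerCentralSeries_antitone (Nat.zero_le (k + 1)) hmF) (one_mul m).symm
      rw [h]
      exact Subgroup.commutator_mem_commutator hmF hf'
  haveI hMnil : Group.IsNilpotent M := by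
    obtain ⟨n, hn⟩ := Subgroup.nilpotent_iff_lowerCentralSeries.mp
      (Fitting.fitting_isNilpotent (G := G))
    have hFn : F.lowerCentralSeries (n + 1) = ⊥ := by
      refine le_bot_iff.mp ((F.lowerCentralSeries_antitone (Nat.le_succ n)).trans ?_)
      rw [← Subgroup.top_subtype_lowerCentralSeries, hn, Subgroup.map_bot]
    rw [Subgroup.nilpotent_iff_lowerCentralSeries]
    refine ⟨n + 1, ?_⟩
    rw [← Subgroup.map_eq_bot_iff_of_injective _ M.subtype_injective,
      Subgroup.top_subtype_lowerCentralSeries]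
    exact le_bot_iff.mp ((hlow n).trans hFn.le)
  haveI hE2n : E2.Normal := sSup_normal' fun g L hL => ⟨Components.component_map_conj g hL.1,
    fun h => hL.2 fun x hx => by
      have := hB.conj_mem _ (h ⟨x, hx, rfl⟩) g⁻¹
      simpa [mul_assoc] using this⟩
  have hMF : M ≤ (Cfsg.generalizedFittingSubgroup ↥B).map B.subtype := by
    have hMB : M ≤ B := inf_le_right
    rw [← Subgroup.map_subgroupOf_eq_of_le hMB]
    refine Subgroup.map_mono ((Components.le_fitting_of_isSubnormal ?_ ?_).trans
      Components.fitting_le_generalizedFitting)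
    · exact Subgroup.Normal.isSubnormal inferInstance
    · exact Group.nilpotent_of_mulEquiv (Subgroup.subgroupOfEquivOfLe hMB).symm
  intro x hx
  have hxE : x ∈ E1 ⊔ (E2 ⊔ F) := by
    rw [← sup_assoc]
    exact sup_le_sup_right hlayer F hx.1
  haveI : (E2 ⊔ F).Normal := inferInstance
  rw [← SetLike.mem_coe, Subgroup.mul_normal] at hxE
  obtain ⟨e, he, y, hy, rfl⟩ := hxE
  refine mul_mem (hE1F he) (hMF ⟨hy, ?_⟩)
  have := mul_mem (B.inv_mem (hE1B he)) hx.2
  rwa [inv_mul_cancel_left] at this

end Cfsg.Agent.H40
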