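import Cfsg.Agent.Lib.Components.Balance
import Cfsg.Agent.H40.Layer

/-!
A nontrivial piece of `O(C_H(t))` in a core-free `H` moves some `t`-invariant component.
-/

set_option autoImplicit false
open scoped commutatorElement Pointwise IsMulCommutative

namespace Cfsg.Agent.H40

theorem core_free_unbalanced_component {G : Type*} [Group G] [Finite G] (H : Subgroup G)
    (hO : Cfsg.oddCore ↥H = ⊥) (t : G) (ht : orderOf t = 2)
    (htH : t ∈ Subgroup.normalizer (H : Set G)) (Y : Subgroup G) (hY1 : Y ≠ ⊥)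
    (hY : Y ≤ (Cfsg.oddCore ↥(H ⊓ Subgroup.centralizer ({t} : Set G))).map
      (H ⊓ Subgroup.centralizer ({t} : Set G)).subtype) :
    ∃ E : Subgroup ↥H, Cfsg.IsComponent E ∧
      (E.map H.subtype).map (MulAut.conj t).toMonoidHom = E.map H.subtype ∧
      Y ≤ Subgroup.normalizer ((E.map H.subtype : Subgroup G) : Set G) ∧
      ¬ (t ∈ Subgroup.centralizer ((E.map H.subtype : Subgroup G) : Set G)) ∧
      ¬ (Y ≤ Subgroup.centralizer ((E.map H.subtype : Subgroup G) : Set G)) := by
  set M : Subgroup G := H ⊔ Subgroup.zpowers t with hM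
  have hHM : H ≤ M := le_sup_left
  have htM : t ∈ M := Subgroup.mem_sup_right (Subgroup.mem_zpowers t)
  have hMN : M ≤ Subgroup.normalizer (H : Set G) :=
    sup_le Subgroup.le_normalizer (Subgroup.zpowers_le.mpr htH)
  set HM : Subgroup M := H.subgroupOf M with hHMdef
  haveI hHMn : HM.Normal := (Subgroup.normal_subgroupOf_iff_le_normalizer hHM).mpr hMN
  let τ : M := ⟨t, htM⟩
  have hτ : orderOf τ = 2 := by rw [← Subgroup.orderOf_coe]; exact ht
  have hHMO : Cfsg.pPrimeCore 2 ↥HM = ⊥ := by
    have h := Thompson.map_pPrimeCore_equiv (p := 2) (Subgroup.subgroupOfEquivOfLe hHM)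
    rw [show Cfsg.pPrimeCore 2 ↥H = ⊥ from hO] at h
    exact (Subgroup.map_eq_bot_iff_of_injective _ (Subgroup.subgroupOfEquivOfLe hHM).injective).mp h
  -- elements of odd order and perfect subgroups of `M` lie in `H`
  have hidx : ∀ g : M, g ^ 2 ∈ HM := by
    intro g
    have hg : (g : G) ∈ ((H : Set G) * (Subgroup.zpowers t : Set G)) := by
      rw [← Subgroup.coe_mul_of_right_le_normalizer_left H _ (Subgroup.zpowers_le.mpr htH)]
      exact g.2
    obtain ⟨h, hh, _, ⟨i, rfl⟩, hg'⟩ := hg
    have ht2 : (t ^ i) ^ 2 = 1 := by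
      rw [← zpow_natCast, ← zpow_mul, mul_comm, zpow_mul, zpow_natCast,
        ← ht, pow_orderOf_eq_one, one_zpow]
    have hconj : t ^ i * h * (t ^ i)⁻¹ ∈ H :=
      (Subgroup.mem_normalizer_iff.mp (zpow_mem htH i) h).mp hh
    show (g : G) ^ 2 ∈ H
    have e : h * t ^ i * (h * t ^ i) = h * (t ^ i * h * (t ^ i)⁻¹) * (t ^ i) ^ 2 := by
      rw [pow_two (t ^ i)]; group
    rw [← hg', pow_two, show (fun x1 x2 => x1 * x2) h (t ^ i) = h * t ^ i from rfl, e, ht2, mul_one]
    exact mul_mem hh hconj
  have hquot : ∀ q : M ⧸ HM, q ^ 2 = 1 := fun q => by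
    obtain ⟨g, rfl⟩ := QuotientGroup.mk'_surjective _ q
    rw [← map_pow]; exact (QuotientGroup.eq_one_iff _).mpr (hidx g)
  have hodd : ∀ g : M, (orderOf g).Coprime 2 → g ∈ HM := fun g hg => by
    rw [← QuotientGroup.eq_one_iff, ← QuotientGroup.mk'_apply, ← orderOf_eq_one_iff]
    exact Nat.eq_one_of_dvd_coprimes hg (orderOf_map_dvd _ g) (orderOf_dvd_of_pow_eq_one (hquot _))
  have hcompH : ∀ L : Subgroup M, Cfsg.IsComponent L → L ≤ HM := by
    intro L hL
    have h1 : ⁅L, L⁆ ≤ HM := Subgroup.commutator_le.mpr fun a _ b _ => by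
      rw [← QuotientGroup.eq_one_iff, ← QuotientGroup.mk'_apply, map_commutatorElement,
        commutatorElement_eq_one_iff_mul_comm]
      have hinv : ∀ q : M ⧸ HM, q = q⁻¹ := fun q =>
        eq_inv_of_mul_eq_one_left (by rw [← pow_two]; exact hquot q)
      rw [hinv (_ * _), mul_inv_rev, ← hinv, ← hinv]
    rwa [Components.component_commutator_eq_self hL] at h1
  have hO2 : Cfsg.pPrimeCore 2 M = ⊥ := by
    have hle : Cfsg.pPrimeCore 2 M ≤ HM := fun g hg => hodd g
      (Thompson.card_pPrimeCore_coprime.coprime_dvd_left (Subgroup.orderOf_dvd_natCard _ hg))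
    have h := Thompson.subgroupOf_pPrimeCore_le (p := 2) HM
    rw [hHMO, le_bot_iff, Subgroup.subgroupOf_eq_bot] at h
    exact le_bot_iff.mp fun g hg => disjoint_iff_inf_le.mp h ⟨hg, hle hg⟩
  -- `Y` inside `O(C_M(t))`
  set C := H ⊓ Subgroup.centralizer ({t} : Set G) with hC
  set YM : Subgroup M := Y.subgroupOf M with hYMdef
  have hYC : Y ≤ C := hY.trans (Subgroup.map_subtype_le _)
  have hYM : Y ≤ M := hYC.trans (inf_le_left.trans hHM)
  have hYcore : YM ≤ Cfsg.centralizerPPrimeCore 2 τ := by
    have hCM : C.subgroupOf M ≤ Subgroup.centralizer ({τ} : Set M) := fun g hg => by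
      rw [Subgroup.mem_centralizer_singleton_iff]
      exact Subtype.ext (Subgroup.mem_centralizer_singleton_iff.mp hg.2)
    set O := (Cfsg.oddCore ↥C).map C.subtype with hO'
    have hOC : O ≤ C := Subgroup.map_subtype_le _
    refine le_trans (Subgroup.comap_mono hY) (Components.le_centralizerPPrimeCore
      ((Subgroup.comap_mono hOC).trans hCM) ?_ ?_)
    · refine Subgroup.IsSubnormal.step _ ((C.subgroupOf M).subgroupOf _)
        (Subgroup.comap_mono (Subgroup.comap_mono hOC)) (Subgroup.Normal.isSubnormal ?_) ?_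
      · refine ⟨fun n hn g => ?_⟩
        have hgC : ((g : M) : G) ∈ Subgroup.centralizer ({t} : Set G) := by
          rw [Subgroup.mem_centralizer_singleton_iff]
          exact congrArg Subtype.val (Subgroup.mem_centralizer_singleton_iff.mp g.2)
        exact ⟨(Subgroup.mem_normalizer_iff.mp (hMN (g : M).2) _).mp hn.1,
          Subgroup.mul_mem _ (Subgroup.mul_mem _ hgC hn.2) (Subgroup.inv_mem _ hgC)⟩
      · refine (Subgroup.normal_subgroupOf_iff_le_normalizer
          (Subgroup.comap_mono (Subgroup.comap_mono hOC))).mpr ?_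
        refine le_trans (Subgroup.comap_mono ?_) (Subgroup.le_normalizer_comap _)
        refine le_trans (Subgroup.comap_mono ?_) (Subgroup.le_normalizer_comap _)
        exact le_trans Subgroup.le_normalizer
          (Components.normalizer_le_normalizer_map_characteristic C (Cfsg.oddCore ↥C))
    · show (Nat.card ↥(O.subgroupOf M)).Coprime 2
      rw [Nat.card_congr (Subgroup.subgroupOfEquivOfLe (hOC.trans (inf_le_left.trans hHM))).toEquiv,
        hO', Subgroup.card_map_of_injective C.subtype_injective]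
      exact Thompson.card_pPrimeCore_coprime
  have hXp : IsPGroup 2 ↥(Subgroup.zpowers τ) :=
    IsPGroup.of_card (n := 1) (by rw [Nat.card_zpowers, hτ, pow_one])
  have hcover : YM ≤ Components.localLayerCover 2 (Subgroup.zpowers τ) :=
    hYcore.trans (Components.centralizerPPrimeCore_le_localLayerCover τ)
  -- some component is moved by `Y`
  obtain ⟨L, hL, hLY⟩ : ∃ L : Subgroup M, Cfsg.IsComponent L ∧
      ¬ YM ≤ Subgroup.centralizer (L : Set M) := by
    by_contra hall
    push Not at hall
    apply hY1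
    have hYF : YM ≤ Subgroup.centralizer (Cfsg.generalizedFittingSubgroup M : Set M) := by
      rw [Subgroup.le_centralizer_iff, Cfsg.generalizedFittingSubgroup]
      refine sup_le (Components.layer_le_iff.mpr fun L hL =>
        Subgroup.le_centralizer_iff.mp (hall L hL)) ?_
      rw [Components.fitting_eq_pCore_of_pPrimeCore_eq_bot hO2, Subgroup.le_centralizer_iff]
      exact hcover.trans (Components.localLayerCover_le_centralizer_pCore hXp)
    have hYp : YM ≤ Cfsg.pCore 2 M := by
      intro y hy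
      have h1 := Components.centralizer_generalizedFitting_le (hYF hy)
      let A := Subgroup.centralizer (Cfsg.generalizedFittingSubgroup M : Set M) ⊓
        Cfsg.generalizedFittingSubgroup M
      haveI hAc : IsMulCommutative A := ⟨⟨fun a b => Subtype.ext
        (Subgroup.mem_centralizer_iff.mp b.2.1 a a.2.2)⟩⟩
      rw [← Components.fitting_eq_pCore_of_pPrimeCore_eq_bot hO2]
      exact Fitting.le_fitting (inferInstance : A.Normal) inferInstance ⟨hYF hy, h1⟩
    have h3 := Thompson.inf_eq_bot_of_isPGroup_of_coprime (Thompson.isPGroup_pCore (p := 2) (G := M))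
      (Components.centralizerPPrimeCore_coprime (p := 2) τ)
    have h4 : YM ≤ ⊥ := h3 ▸ le_inf hYp hYcore
    rw [← Subgroup.map_subgroupOf_eq_of_le hYM]
    rw [show Y.subgroupOf M = ⊥ from le_bot_iff.mp h4, Subgroup.map_bot]
  have hne : ⁅L, Subgroup.zpowers τ⁆ = L := by
    by_contra h
    refine hLY ?_
    have := Subgroup.commutator_eq_bot_iff_le_centralizer.mp
      (Components.component_commutator_centralizerPPrimeCore hO2 hτ hL h)
    exact hYcore.trans (Subgroup.le_centralizer_iff.mp this)
  have hτL : τ ∈ Subgroup.normalizer (L : Set M) :=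
    (hne ▸ Subgroup.normalizer_commutator_ge_right _ _) (Subgroup.mem_zpowers τ)
  have hYL : YM ≤ Subgroup.normalizer (L : Set M) :=
    hcover.trans (Components.localLayerCover_le_normalizer_component hO2 hXp hL)
  -- back to `H`
  have hLH : L.map M.subtype ≤ H := by
    rintro _ ⟨l, hl, rfl⟩
    exact hcompH L hL hl
  have hmap : ((L.map M.subtype).subgroupOf H).map H.subtype = L.map M.subtype :=
    Subgroup.map_subgroupOf_eq_of_le hLH
  refine ⟨(L.map M.subtype).subgroupOf H, ?_, ?_, ?_, ?_, ?_⟩
  · have h1 : Cfsg.IsComponent (L.subgroupOf HM) := Components.component_subgroupOf hL (hcompH L hL)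
    have h2 := Components.component_map_equiv (Subgroup.subgroupOfEquivOfLe hHM) h1
    convert h2 using 1
    ext x
    constructor
    · rintro ⟨l, hl, hlx⟩
      refine ⟨⟨⟨(x : G), hHM x.2⟩, x.2⟩, ?_, Subtype.ext rfl⟩
      have e : l = ⟨(x : G), hHM x.2⟩ := Subtype.ext hlx
      subst e
      exact hl
    · rintro ⟨l, hl, rfl⟩
      exact ⟨(l : M), hl, rfl⟩
  all_goals rw [hmap]
  · have h1 := Subgroup.mem_normalizer_iff_map_conj_eq.mp hτL
    conv_rhs => rw [← h1]
    rw [Subgroup.map_map, Subgroup.map_map]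
    rfl
  · intro y hy
    exact Subgroup.le_normalizer_map M.subtype ⟨⟨y, hYM hy⟩, hYL hy, rfl⟩
  · intro htc
    apply Components.component_ne_bot hL
    rw [← hne, Subgroup.commutator_eq_bot_iff_le_centralizer]
    intro l hl
    rw [Subgroup.mem_centralizer_iff]
    rintro _ ⟨i, rfl⟩
    have hc : Commute τ l := Subtype.ext (Subgroup.mem_centralizer_iff.mp htc _ ⟨l, hl, rfl⟩).symm
    exact (hc.zpow_left i).eq
  · intro hYc
    apply hLY
    intro y hy
    rw [Subgroup.mem_centralizer_iff]
    intro l hl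
    exact Subtype.ext (Subgroup.mem_centralizer_iff.mp (hYc hy) _ ⟨l, hl, rfl⟩)

end Cfsg.Agent.H40
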