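import Mathlib

/-!
The friendship theorem in the regular case: no finite symmetric irreflexive relation, regular
of degree at least three, has exactly one common neighbour for each pair of distinct points.
-/

set_option autoImplicit false

namespace Cfsg.Agent.H40.Friendship

open Finset Matrix

theorem isEmpty_of_regular {V : Type*} [Finite V] (r : V → V → Prop)
    (hsym : ∀ v w, r v w → r w v) (hirr : ∀ v, ¬ r v v) (d : ℕ) (hd : 3 ≤ d)
    (hreg : ∀ v, Nat.card {w // r v w} = d)
    (hone : ∀ v w, v ≠ w → ∃! u, r v u ∧ r w u) : IsEmpty V := by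
  classical
  refine ⟨fun v₀ => ?_⟩
  haveI := Fintype.ofFinite V
  obtain ⟨q, hq, hqd⟩ := Nat.exists_prime_and_dvd (show d - 1 ≠ 1 by omega)
  haveI := Fact.mk hq
  have hd1 : (d : ZMod q) = 1 := by
    have h : ((d - 1 : ℕ) : ZMod q) = 0 := (ZMod.natCast_eq_zero_iff _ _).mpr hqd
    rwa [Nat.cast_sub (by omega), Nat.cast_one, sub_eq_zero] at h
  let A : Matrix V V (ZMod q) := Matrix.of fun v w => if r v w then 1 else 0
  let J : Matrix V V (ZMod q) := Matrix.of fun _ _ => 1
  have hA2 : A * A = J := by
    ext v w
    simp only [Matrix.mul_apply, A, J, Matrix.of_apply]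
    rw [Finset.sum_congr rfl (fun u _ => show (if r v u then (1 : ZMod q) else 0) *
        (if r u w then 1 else 0) = if r v u ∧ r w u then 1 else 0 from ?_)]
    · rw [Finset.sum_boole]
      rcases eq_or_ne v w with rfl | hne
      · have h : (univ.filter fun u => r v u ∧ r v u).card = d := by
          rw [← hreg v, Nat.card_eq_fintype_card, Fintype.card_subtype]
          congr 1
          ext u
          simp
        rw [h, hd1]
      · obtain ⟨u, hu, huu⟩ := hone v w hne
        have h : (univ.filter fun u => r v u ∧ r w u) = {u} := by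
          ext y
          simp only [Finset.mem_filter, Finset.mem_univ, true_and, Finset.mem_singleton]
          exact ⟨huu y, fun hy => hy ▸ hu⟩
        rw [h, Finset.card_singleton, Nat.cast_one]
    · by_cases h1 : r v u
      · by_cases h2 : r u w
        · simp [h1, h2, hsym _ _ h2]
        · rw [if_pos h1, if_neg h2, if_neg (fun h => h2 (hsym _ _ h.2)), mul_zero]
      · simp [h1]
  have hAJ : A * J = J := by
    ext v w
    simp only [Matrix.mul_apply, A, J, Matrix.of_apply, mul_one]
    rw [Finset.sum_boole]
    have h : (univ.filter fun u => r v u).card = d := by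
      rw [← hreg v, Nat.card_eq_fintype_card, Fintype.card_subtype]
    rw [h, hd1]
  have hJJ : J * J = J := by
    calc J * J = A * A * J := by rw [hA2]
      _ = A * (A * J) := Matrix.mul_assoc _ _ _
      _ = J := by rw [hAJ, hAJ]
  have hn : (Fintype.card V : ZMod q) = 1 := by
    have h := congrFun (congrFun hJJ v₀) v₀
    simpa [Matrix.mul_apply, J] using h
  have hpow : ∀ k, A ^ (k + 2) = J := by
    intro k
    induction k with
    | zero => rw [pow_two, hA2]
    | succ k ih => rw [pow_succ', ih, hAJ]
  have htr := ZMod.trace_pow_card A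
  obtain ⟨k, hk⟩ : ∃ k, q = k + 2 := ⟨q - 2, by have := hq.two_le; omega⟩
  have hqA : A ^ q = J := (congrArg (fun e : ℕ => A ^ e) hk).trans (hpow k)
  have hJt : Matrix.trace J = (Fintype.card V : ZMod q) := by simp [Matrix.trace, J]
  have hAt : Matrix.trace A = 0 := by simp [Matrix.trace, A, hirr]
  rw [hqA, hJt, hn, hAt, zero_pow hq.ne_zero] at htr
  exact one_ne_zero htr

end Cfsg.Agent.H40.Friendship
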