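import Cfsg.Prelude.Def_Balance
import Cfsg.Agent.H40.Layer
import Cfsg.Agent.Lib.Components.PComponents
import Cfsg.Agent.Lib.Components.PermuteComponents

/-!
The extended 2-layer.
-/

set_option autoImplicit false
open scoped commutatorElement

namespace Cfsg.Agent.H40

variable {X : Type*} [Group X]

/-- `O(C_X(H))` as a subgroup of `X`. -/
abbrev coreC (H : Subgroup X) : Subgroup X :=
  (Cfsg.oddCore ↥(Subgroup.centralizer (H : Set X))).map (Subgroup.centralizer (H : Set X)).subtype

theorem centralizer_map_conj (g : X) (H : Subgroup X) :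
    (Subgroup.centralizer (H : Set X)).map (MulAut.conj g).toMonoidHom =
      Subgroup.centralizer ((H.map (MulAut.conj g).toMonoidHom : Subgroup X) : Set X) := by
  ext x
  constructor
  · rintro ⟨c, hc, rfl⟩
    rw [Subgroup.mem_centralizer_iff]
    rintro _ ⟨h, hh, rfl⟩
    rw [← map_mul, Subgroup.mem_centralizer_iff.mp hc h hh, map_mul]
  · intro hx
    refine ⟨g⁻¹ * x * g, Subgroup.mem_centralizer_iff.mpr fun h hh => ?_,
      by show g * (g⁻¹ * x * g) * g⁻¹ = x; group⟩
    have h1 : (g * h * g⁻¹) * x = x * (g * h * g⁻¹) :=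
      Subgroup.mem_centralizer_iff.mp hx _ ⟨h, hh, rfl⟩
    calc h * (g⁻¹ * x * g) = g⁻¹ * ((g * h * g⁻¹) * x) * g := by group
      _ = g⁻¹ * (x * (g * h * g⁻¹)) * g := by rw [h1]
      _ = g⁻¹ * x * g * h := by group

theorem map_coreC (g : X) (H : Subgroup X) :
    (coreC H).map (MulAut.conj g).toMonoidHom = coreC (H.map (MulAut.conj g).toMonoidHom) := by
  let e := ((Subgroup.centralizer (H : Set X)).equivMapOfInjective _ (MulAut.conj g).injective).trans
    (MulEquiv.subgroupCongr (centralizer_map_conj g H))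
  show _ = Subgroup.map _ (Cfsg.pPrimeCore 2 _)
  rw [← Thompson.map_pPrimeCore_equiv e]
  show Subgroup.map _ (Subgroup.map _ _) = _
  rw [Subgroup.map_map, Subgroup.map_map]
  rfl

theorem normalizer_le_normalizer_coreC (H : Subgroup X) :
    Subgroup.normalizer (H : Set X) ≤ Subgroup.normalizer (coreC H : Set X) := fun g hg => by
  rw [Subgroup.mem_normalizer_iff_map_conj_eq]
  exact (map_coreC g H).trans (congrArg coreC (Subgroup.mem_normalizer_iff_map_conj_eq.mp hg))

variable (X)

/-- `L_{2'}(X) O_{2',2}(X)`. -/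
abbrev layerPCore : Subgroup X := Cfsg.pLayer 2 X ⊔ Cfsg.pPrimePCore 2 X

variable {X}

instance pPrimePCore_normal' (p : ℕ) : (Cfsg.pPrimePCore p X).Normal :=
  Subgroup.Normal.comap inferInstance _

theorem isPComponent_map_equiv {p : ℕ} {Y : Type*} [Group Y] (e : X ≃* Y) {K : Subgroup X}
    (hK : Cfsg.IsPComponent p K) : Cfsg.IsPComponent p (K.map e.toMonoidHom) := by
  have hO : (Cfsg.pPrimeCore p X).map e.toMonoidHom = Cfsg.pPrimeCore p Y :=
    Thompson.map_pPrimeCore_equiv e
  let eq : (X ⧸ Cfsg.pPrimeCore p X) ≃* (Y ⧸ Cfsg.pPrimeCore p Y) :=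
    QuotientGroup.congr _ _ e hO
  have key : ∀ H : Subgroup X, (H.map e.toMonoidHom).map (QuotientGroup.mk' _) =
      (H.map (QuotientGroup.mk' (Cfsg.pPrimeCore p X))).map eq.toMonoidHom := fun H => by
    rw [Subgroup.map_map, Subgroup.map_map]
    congr 1
  refine ⟨hK.1.map e.surjective, ?_, fun H hH hle hmap => ?_⟩
  · rw [key]
    exact Components.component_map_equiv eq hK.2.1
  · have hH' : H = (H.comap e.toMonoidHom).map e.toMonoidHom :=
      (Subgroup.map_comap_eq_self_of_surjective e.surjective H).symm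
    rw [hH', key, key] at hmap
    rw [hH', hK.2.2 _ (hH.comap _) (by
      rw [← Subgroup.comap_map_eq_self_of_injective (f := e.toMonoidHom) e.injective K]
      exact Subgroup.comap_mono hle) (Subgroup.map_injective eq.injective hmap)]

instance pLayer_normal' (p : ℕ) : (Cfsg.pLayer p X).Normal :=
  sSup_normal' fun g _ hK => isPComponent_map_equiv (MulAut.conj g) hK

variable [Finite X]

theorem conj_sylow_mem (T : Sylow 2 ↥(layerPCore X)) (g : X) :
    ∃ T' : Sylow 2 ↥(layerPCore X), (T' : Subgroup ↥(layerPCore X)).map (layerPCore X).subtype =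
      ((T : Subgroup ↥(layerPCore X)).map (layerPCore X).subtype).map (MulAut.conj g).toMonoidHom := by
  have hn : (layerPCore X).map (MulAut.conj g).toMonoidHom = layerPCore X :=
    Subgroup.mem_normalizer_iff_map_conj_eq.mp
      (by rw [Subgroup.normalizer_eq_top_iff.mpr inferInstance]; exact Subgroup.mem_top g)
  let e : ↥(layerPCore X) ≃* ↥(layerPCore X) :=
    ((layerPCore X).equivMapOfInjective _ (MulAut.conj g).injective).trans (MulEquiv.subgroupCongr hn)
  refine ⟨T.mapSurjective (f := e.toMonoidHom) e.surjective, ?_⟩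
  show Subgroup.map _ (Subgroup.map _ _) = _
  rw [Subgroup.map_map, Subgroup.map_map]
  rfl

theorem extendedTwoLayer_normal : (Cfsg.extendedTwoLayer X).Normal := by
  refine ⟨fun x hx g => ?_⟩
  have key : Cfsg.extendedTwoLayer X ≤
      (Cfsg.extendedTwoLayer X).comap (MulAut.conj g).toMonoidHom := by
    refine sup_le (fun y hy => ?_) (iSup_le fun T => ?_)
    · exact Subgroup.mem_sup_left (Subgroup.Normal.conj_mem inferInstance y hy g)
    · obtain ⟨T', hT'⟩ := conj_sylow_mem T g
      rw [← Subgroup.map_le_iff_le_comap]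
      refine le_trans ?_ (le_sup_of_le_right (le_iSup _ T'))
      exact (map_coreC g _).le.trans (le_of_eq (by rw [hT']))
  exact key hx

theorem layerPCore_eq_sup (T : Sylow 2 ↥(layerPCore X)) :
    layerPCore X ≤ (Cfsg.pLayer 2 X ⊔ Cfsg.oddCore X) ⊔
      (T : Subgroup ↥(layerPCore X)).map (layerPCore X).subtype := by
  set N := Cfsg.pLayer 2 X ⊔ Cfsg.oddCore X with hN
  set π := QuotientGroup.mk' (N.subgroupOf (layerPCore X)) with hπ
  have hp : IsPGroup 2 ↥((layerPCore X).map (QuotientGroup.mk' N)) := by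
    have hle : (layerPCore X).map (QuotientGroup.mk' N) =
        (Cfsg.pPrimePCore 2 X).map (QuotientGroup.mk' N) := by
      rw [Subgroup.map_sup, show (Cfsg.pLayer 2 X).map (QuotientGroup.mk' N) = ⊥ by
        rw [Subgroup.map_eq_bot_iff, QuotientGroup.ker_mk']; exact le_sup_left, bot_sup_eq]
    rw [hle]
    intro y
    obtain ⟨x, hx, hxy⟩ := y.2
    obtain ⟨k, hk⟩ := Thompson.isPGroup_pCore (p := 2) (G := X ⧸ Cfsg.pPrimeCore 2 X)
      ⟨_, (hx : QuotientGroup.mk' (Cfsg.pPrimeCore 2 X) x ∈ _)⟩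
    refine ⟨k, Subtype.ext ?_⟩
    show (y : X ⧸ N) ^ 2 ^ k = 1
    rw [← hxy, ← map_pow]
    refine (QuotientGroup.eq_one_iff _).mpr (Subgroup.mem_sup_right ((QuotientGroup.eq_one_iff _).mp ?_))
    exact congrArg Subtype.val hk
  let f := (QuotientGroup.mk' N).subgroupMap (layerPCore X)
  have hf : Function.Surjective f := MonoidHom.subgroupMap_surjective _ _
  have h1 := (T.mapSurjective hf).is_maximal' (hp.of_equiv Subgroup.topEquiv.symm) le_top
  intro y hy
  have h2 : f ⟨y, hy⟩ ∈ (T.mapSurjective hf).toSubgroup := h1 ▸ Subgroup.mem_top _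
  obtain ⟨s, hs, hsy⟩ := h2
  have h3 : (s : X)⁻¹ * y ∈ N := QuotientGroup.eq.mp (congrArg Subtype.val hsy)
  have h4 := mul_mem (Subgroup.mem_sup_right (S := N)
    (Subgroup.mem_map_of_mem (layerPCore X).subtype hs)) (Subgroup.mem_sup_left h3)
  rwa [Subgroup.coe_subtype, mul_inv_cancel_left] at h4

theorem extendedTwoLayer_eq (T : Sylow 2 ↥(layerPCore X)) :
    Cfsg.extendedTwoLayer X = Cfsg.pLayer 2 X ⊔ Cfsg.oddCore X ⊔
      coreC ((T : Subgroup ↥(layerPCore X)).map (layerPCore X).subtype) := by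
  refine le_antisymm (sup_le le_sup_left (iSup_le fun T' => ?_))
    (sup_le le_sup_left (le_sup_of_le_right (le_iSup_of_le T le_rfl)))
  set N := Cfsg.pLayer 2 X ⊔ Cfsg.oddCore X with hN
  set T0 := (T : Subgroup ↥(layerPCore X)).map (layerPCore X).subtype with hT0
  obtain ⟨y, rfl⟩ := MulAction.exists_smul_eq ↥(layerPCore X) T T'
  have hy := layerPCore_eq_sup T y.2
  rw [← SetLike.mem_coe, Subgroup.normal_mul] at hy
  obtain ⟨n, hn, t, ht, hnt⟩ := hy
  have himg : ((y • T : Sylow 2 ↥(layerPCore X)) : Subgroup _).map (layerPCore X).subtype =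
      T0.map (MulAut.conj n).toMonoidHom := by
    have h1 : ((y • T : Sylow 2 ↥(layerPCore X)) : Subgroup _).map (layerPCore X).subtype =
        T0.map (MulAut.conj (y : X)).toMonoidHom := by
      show Subgroup.map _ (Subgroup.map (MulAut.conj y).toMonoidHom (T : Subgroup ↥(layerPCore X))) = _
      rw [hT0, Subgroup.map_map, Subgroup.map_map]
      rfl
    rw [h1, ← hnt]
    conv_rhs => rw [← Subgroup.mem_normalizer_iff_map_conj_eq.mp (Subgroup.le_normalizer ht : t ∈ Subgroup.normalizer (T0 : Set X))]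
    refine Eq.trans ?_ (Subgroup.map_map T0 _ _).symm
    refine congrArg (fun φ : X →* X => T0.map φ) ?_
    apply MonoidHom.ext
    intro x
    show (n * t) * x * (n * t)⁻¹ = n * (t * x * t⁻¹) * n⁻¹
    group
  show coreC _ ≤ _
  rw [himg, ← map_coreC]
  rintro _ ⟨d, hd, rfl⟩
  have e : n * d * n⁻¹ = (n * (d * n⁻¹ * d⁻¹)) * d := by group
  show n * d * n⁻¹ ∈ _
  rw [e]
  exact mul_mem (Subgroup.mem_sup_left (mul_mem hn
    ((inferInstance : N.Normal).conj_mem _ (inv_mem hn) d))) (Subgroup.mem_sup_right hd)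

theorem exists_odd_complement : ∃ F : Subgroup X, Odd (Nat.card ↥F) ∧
    (∃ S : Sylow 2 X, (S : Subgroup X) ≤ Subgroup.normalizer (F : Set X)) ∧
      Cfsg.extendedTwoLayer X = Cfsg.pLayer 2 X ⊔ F := by
  obtain ⟨T⟩ := (inferInstance : Nonempty (Sylow 2 ↥(layerPCore X)))
  set T0 := (T : Subgroup ↥(layerPCore X)).map (layerPCore X).subtype with hT0
  obtain ⟨S, hS⟩ := (T.isPGroup'.map (layerPCore X).subtype).exists_le_sylow
  have hST : (S : Subgroup X) ⊓ layerPCore X = T0 := by
    refine le_antisymm ?_ (le_inf hS (Subgroup.map_subtype_le _))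
    have h1 := T.is_maximal' (S.isPGroup'.comap_subtype (K := layerPCore X))
      (Subgroup.map_le_iff_le_comap.mp hS)
    rw [hT0, ← h1, Subgroup.map_comap_eq, Subgroup.range_subtype, inf_comm]
  refine ⟨Cfsg.oddCore X ⊔ coreC T0, ?_, ⟨S, ?_⟩, ?_⟩
  · have h1 : (Nat.card (coreC T0)).Coprime 2 := by
      rw [Subgroup.card_map_of_injective (Subgroup.subtype_injective _)]
      exact Thompson.card_pPrimeCore_coprime
    rw [← Nat.coprime_two_right, sup_comm]
    exact Nat.Coprime.coprime_dvd_left (Thompson.card_sup_dvd_mul _ _)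
      (h1.mul_left Thompson.card_pPrimeCore_coprime)
  · intro s hs
    have hsT : s ∈ Subgroup.normalizer (T0 : Set X) := by
      rw [← hST]
      refine Subgroup.inf_normalizer_le_normalizer_inf ⟨Subgroup.le_normalizer hs, ?_⟩
      rw [SetLike.mem_coe, Subgroup.normalizer_eq_top_iff.mpr inferInstance]
      exact Subgroup.mem_top s
    rw [Subgroup.mem_normalizer_iff_map_conj_eq, Subgroup.map_sup,
      Subgroup.mem_normalizer_iff_map_conj_eq.mp (normalizer_le_normalizer_coreC T0 hsT),
      Subgroup.mem_normalizer_iff_map_conj_eq.mp]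
    rw [Subgroup.normalizer_eq_top_iff.mpr inferInstance]
    exact Subgroup.mem_top s
  · rw [extendedTwoLayer_eq T, sup_assoc]

theorem pComponent_normal_in_extended {K : Subgroup X} (hK : Cfsg.IsPComponent 2 K) :
    K ≤ Cfsg.extendedTwoLayer X ∧ (K.subgroupOf (Cfsg.extendedTwoLayer X)).Normal := by
  have hle : K ≤ Cfsg.extendedTwoLayer X :=
    le_sup_of_le_left (le_sup_of_le_left (Components.pComponent_le_pLayer hK))
  refine ⟨hle, (Subgroup.normal_subgroupOf_iff_le_normalizer hle).mpr ?_⟩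
  set O := Cfsg.pPrimeCore 2 X with hO
  set π := QuotientGroup.mk' O with hπ
  set Kb := K.map π with hKb
  have hKb' : Cfsg.IsComponent Kb := hK.2.1
  have hnorm : ∀ g : X, π g ∈ Subgroup.normalizer (Kb : Set (X ⧸ O)) →
      g ∈ Subgroup.normalizer (K : Set X) := by
    intro g hg
    rw [Components.isPComponent_eq hK]
    exact Components.normalizer_le_normalizer_pElementsClosure 2 _ (Subgroup.le_normalizer_comap _ hg)
  have hON : O ≤ Subgroup.normalizer (K : Set X) := fun g hg => hnorm g (by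
    rw [show π g = 1 from (QuotientGroup.eq_one_iff g).mpr hg]
    exact one_mem _)
  have hP : Cfsg.pPrimePCore 2 X ≤ Subgroup.normalizer (K : Set X) := by
    intro g hg
    refine hnorm g (Subgroup.centralizer_le_normalizer _ ?_)
    have h : Cfsg.pCore 2 (X ⧸ O) ≤ Subgroup.centralizer (Kb : Set (X ⧸ O)) :=
      (Fitting.pCore_le_fitting 2).trans (Components.fitting_le_centralizer_layer.trans
        (Subgroup.centralizer_le (Components.component_le_layer hKb')))
    exact h hg
  have hY : layerPCore X ≤ Subgroup.normalizer (K : Set X) :=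
    sup_le (Components.pLayer_le_normalizer hK) hP
  obtain ⟨T⟩ := (inferInstance : Nonempty (Sylow 2 ↥(layerPCore X)))
  rw [extendedTwoLayer_eq T]
  refine sup_le (sup_le (Components.pLayer_le_normalizer hK) hON) fun d hd => hnorm d ?_
  -- a noncentral element of `T ∩ K`
  have hK2 : 2 ∣ Nat.card Kb :=
    Components.dvd_card_component Thompson.pPrimeCore_quotient_pPrimeCore hKb'
  obtain ⟨a, hac, k, hk⟩ := Components.exists_noncentral_pElement hKb'.2 hK2
  obtain ⟨w, hw, hwa⟩ := a.2
  -- replace `w` by a 2-element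
  obtain ⟨i, m, hm, hwo⟩ := Nat.exists_eq_pow_mul_and_not_dvd (orderOf_pos w).ne' 2 (by norm_num)
  have hcop : Nat.Coprime m (orderOf a) :=
    hk ▸ ((Nat.prime_two.coprime_iff_not_dvd).mpr hm).symm.pow_right k
  have hnc : π (w ^ m) ∉ Subgroup.centralizer (Kb : Set (X ⧸ O)) := by
    intro h
    apply hac
    have h1 : a ^ m ∈ Subgroup.center ↥Kb := Subgroup.mem_center_iff.mpr fun b => Subtype.ext (by
      have := Subgroup.mem_centralizer_iff.mp h b b.2
      rw [map_pow, hπ, hwa] at this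
      simpa using this)
    obtain ⟨j, hj⟩ := exists_pow_eq_self_of_coprime hcop
    exact hj ▸ pow_mem h1 j
  have hKY : K ≤ layerPCore X := le_sup_of_le_left (Components.pComponent_le_pLayer hK)
  have hz : IsPGroup 2 ↥(Subgroup.zpowers (⟨w ^ m, hKY (pow_mem hw m)⟩ : ↥(layerPCore X))) := by
    rw [IsPGroup.iff_card]
    refine ⟨i, ?_⟩
    rw [Nat.card_zpowers, Subgroup.orderOf_mk, orderOf_pow_of_dvd (fun h => by subst h; exact hm (dvd_zero 2))
      (hwo ▸ dvd_mul_left m _), hwo, Nat.mul_div_cancel _ (Nat.pos_of_ne_zero fun h => by subst h; exact hm (dvd_zero 2))]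
  obtain ⟨T', hT'⟩ := hz.exists_le_sylow
  obtain ⟨y, hy⟩ := MulAction.exists_smul_eq ↥(layerPCore X) T' T
  set t : X := (y : X) * w ^ m * (y : X)⁻¹ with ht
  have htT : t ∈ (T : Subgroup ↥(layerPCore X)).map (layerPCore X).subtype := by
    refine ⟨y * ⟨w ^ m, hKY (pow_mem hw m)⟩ * y⁻¹, ?_, rfl⟩
    rw [← hy]
    exact ⟨_, hT' (Subgroup.mem_zpowers _), rfl⟩
  have htK : t ∈ K := (Subgroup.mem_normalizer_iff.mp (hY y.2) _).mp (pow_mem hw m)
  have hπy : π y ∈ Subgroup.normalizer (Kb : Set (X ⧸ O)) :=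
    Subgroup.le_normalizer_map π ⟨y, hY y.2, rfl⟩
  by_contra hdn
  apply hnc
  have hne : Kb.map (MulAut.conj (π d)).toMonoidHom ≠ Kb := fun h =>
    hdn (Subgroup.mem_normalizer_iff_map_conj_eq.mpr h)
  have hdt : t * d = d * t := Subgroup.mem_centralizer_iff.mp
    (Subgroup.map_subtype_le _ hd : d ∈ Subgroup.centralizer _) t htT
  have hmem : π t ∈ Kb ⊓ Kb.map (MulAut.conj (π d)).toMonoidHom := by
    refine ⟨Subgroup.mem_map_of_mem π htK, π t, Subgroup.mem_map_of_mem π htK, ?_⟩
    show π d * π t * (π d)⁻¹ = π t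
    rw [← map_mul, ← hdt, map_mul, mul_inv_cancel_right]
  have htc := Components.component_inf_le_centralizer hKb'
    (Components.component_map_conj (π d) hKb') hne.symm hmem
  have hC := Coprime.le_normalizer_centralizer (A := Subgroup.normalizer (Kb : Set (X ⧸ O))) le_rfl
    hπy
  have := (Subgroup.mem_normalizer_iff.mp hC (π (w ^ m))).mpr
    (by rw [← map_inv, ← map_mul, ← map_mul]; exact htc)
  exact this

end Cfsg.Agent.H40
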