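import Cfsg.Agent.Lib.Involution.NormalFour
import Cfsg.Agent.Lib.PGroup.NormalAbelian

/-!
2-groups with a noncentral involution: a normal four-subgroup, or a subgroup of index two avoiding
the involution whose involutions are all central.
-/

set_option autoImplicit false

namespace Cfsg.Agent.H40

open Subgroup

variable {T : Type*} [Group T] [Finite T]

theorem exists_four_or_index_two (hT : IsPGroup 2 T) {x : T} (hx : orderOf x = 2)
    (hxc : x ∉ center T) :
    (∃ U : Subgroup T, U.Normal ∧ Nat.card U = 4 ∧ ∀ u ∈ U, u * u = 1) ∨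
      ∃ B : Subgroup T, B.index = 2 ∧ x ∉ B ∧ ∀ y ∈ B, orderOf y = 2 → y ∈ center T := by
  haveI : Fact (Nat.Prime 2) := ⟨Nat.prime_two⟩
  obtain ⟨A, hAn, hAc, hCA⟩ := PGroup.exists_selfCentralizing_normal_abelian hT
  haveI := hAn
  by_cases hcyc : IsCyclic A
  swap
  · obtain ⟨U, -, hUn, -, hU2, hU4⟩ := PGroup.exists_normal_elementary_sq_of_abelian hT hAc hcyc
    exact Or.inl ⟨U, hUn, by rw [hU4]; norm_num, fun u hu => by rw [← sq]; exact hU2 u hu⟩
  obtain ⟨a₀, ha₀⟩ := IsCyclic.exists_generator (α := A)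
  set a : T := (a₀ : T) with hadef
  have haA : a ∈ A := a₀.2
  have hgen : ∀ b ∈ A, ∃ i : ℤ, b = a ^ i := fun b hb => by
    obtain ⟨i, hi⟩ := ha₀ ⟨b, hb⟩
    exact ⟨i, by simpa using (congrArg Subtype.val hi).symm⟩
  have hAcomm : ∀ b ∈ A, ∀ c ∈ A, b * c = c * b := fun b hb c hc =>
    congrArg Subtype.val (hAc.is_comm.comm (⟨b, hb⟩ : A) ⟨c, hc⟩)
  have hmemA : ∀ w : T, Commute w a → w ∈ A := fun w hw => by
    rw [← hCA, mem_centralizer_iff]
    intro b hb
    obtain ⟨i, rfl⟩ := hgen b hb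
    exact (hw.zpow_right i).eq.symm
  obtain ⟨m, hm⟩ := IsPGroup.iff_orderOf.mp hT a
  -- an involution of `A` is `a ^ 2^(m-1)`, hence central
  have hinv : ∀ y ∈ A, orderOf y = 2 → 1 ≤ m ∧ y = a ^ 2 ^ (m - 1) := by
    intro y hy hy2
    obtain ⟨i, rfl⟩ := hgen y hy
    have h1 : a ^ (2 * i) = 1 := by
      rw [mul_comm, zpow_mul, zpow_two, Involution.mul_self_of_orderOf hy2]
    rw [← orderOf_dvd_iff_zpow_eq_one, hm] at h1
    rcases Nat.eq_zero_or_pos m with rfl | hpos
    · rw [pow_zero, orderOf_eq_one_iff] at hm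
      rw [hm, one_zpow, orderOf_one] at hy2
      omega
    refine ⟨hpos, ?_⟩
    obtain ⟨n, rfl⟩ : ∃ n, m = n + 1 := ⟨m - 1, by omega⟩
    obtain ⟨j, hj⟩ : (2 : ℤ) ^ n ∣ i := by
      have : (2 : ℤ) * 2 ^ n ∣ 2 * i := by rw [← pow_succ']; exact_mod_cast h1
      exact Int.dvd_of_mul_dvd_mul_left (by norm_num) this
    have hz2 : (a ^ 2 ^ n) * (a ^ 2 ^ n) = 1 := by
      rw [← pow_add, ← two_mul, ← pow_succ', ← hm, pow_orderOf_eq_one]
    subst hj
    rw [zpow_mul, show ((2 : ℤ) ^ n) = ((2 ^ n : ℕ) : ℤ) by push_cast; rfl, zpow_natCast,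
      Nat.add_sub_cancel]
    rw [zpow_mul, show ((2 : ℤ) ^ n) = ((2 ^ n : ℕ) : ℤ) by push_cast; rfl, zpow_natCast] at hy2
    rcases Int.even_or_odd j with ⟨l, rfl⟩ | ⟨l, rfl⟩
    · rw [← two_mul, zpow_mul, zpow_two, hz2, one_zpow, orderOf_one] at hy2
      omega
    · rw [zpow_add, zpow_mul, zpow_two, hz2, one_zpow, zpow_one, one_mul]
  have hinvc : ∀ y ∈ A, orderOf y = 2 → y ∈ center T := by
    intro y hy hy2
    rw [mem_center_iff]
    intro g
    have h1 := hinv _ (hAn.conj_mem y hy g)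
      (by rw [← MulAut.conj_apply, MulEquiv.orderOf_eq, hy2])
    rw [← (hinv y hy hy2).2] at h1
    exact mul_inv_eq_iff_eq_mul.mp h1.2
  have hxA : x ∉ A := fun h => hxc (hinvc x h hx)
  have hm2 : 2 ≤ m := by
    by_contra hlt
    apply hxA
    apply hmemA
    have hac : a ∈ center T := by
      rcases Nat.eq_zero_or_pos m with rfl | h
      · rw [pow_zero, orderOf_eq_one_iff] at hm
        rw [hm]; exact one_mem _
      · obtain rfl : m = 1 := by omega
        exact hinvc a haA (by simpa using hm)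
    exact (mem_center_iff.mp hac x)
  obtain ⟨n, rfl⟩ : ∃ n, m = n + 2 := ⟨m - 2, by omega⟩
  set b := a ^ 2 ^ n with hb
  set z := a ^ 2 ^ (n + 1) with hz
  have hzo : orderOf z = 2 := by
    rw [hz, orderOf_pow' _ (pow_ne_zero _ two_ne_zero), hm,
      Nat.gcd_eq_right (pow_dvd_pow 2 (Nat.le_succ _)), pow_succ 2 (n + 1),
      Nat.mul_div_cancel_left _ (Nat.two_pow_pos _)]
  have hzc : z ∈ center T := hinvc z (pow_mem haA _) hzo
  have hzz : z * z = 1 := Involution.mul_self_of_orderOf hzo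
  -- an involution centralizing `b` outside `A` gives a normal four-subgroup
  have key : ∀ y : T, orderOf y = 2 → y ∉ A → Commute y b →
      ∃ U : Subgroup T, U.Normal ∧ Nat.card U = 4 ∧ ∀ u ∈ U, u * u = 1 := by
    intro y hy hyA hyb
    obtain ⟨k, hk⟩ := hgen _ (hAn.conj_mem a haA y)
    have hyy : y * y = 1 := Involution.mul_self_of_orderOf hy
    have hkk : ((2 : ℤ) ^ (n + 2)) ∣ k * k - 1 := by
      have h1 : a ^ (k * k) = a ^ (1 : ℤ) := by
        rw [zpow_mul, ← hk, conj_zpow, ← hk, zpow_one,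
          show y * (y * a * y⁻¹) * y⁻¹ = (y * y) * a * (y * y)⁻¹ by group, hyy]
        simp
      rw [zpow_eq_zpow_iff_modEq, Int.modEq_iff_dvd, hm] at h1
      push_cast at h1
      exact dvd_sub_comm.mp h1
    have hk4 : (4 : ℤ) ∣ k - 1 := by
      have h1 : b ^ k = b ^ (1 : ℤ) := by
        rw [zpow_one]
        calc b ^ k = (a ^ k) ^ 2 ^ n := by
              rw [hb, ← zpow_natCast, ← zpow_natCast, ← zpow_mul, ← zpow_mul, mul_comm]
          _ = y * b * y⁻¹ := by rw [← hk, conj_pow]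
          _ = b := by rw [hyb.eq, mul_inv_cancel_right]
      rw [zpow_eq_zpow_iff_modEq, Int.modEq_iff_dvd] at h1
      have hbo : orderOf b = 4 := by
        rw [hb, orderOf_pow' _ (pow_ne_zero _ two_ne_zero), hm,
          Nat.gcd_eq_right (pow_dvd_pow 2 (by omega)), pow_add,
          Nat.mul_div_cancel_left _ (Nat.two_pow_pos _)]
        norm_num
      rw [hbo] at h1
      exact dvd_sub_comm.mp h1
    obtain ⟨i, hi⟩ : (2 : ℤ) ^ (n + 1) ∣ k - 1 := by
      obtain ⟨j, hj⟩ := hk4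
      have h2 : (2 : ℤ) ^ (n + 1) * 2 ∣ (k - 1) * (2 * j + 1) * 2 := by
        rw [← pow_succ]
        refine dvd_trans hkk (dvd_of_eq ?_)
        linear_combination (k - 1) * hj
      have h3 := Int.dvd_of_mul_dvd_mul_right (by norm_num) h2
      exact (IsCoprime.pow_left (Int.isCoprime_iff_nat_coprime.mpr (by
        rw [show (2 : ℤ).natAbs = 2 from rfl, Nat.coprime_two_left]
        exact Int.natAbs_odd.mpr ⟨j, rfl⟩))).dvd_of_dvd_mul_right h3
    -- `y a y⁻¹ = z a`
    have hza : y * a * y⁻¹ = z * a := by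
      have hk' : k = (2 : ℤ) ^ (n + 1) * i + 1 := by linarith
      rw [hk, hk', zpow_add, zpow_one, zpow_mul,
        show ((2 : ℤ) ^ (n + 1)) = ((2 ^ (n + 1) : ℕ) : ℤ) by push_cast; rfl, zpow_natCast, ← hz]
      rcases Int.even_or_odd i with ⟨l, rfl⟩ | ⟨l, rfl⟩
      · exfalso
        apply hyA
        apply hmemA
        refine (mul_inv_eq_iff_eq_mul.mp (?_ : y * a * y⁻¹ = a))
        rw [hk, hk', zpow_add, zpow_one, zpow_mul,
          show ((2 : ℤ) ^ (n + 1)) = ((2 ^ (n + 1) : ℕ) : ℤ) by push_cast; rfl, zpow_natCast, ← hz,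
          ← two_mul, zpow_mul, zpow_two, hzz, one_zpow, one_mul]
      · rw [zpow_add, zpow_mul, zpow_two, hzz, one_zpow, zpow_one, one_mul]
    have hn : 1 ≤ n := by
      by_contra h0
      obtain rfl : n = 0 := by omega
      apply hyA
      apply hmemA
      refine (mul_inv_eq_iff_eq_mul.mp (?_ : y * a * y⁻¹ = a))
      rw [hk]
      nth_rw 2 [← zpow_one a]
      rw [zpow_eq_zpow_iff_modEq, Int.modEq_iff_dvd, hm]
      exact dvd_sub_comm.mp hk4
    refine Involution.exists_four_of_conj hzo hy hzc (fun h => hyA (h ▸ pow_mem haA _)) fun g => ?_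
    -- `w = [g, y]`
    set w := g * y * g⁻¹ * y⁻¹ with hw
    have hwA : w ∈ A := by
      apply hmemA
      obtain ⟨j, hj⟩ := hgen _ (hAn.conj_mem a haA g⁻¹)
      have e2 : g * a ^ j * g⁻¹ = a := by rw [← hj]; group
      have hzg : g * z = z * g := mem_center_iff.mp hzc g
      have hzac : Commute z a := (Commute.refl a).pow_left _
      have e1 : y⁻¹ = y := Involution.inv_of_orderOf hy
      have e3 : z ^ j = z := by
        rcases Int.even_or_odd j with ⟨l, hl⟩ | ⟨l, hl⟩
        · exfalso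
          have hz' : g⁻¹ * z * g⁻¹⁻¹ = z := by
            rw [mem_center_iff.mp hzc g⁻¹, mul_inv_cancel_right]
          have h4 : (g⁻¹ * a * g⁻¹⁻¹) ^ 2 ^ (n + 1) = 1 := by
            rw [hj, hl, ← zpow_natCast, ← zpow_mul, ← orderOf_dvd_iff_zpow_eq_one, hm]
            exact ⟨l, by push_cast; ring⟩
          rw [conj_pow, ← hz, hz'] at h4
          exact Involution.ne_one_of_orderOf hzo h4
        · rw [hl, zpow_add, zpow_mul, zpow_two, hzz, one_zpow, zpow_one, one_mul]
      have h5 : y * a ^ j * y⁻¹ = z * a ^ j := by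
        rw [← conj_zpow, hza, hzac.mul_zpow, e3]
      show w * a = a * w
      have h6 : w * a * w⁻¹ = a := by
        calc w * a * w⁻¹ = g * (y * (g⁻¹ * (y⁻¹ * a * y) * g⁻¹⁻¹) * y⁻¹) * g⁻¹ := by
              rw [hw]; group
          _ = g * (y * (g⁻¹ * (z * a) * g⁻¹⁻¹) * y⁻¹) * g⁻¹ := by
              rw [e1, show y * a * y = y * a * y⁻¹ by rw [e1], hza]
          _ = g * (y * (z * a ^ j) * y⁻¹) * g⁻¹ := by
              rw [show g⁻¹ * (z * a) * g⁻¹⁻¹ = (g⁻¹ * z * g⁻¹⁻¹) * (g⁻¹ * a * g⁻¹⁻¹) by group, hj,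
                mem_center_iff.mp hzc g⁻¹, mul_inv_cancel_right]
          _ = g * (z * (y * a ^ j * y⁻¹)) * g⁻¹ := by
              rw [← mul_assoc y z, mem_center_iff.mp hzc y]; group
          _ = a := by rw [h5, ← mul_assoc z z, hzz, one_mul, e2]
      exact mul_inv_eq_iff_eq_mul.mp h6
    obtain ⟨i', hi'⟩ := hgen w hwA
    have hwy : y * w * y⁻¹ = z ^ i' * w := by
      rw [hi', ← conj_zpow, hza, ((Commute.refl a).pow_left _).mul_zpow]
    have hsq : w * (y * w * y⁻¹) = 1 := by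
      have e1 : y⁻¹ = y := Involution.inv_of_orderOf hy
      calc w * (y * w * y⁻¹) = (w * y) * (w * y) := by rw [e1]; group
        _ = 1 := by
          rw [hw]; simp only [inv_mul_cancel_right]
          rw [show g * y * g⁻¹ * (g * y * g⁻¹) = g * (y * y) * g⁻¹ by group, hyy]; group
    rw [hwy, ← mul_assoc] at hsq
    -- `w ^ 2 ∈ ⟨z⟩` forces `w ^ 2 = 1`
    have hw2 : w * w = 1 := by
      rcases Int.even_or_odd i' with ⟨l, hl⟩ | ⟨l, hl⟩
      · have hz1 : z ^ i' = 1 := by rw [hl, ← two_mul, zpow_mul, zpow_two, hzz, one_zpow]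
        rw [hz1, mul_one] at hsq
        exact hsq
      · exfalso
        have hz1 : z ^ i' = z := by
          rw [hl, zpow_add, zpow_mul, zpow_two, hzz, one_zpow, zpow_one, one_mul]
        rw [hz1, hi', hz, ← zpow_natCast, ← zpow_add, ← zpow_add, ← orderOf_dvd_iff_zpow_eq_one, hm] at hsq
        obtain ⟨c, hc⟩ := hsq
        obtain ⟨n', rfl⟩ : ∃ n', n = n' + 1 := ⟨n - 1, by omega⟩
        push_cast [hl, pow_succ] at hc
        generalize (2 : ℤ) ^ n' = N at hc
        rcases hc' : N * c with _ | _ <;>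
          (have h4 : N * 2 * 2 * 2 * c = 8 * (N * c) := by ring
           omega)
    rcases eq_or_ne w 1 with h1 | h1
    · left
      exact mul_inv_eq_one.mp (hw ▸ h1)
    · right
      have hwo : orderOf w = 2 := Involution.orderOf_eq_two_iff'.mpr ⟨hw2, h1⟩
      have := (hinv w hwA hwo).2
      rw [show n + 2 - 1 = n + 1 from rfl, ← hz] at this
      rw [← this, hw, inv_mul_cancel_right]
  by_cases hxb : Commute x b
  · exact Or.inl (key x hx hxA hxb)
  by_cases hU : ∃ U : Subgroup T, U.Normal ∧ Nat.card U = 4 ∧ ∀ u ∈ U, u * u = 1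
  · exact Or.inl hU
  refine Or.inr ⟨centralizer ({b} : Set T), ?_, ?_, ?_⟩
  · rw [index_eq_two_iff']
    refine ⟨x, fun g => ?_⟩
    -- the two conjugates of `b`
    have hconj : ∀ g : T, g * b * g⁻¹ = b ∨ g * b * g⁻¹ = b⁻¹ := by
      intro g
      obtain ⟨k, hk⟩ := hgen _ (hAn.conj_mem a haA g)
      have hbk : g * b * g⁻¹ = b ^ k := by
        rw [hb, ← conj_pow, hk, ← zpow_natCast, ← zpow_natCast, ← zpow_mul, ← zpow_mul, mul_comm]
      have hb4 : b ^ (4 : ℤ) = 1 := by
        rw [← orderOf_dvd_iff_zpow_eq_one, hb, orderOf_pow' _ (pow_ne_zero _ two_ne_zero), hm,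
          Nat.gcd_eq_right (pow_dvd_pow 2 (by omega)), pow_add,
          Nat.mul_div_cancel_left _ (Nat.two_pow_pos _)]
        norm_num
      have hbne : b ^ 2 ≠ 1 := by
        rw [hb, ← pow_mul, ← pow_succ, ← hz]
        exact Involution.ne_one_of_orderOf hzo
      obtain ⟨q, r, hr, rfl⟩ : ∃ q r, (r = 0 ∨ r = 1 ∨ r = 2 ∨ r = 3) ∧ k = 4 * q + r :=
        ⟨k / 4, k % 4, by omega, by omega⟩
      rw [zpow_add, zpow_mul, hb4, one_zpow, one_mul] at hbk
      have hb2 : g * b ^ 2 * g⁻¹ = b ^ 2 := by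
        rw [hb, ← pow_mul, ← pow_succ, ← hz, mem_center_iff.mp hzc g, mul_inv_cancel_right]
      rcases hr with rfl | rfl | rfl | rfl
      · rw [← conj_pow, hbk, zpow_zero, one_pow] at hb2
        exact absurd hb2.symm hbne
      · left; rw [hbk, zpow_one]
      · rw [← conj_pow, hbk, zpow_two, pow_two (b * b), ← pow_two b, ← pow_add] at hb2
        have : b ^ (2 + 2) = 1 := by
          rw [← zpow_natCast]; exact_mod_cast hb4
        rw [this] at hb2
        exact absurd hb2.symm hbne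
      · right
        rw [hbk]
        refine eq_inv_of_mul_eq_one_left ?_
        rw [← zpow_add_one]; norm_num; exact_mod_cast hb4
    have hxne : x * b * x⁻¹ = b⁻¹ := (hconj x).resolve_left fun h =>
      hxb (mul_inv_eq_iff_eq_mul.mp h)
    have hne : b⁻¹ ≠ b := fun h => hxb (mul_inv_eq_iff_eq_mul.mp (hxne.trans h))
    rw [mem_centralizer_singleton_iff, mem_centralizer_singleton_iff, ← mul_inv_eq_iff_eq_mul,
      ← mul_inv_eq_iff_eq_mul,
      show x * g * b * (x * g)⁻¹ = x * (g * b * g⁻¹) * x⁻¹ by group]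
    rcases hconj g with h | h <;> rw [h]
    · refine Or.inr ⟨rfl, ?_⟩
      rw [hxne]; exact hne
    · refine Or.inl ⟨?_, hne⟩
      rw [← conj_inv, hxne, inv_inv]
  · exact fun h => hxb ((mem_centralizer_singleton_iff.mp h))
  · intro y hy hy2
    by_cases hyA : y ∈ A
    · exact hinvc y hyA hy2
    · exact absurd (key y hy2 hyA (mem_centralizer_singleton_iff.mp hy)) hU

end Cfsg.Agent.H40
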