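import Cfsg.Agent.H40.NormalRank

/-!
For odd `p`, a `p`-group of rank at least `4` has a normal elementary abelian subgroup of order at
least `p^4`.
-/

set_option autoImplicit false
open scoped commutatorElement

namespace Cfsg.Agent.H40

variable {P : Type*} [Group P] [Finite P] {p : ℕ} [hp : Fact p.Prime]

theorem exists_normal_elementary_four (hP : IsPGroup p P) (hodd : p ≠ 2)
    (hrk : ¬ Cfsg.PRankLE p 3 P) :
    ∃ W : Subgroup P, W.Normal ∧ Cfsg.IsElementaryAbelian p W ∧ p ^ 4 ≤ Nat.card W := by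
  by_contra hno
  push Not at hno
  obtain ⟨E', hE', hE'4⟩ := exists_elementary_of_not_rankLE hrk
  obtain ⟨E, hE, hEc⟩ : ∃ E : Subgroup P, Cfsg.IsElementaryAbelian p E ∧ Nat.card E = p ^ 4 := by
    obtain ⟨n, hn⟩ := card_elementary hE'
    have h4 : 4 ≤ n := (Nat.pow_le_pow_iff_right hp.out.one_lt).mp (by rwa [hn] at hE'4)
    obtain ⟨E0, hE0⟩ := Sylow.exists_subgroup_card_pow_prime (G := E') p
      (hn ▸ pow_dvd_pow p h4)
    exact ⟨E0.map E'.subtype, elementary_of_le hE' (Subgroup.map_subtype_le E0), by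
      rw [Subgroup.card_map_of_injective E'.subtype_injective, hE0]⟩
  let S : Set (Subgroup P) := {A | A.Normal ∧ Cfsg.IsElementaryAbelian p A}
  have hS : S.Nonempty := ⟨⊥, inferInstance,
    elementary_iff.mpr ⟨fun a ha b hb => by
      rw [Subgroup.mem_bot.mp ha, Subgroup.mem_bot.mp hb], fun a ha => by
      rw [Subgroup.mem_bot.mp ha, one_pow]⟩⟩
  obtain ⟨V, ⟨hVn, hV⟩, hVmax⟩ := S.toFinite.exists_maximal hS
  haveI := hVn
  have hal : ∀ x : P, x ^ p = 1 → (∀ v ∈ V, x * v = v * x) → x ∈ V :=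
    alperin hP hodd V hV (fun W h1 h2 h3 => le_antisymm (hVmax ⟨h1, h2⟩ h3) h3)
  obtain ⟨vd, hvd⟩ := card_elementary hV
  have hvd3 : vd ≤ 3 := Nat.le_of_lt_succ
    ((Nat.pow_lt_pow_iff_right hp.out.one_lt).mp (hvd ▸ hno V hVn hV))
  let F : Subgroup P := E ⊓ V
  have hEcV : ∀ e ∈ E, (∀ v ∈ V, e * v = v * e) → e ∈ F :=
    fun e he h => ⟨he, hal e (hE.2 e he) h⟩
  have hEV : ¬ E ≤ V := fun h => by
    have := Subgroup.card_le_of_le h
    rw [hEc, hvd] at this
    have := (Nat.pow_le_pow_iff_right hp.out.one_lt).mp this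
    omega
  -- chief series through `V`
  obtain ⟨H, hHn, hHV, hVH, hH2, hHstep⟩ : ∃ H : Subgroup P, H.Normal ∧ H ≤ V ∧
      Nat.card V ≤ p * Nat.card H ∧ Nat.card H ≤ p ^ 2 ∧
      (∀ g : P, ∀ v ∈ V, g * v * g⁻¹ * v⁻¹ ∈ H) := by
    rcases Nat.eq_zero_or_pos vd with h0 | h0
    · refine ⟨⊥, inferInstance, bot_le, ?_, by rw [Subgroup.card_bot]; exact Nat.one_le_pow _ _ hp.out.pos, ?_⟩
      · rw [hvd, h0, Subgroup.card_bot, mul_one, pow_zero]; exact hp.out.one_lt.le
      · intro g v hv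
        rw [Subgroup.eq_bot_of_card_le V (by rw [hvd, h0, pow_zero])] at hv
        rw [Subgroup.mem_bot.mp hv, mul_one, inv_one, mul_one, mul_inv_cancel]
        exact one_mem _
    let T : Set (Subgroup P) := {K | K.Normal ∧ K < V}
    have hT : T.Nonempty := ⟨⊥, inferInstance, bot_lt_iff_ne_bot.mpr fun h => by
      rw [h, Subgroup.card_bot] at hvd
      exact (Nat.one_lt_pow h0.ne' hp.out.one_lt).ne hvd⟩
    obtain ⟨H, ⟨hHn, hHV⟩, hHmax⟩ := T.toFinite.exists_maximal hT
    haveI := hHn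
    obtain ⟨K, hK, hHK, hKV, hKc⟩ := exists_normal_step hP H V hHV
    obtain rfl : K = V := by
      by_contra hne
      exact hHK.not_ge (hHmax ⟨hK, lt_of_le_of_ne hKV hne⟩ hHK.le)
    refine ⟨H, hHn, hHV.le, hKc.le, ?_, fun g v hv =>
      commutator_mem_of_card_eq_mul hP H K hHV.le hKc hv g⟩
    have h1 : p * Nat.card H ≤ p * p ^ 2 := by
      rw [← hKc, hvd, ← pow_succ']
      exact Nat.pow_le_pow_right hp.out.pos hvd3
    exact Nat.le_of_mul_le_mul_left h1 hp.out.pos
  haveI := hHn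
  have hHab : ∀ a ∈ H, ∀ b ∈ H, a * b = b * a := fun a ha b hb =>
    elementary_comm hV (hHV ha) (hHV hb)
  -- the action on `H`
  obtain ⟨h, hhH, hHgen, Z, hZc, hZ1, hhcomm⟩ : ∃ h ∈ H, (∀ g : P, g * h = h * g →
      (∀ x ∈ H, g * x = x * g)) ∧ ∃ Z : Subgroup P, Z ≤ Subgroup.center P ∧ Nat.card Z ≤ p ∧
      ∀ g : P, g * h * g⁻¹ * h⁻¹ ∈ Z := by
    by_cases hb : H = ⊥
    · exact ⟨1, one_mem H, fun g _ x hx => by
        rw [hb, Subgroup.mem_bot] at hx
        rw [hx, mul_one, one_mul], ⊥, bot_le,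
        by rw [Subgroup.card_bot]; exact hp.out.one_lt.le, fun g => by simp⟩
    obtain ⟨z, hzH, hzc, hzo⟩ := exists_central_orderOf_eq hP H hb
    have hzp : Subgroup.zpowers z ≤ H := Subgroup.zpowers_le.mpr hzH
    haveI : (Subgroup.zpowers z).Normal := normal_of_le_center' (Subgroup.zpowers_le.mpr hzc)
    by_cases hz2 : Subgroup.zpowers z = H
    · refine ⟨z, hzH, fun g _ x hx => ?_, Subgroup.zpowers z, Subgroup.zpowers_le.mpr hzc,
        by rw [Nat.card_zpowers, hzo], fun g => ?_⟩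
      · rw [← hz2] at hx
        exact Subgroup.mem_center_iff.mp (Subgroup.zpowers_le.mpr hzc hx) g
      · rw [Subgroup.mem_center_iff.mp hzc g, mul_inv_cancel_right, mul_inv_cancel]
        exact one_mem _
    obtain ⟨h, hhH, hhz⟩ := SetLike.exists_of_lt (lt_of_le_of_ne hzp hz2)
    have hcard : Nat.card H = p * Nat.card (Subgroup.zpowers z) := by
      obtain ⟨n, hn⟩ := card_elementary (elementary_of_le hV hHV)
      rw [Nat.card_zpowers, hzo, hn, ← sq]
      congr 1
      have h1 : n ≤ 2 := (Nat.pow_le_pow_iff_right hp.out.one_lt).mp (hn ▸ hH2)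
      rcases Nat.lt_or_ge n 2 with h' | h'
      · exfalso
        refine hz2 (Subgroup.eq_of_le_of_card_ge hzp ?_)
        rw [Nat.card_zpowers, hzo, hn]
        exact le_of_le_of_eq (Nat.pow_le_pow_right hp.out.pos (by omega : n ≤ 1)) (pow_one p)
      · omega
    refine ⟨h, hhH, fun g hg x hx => ?_, Subgroup.zpowers z, Subgroup.zpowers_le.mpr hzc,
      by rw [Nat.card_zpowers, hzo], fun g => commutator_mem_of_card_eq_mul hP _ H hzp hcard hhH g⟩
    have hsup : Subgroup.zpowers z ⊔ Subgroup.zpowers h = H := by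
      have hle : Subgroup.zpowers z ⊔ Subgroup.zpowers h ≤ H :=
        sup_le hzp (Subgroup.zpowers_le.mpr hhH)
      refine Subgroup.eq_of_le_of_card_ge hle ?_
      obtain ⟨n, hn⟩ := card_elementary (elementary_of_le hV (hle.trans hHV))
      rw [hn, hcard, Nat.card_zpowers, hzo, ← sq]
      refine Nat.pow_le_pow_right hp.out.pos ?_
      by_contra hlt
      have h2 : Nat.card ↥(Subgroup.zpowers z ⊔ Subgroup.zpowers h) ≤ Nat.card (Subgroup.zpowers z) := by
        rw [hn, Nat.card_zpowers, hzo]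
        exact le_of_le_of_eq (Nat.pow_le_pow_right hp.out.pos (by omega : n ≤ 1)) (pow_one p)
      have h3 := Subgroup.eq_of_le_of_card_ge (le_sup_left) h2
      exact hhz (h3 ▸ Subgroup.mem_sup_right (Subgroup.mem_zpowers h))
    have hle2 : H ≤ Subgroup.centralizer ({g} : Set P) := by
      rw [← hsup]
      refine sup_le ?_ (Subgroup.zpowers_le.mpr ?_)
      · exact (Subgroup.zpowers_le.mpr hzc).trans (Subgroup.center_le_centralizer _)
      · rw [Subgroup.mem_centralizer_singleton_iff]; exact hg.symm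
    exact (Subgroup.mem_centralizer_singleton_iff.mp (hle2 hx)).symm
  let ψ : E →* Z :=
    { toFun := fun e => ⟨(e : P) * h * (e : P)⁻¹ * h⁻¹, hhcomm e⟩
      map_one' := Subtype.ext (by simp)
      map_mul' := fun e e' => Subtype.ext (by
        have hc := Subgroup.mem_center_iff.mp (hZc (hhcomm e'))
        show (e : P) * e' * h * ((e : P) * e')⁻¹ * h⁻¹ =
          (e : P) * h * (e : P)⁻¹ * h⁻¹ * ((e' : P) * h * (e' : P)⁻¹ * h⁻¹)
        calc (e : P) * e' * h * ((e : P) * e')⁻¹ * h⁻¹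
            = (e : P) * ((e' : P) * h * (e' : P)⁻¹ * h⁻¹) * h * (e : P)⁻¹ * h⁻¹ := by group
          _ = ((e' : P) * h * (e' : P)⁻¹ * h⁻¹) * ((e : P) * h * (e : P)⁻¹ * h⁻¹) := by
              rw [hc (e : P)]; group
          _ = _ := (hc _).symm) }
  have hψker : ∀ e ∈ ψ.ker, ∀ x ∈ H, (e : P) * x = x * e := by
    intro e he
    refine hHgen e ?_
    have h1 : (e : P) * h * (e : P)⁻¹ * h⁻¹ = 1 := congrArg Subtype.val he
    rw [mul_inv_eq_one, mul_inv_eq_iff_eq_mul] at h1
    exact h1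
  have hKcard : p ^ 4 ≤ p * Nat.card ψ.ker := by
    have h1 := Subgroup.card_mul_index ψ.ker
    rw [Subgroup.index_ker, hEc] at h1
    rw [← h1, mul_comm]
    exact Nat.mul_le_mul_right _ ((Subgroup.card_le_card_group _).trans hZ1)
  have hK3 : p ^ 3 ≤ Nat.card ψ.ker := by
    rw [pow_succ'] at hKcard
    exact Nat.le_of_mul_le_mul_left hKcard hp.out.pos
  have hsupV : ∀ v ∈ V, v ∉ H → H ⊔ Subgroup.zpowers v = V := by
    intro v hv hvH
    refine Subgroup.eq_of_le_of_card_ge (sup_le hHV (Subgroup.zpowers_le.mpr hv)) ?_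
    obtain ⟨j, hj⟩ := Subgroup.card_dvd_of_le (le_sup_left : H ≤ H ⊔ Subgroup.zpowers v)
    obtain ⟨a, ha⟩ := card_elementary (elementary_of_le hV (sup_le hHV (Subgroup.zpowers_le.mpr hv)))
    have hj1 : j ≠ 1 := fun h1 => hvH ((Subgroup.eq_of_le_of_card_ge
      (le_sup_left : H ≤ H ⊔ Subgroup.zpowers v) (by rw [hj, h1, mul_one])) ▸
      Subgroup.mem_sup_right (Subgroup.mem_zpowers v))
    obtain ⟨c, -, hc⟩ := (Nat.dvd_prime_pow hp.out).mp (ha ▸ hj ▸ dvd_mul_left j (Nat.card H) : j ∣ p ^ a)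
    have hc1 : 1 ≤ c := by
      rcases Nat.eq_zero_or_pos c with rfl | h' <;> [exact absurd (by simpa using hc) hj1; exact h']
    rw [hj]
    refine hVH.trans ?_
    rw [mul_comm]
    exact Nat.mul_le_mul_left _ (hc ▸ le_of_eq_of_le (pow_one p).symm
      (Nat.pow_le_pow_right hp.out.pos hc1))
  obtain ⟨v, hvV, hvgen, hvF⟩ : ∃ v ∈ V,
      (∀ g : P, (∀ x ∈ H, g * x = x * g) → g * v = v * g → ∀ x ∈ V, g * x = x * g) ∧
      (¬ F ≤ H → v ∈ F) := by
    have gen : ∀ v ∈ V, v ∉ H →
        ∀ g : P, (∀ x ∈ H, g * x = x * g) → g * v = v * g → ∀ x ∈ V, g * x = x * g := by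
      intro v hv hvH g hgH hgv x hx
      have hle : V ≤ Subgroup.centralizer ({g} : Set P) := by
        rw [← hsupV v hv hvH]
        refine sup_le (fun y hy => ?_) (Subgroup.zpowers_le.mpr ?_)
        · rw [Subgroup.mem_centralizer_singleton_iff]; exact (hgH y hy).symm
        · rw [Subgroup.mem_centralizer_singleton_iff]; exact hgv.symm
      exact (Subgroup.mem_centralizer_singleton_iff.mp (hle hx)).symm
    by_cases hFH : F ≤ H
    · by_cases hHV' : H = V
      · exact ⟨1, one_mem V, fun g hg _ x hx => hg x (hHV'.symm ▸ hx), fun h => absurd hFH h⟩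
      · obtain ⟨v, hv, hvH⟩ := SetLike.exists_of_lt (lt_of_le_of_ne hHV hHV')
        exact ⟨v, hv, gen v hv hvH, fun h => absurd hFH h⟩
    · obtain ⟨v, hvF, hvH⟩ := SetLike.not_le_iff_exists.mp hFH
      exact ⟨v, hvF.2, gen v hvF.2 hvH, fun _ => hvF⟩
  have hFd : ∀ e : ψ.ker, ((e : E) : P) * v = v * (e : E) → ((e : E) : P) ∈ F := fun e he =>
    hEcV _ e.1.2 (hvgen _ (hψker e e.2) he)
  have hFH : F ≤ H := by
    by_contra hFH
    have hvF' := hvF hFH
    have h1 : Nat.card ψ.ker ≤ Nat.card F :=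
      Nat.card_le_card_of_injective (fun e => (⟨((e : E) : P),
        hFd e (elementary_comm hE e.1.2 hvF'.1)⟩ : F))
        (fun a b hab => Subtype.ext (Subtype.ext (congrArg (fun x : F => (x : P)) hab)))
    have h2 : F ≠ V := by
      intro hFV
      refine hEV fun e he => ?_
      refine (hEcV e he fun x hx => ?_).2
      rw [← hFV] at hx
      exact elementary_comm hE he hx.1
    have h3 : p * Nat.card F ≤ Nat.card V := by
      obtain ⟨j, hj⟩ := Subgroup.card_dvd_of_le (inf_le_right : F ≤ V)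
      have hj1 : j ≠ 1 := fun h' => h2 (Subgroup.eq_of_le_of_card_ge inf_le_right (by rw [hj, h', mul_one]))
      obtain ⟨c, -, hc⟩ := (Nat.dvd_prime_pow hp.out).mp (hvd ▸ hj ▸ dvd_mul_left j (Nat.card F) : j ∣ p ^ vd)
      have hc1 : 1 ≤ c := by
        rcases Nat.eq_zero_or_pos c with rfl | h' <;> [exact absurd (by simpa using hc) hj1; exact h']
      rw [hj, mul_comm]
      exact Nat.mul_le_mul_left _ (hc ▸ le_of_eq_of_le (pow_one p).symm
        (Nat.pow_le_pow_right hp.out.pos hc1))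
    have h4 : p * p ^ 3 ≤ p ^ 3 :=
      ((Nat.mul_le_mul_left p (hK3.trans h1)).trans h3).trans
        (hvd ▸ Nat.pow_le_pow_right hp.out.pos hvd3)
    have : 2 * p ^ 3 ≤ p ^ 3 := le_trans (Nat.mul_le_mul_right _ hp.out.two_le) h4
    have := pow_pos hp.out.pos 3
    omega
  let δ : ψ.ker →* H :=
    { toFun := fun e => ⟨((e : E) : P) * v * ((e : E) : P)⁻¹ * v⁻¹, hHstep _ v hvV⟩
      map_one' := Subtype.ext (by simp)
      map_mul' := fun e e' => Subtype.ext (by
        show ((e : E) : P) * (e' : E) * v * (((e : E) : P) * (e' : E))⁻¹ * v⁻¹ =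
          ((e : E) : P) * v * ((e : E) : P)⁻¹ * v⁻¹ * (((e' : E) : P) * v * ((e' : E) : P)⁻¹ * v⁻¹)
        have hd : ((e' : E) : P) * v * ((e' : E) : P)⁻¹ * v⁻¹ ∈ H := hHstep _ v hvV
        calc ((e : E) : P) * (e' : E) * v * (((e : E) : P) * (e' : E))⁻¹ * v⁻¹
            = ((e : E) : P) * (((e' : E) : P) * v * ((e' : E) : P)⁻¹ * v⁻¹) * v * ((e : E) : P)⁻¹ * v⁻¹ := by
              group
          _ = (((e' : E) : P) * v * ((e' : E) : P)⁻¹ * v⁻¹) * (((e : E) : P) * v * ((e : E) : P)⁻¹ * v⁻¹) := by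
              rw [hψker e e.2 _ hd]; group
          _ = _ := hHab _ hd _ (hHstep _ v hvV)) }
  have hδ : Nat.card ψ.ker ≤ Nat.card F * Nat.card δ.range := by
    have h1 := Subgroup.card_mul_index δ.ker
    rw [Subgroup.index_ker] at h1
    rw [← h1]
    refine Nat.mul_le_mul_right _ (Nat.card_le_card_of_injective
      (fun e => (⟨((e.1 : E) : P), hFd e.1 ?_⟩ : F))
      (fun a b hab => Subtype.ext (Subtype.ext (Subtype.ext (congrArg (fun x : F => (x : P)) hab)))))
    have h2 : ((e.1 : E) : P) * v * ((e.1 : E) : P)⁻¹ * v⁻¹ = 1 := congrArg Subtype.val e.2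
    rwa [mul_inv_eq_one, mul_inv_eq_iff_eq_mul] at h2
  obtain ⟨f, hf⟩ := card_elementary (elementary_of_le hE (inf_le_left : F ≤ E))
  have hf2 : f ≤ 2 := (Nat.pow_le_pow_iff_right hp.out.one_lt).mp
    (hf ▸ (Subgroup.card_le_of_le hFH).trans hH2)
  have hrange_le : Nat.card δ.range ≤ p ^ 2 := (Subgroup.card_le_card_group _).trans hH2
  -- `F = H`
  have hFeq : F = H := by
    by_contra hne
    have hf1 : f ≤ 1 := by
      by_contra h'
      exact hne (Subgroup.eq_of_le_of_card_ge hFH (hH2.trans (by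
        rw [hf]; exact Nat.pow_le_pow_right hp.out.pos (by omega))))
    have hr : Function.Surjective δ := by
      rw [← MonoidHom.range_eq_top]
      refine Subgroup.eq_top_of_le_card _ ?_
      refine hH2.trans (Nat.le_of_mul_le_mul_left ?_ hp.out.pos)
      calc p * p ^ 2 = p ^ 3 := by rw [← pow_succ']
        _ ≤ Nat.card F * Nat.card δ.range := hK3.trans hδ
        _ ≤ p * Nat.card δ.range := Nat.mul_le_mul_right _ (by
            rw [hf]; exact le_of_le_of_eq (Nat.pow_le_pow_right hp.out.pos hf1) (pow_one p))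
    by_cases htriv : ∀ e : E, ψ e = 1
    · -- all of `E` centralises `H`
      have h1 : Nat.card ψ.ker = p ^ 4 := by
        rw [show ψ.ker = ⊤ from eq_top_iff.mpr fun e _ => htriv e, Subgroup.card_top, hEc]
      have h2 : p ^ 4 ≤ p * p ^ 2 := by
        refine h1 ▸ hδ.trans (Nat.mul_le_mul ?_ hrange_le)
        rw [hf]; exact le_of_le_of_eq (Nat.pow_le_pow_right hp.out.pos hf1) (pow_one p)
      rw [← pow_succ'] at h2
      have := (Nat.pow_le_pow_iff_right hp.out.one_lt).mp h2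
      omega
    · push Not at htriv
      obtain ⟨e, he⟩ := htriv
      apply he
      apply Subtype.ext
      show (e : P) * h * (e : P)⁻¹ * h⁻¹ = 1
      obtain ⟨e', he'⟩ := hr ⟨h, hhH⟩
      have h1 : ((e' : E) : P) * v * ((e' : E) : P)⁻¹ * v⁻¹ = h := congrArg Subtype.val he'
      obtain ⟨a, ha⟩ : ∃ a, a = (e : P) * v * (e : P)⁻¹ * v⁻¹ := ⟨_, rfl⟩
      have haH : a ∈ H := ha ▸ hHstep _ v hvV
      have c1 : (e : P) * (((e' : E) : P) * v * ((e' : E) : P)⁻¹) * (e : P)⁻¹ =
          ((e' : E) : P) * ((e : P) * v * (e : P)⁻¹) * ((e' : E) : P)⁻¹ := by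
        rw [show ∀ x y : P, x * (y * v * y⁻¹) * x⁻¹ = (x * y) * v * (x * y)⁻¹ from fun x y => by group]
        rw [elementary_comm hE e.2 e'.1.2]
        group
      have e1 : ((e' : E) : P) * v * ((e' : E) : P)⁻¹ = h * v := by rw [← h1]; group
      have e2 : (e : P) * v * (e : P)⁻¹ = a * v := by rw [ha]; group
      rw [e1, e2] at c1
      have c2 : ((e : P) * h * (e : P)⁻¹) * (a * v) = a * (h * v) :=
        calc ((e : P) * h * (e : P)⁻¹) * (a * v)
            = ((e : P) * h * (e : P)⁻¹) * ((e : P) * v * (e : P)⁻¹) := by rw [e2]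
          _ = (e : P) * (h * v) * (e : P)⁻¹ := by group
          _ = ((e' : E) : P) * (a * v) * ((e' : E) : P)⁻¹ := c1
          _ = (((e' : E) : P) * a * ((e' : E) : P)⁻¹) * (((e' : E) : P) * v * ((e' : E) : P)⁻¹) := by
              group
          _ = a * (h * v) := by rw [e1, hψker e' e'.2 a haH, mul_inv_cancel_right]
      rw [← mul_assoc, ← mul_assoc, mul_left_inj, hHab a haH h hhH, mul_left_inj] at c2
      rw [c2, mul_inv_cancel]
  have hkertop : ∀ e ∈ E, ∀ x ∈ H, e * x = x * e := fun e he x hx => by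
    rw [← hFeq] at hx
    exact elementary_comm hE he hx.1
  have hKall : ∀ e : E, e ∈ ψ.ker := fun e => Subtype.ext (by
    show (e : P) * h * (e : P)⁻¹ * h⁻¹ = 1
    rw [hkertop e e.2 h hhH, mul_inv_cancel_right, mul_inv_cancel])
  have hrsurj : Function.Surjective δ := by
    rw [← MonoidHom.range_eq_top]
    refine Subgroup.eq_top_of_le_card _ (hH2.trans ?_)
    have h1 : Nat.card ψ.ker = p ^ 4 := by
      rw [show ψ.ker = ⊤ from eq_top_iff.mpr fun e _ => hKall e, Subgroup.card_top, hEc]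
    refine Nat.le_of_mul_le_mul_left (a := p ^ 2) ?_ (pow_pos hp.out.pos 2)
    calc p ^ 2 * p ^ 2 = p ^ 4 := by rw [← pow_add]
      _ ≤ Nat.card F * Nat.card δ.range := h1 ▸ hδ
      _ ≤ p ^ 2 * Nat.card δ.range := Nat.mul_le_mul_right _ (by
          rw [hf]; exact Nat.pow_le_pow_right hp.out.pos hf2)
  have hHcard : Nat.card H = p ^ 2 := by
    refine le_antisymm hH2 ?_
    have h1 : Nat.card ψ.ker = p ^ 4 := by
      rw [show ψ.ker = ⊤ from eq_top_iff.mpr fun e _ => hKall e, Subgroup.card_top, hEc]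
    have h2 : p ^ 2 * p ^ 2 ≤ p ^ 2 * Nat.card H := by
      rw [← pow_add]
      calc p ^ 4 ≤ Nat.card F * Nat.card δ.range := h1 ▸ hδ
        _ ≤ p ^ 2 * Nat.card H := Nat.mul_le_mul
            (by rw [hf]; exact Nat.pow_le_pow_right hp.out.pos hf2) (Subgroup.card_le_card_group _)
    exact Nat.le_of_mul_le_mul_left h2 (pow_pos hp.out.pos 2)
  have hVN : V ≤ Subgroup.normalizer (E : Set P) := Subgroup.le_normalizer_iff.mpr fun x hx e he => by
    have hxi : x⁻¹ ∈ V := inv_mem hx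
    have := hHstep e x⁻¹ hxi
    rw [inv_inv, ← hFeq] at this
    have hxe : x * e * x⁻¹ = (x * (e * x⁻¹ * e⁻¹ * x) * x⁻¹) * e := by group
    rw [hxe]
    refine mul_mem ?_ he
    rw [elementary_comm hV hx this.2, mul_inv_cancel_right]
    exact this.1
  -- `N(N(E)) = N(E)`
  have hNN : Subgroup.normalizer (Subgroup.normalizer (E : Set P) : Set P) =
      Subgroup.normalizer (E : Set P) := by
    refine le_antisymm (fun g hg => ?_) Subgroup.le_normalizer
    set Eg : Subgroup P := E.map (MulAut.conj g).toMonoidHom with hEg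
    suffices hle : Eg ≤ E by
      rw [Subgroup.mem_normalizer_iff_map_conj_eq]
      exact Subgroup.eq_of_le_of_card_ge hle
        (by rw [Subgroup.card_map_of_injective (MulAut.conj g).injective])
    have hEgN : Eg ≤ Subgroup.normalizer (E : Set P) := by
      rintro _ ⟨e, he, rfl⟩
      exact (Subgroup.mem_normalizer_iff.mp hg e).mp (Subgroup.le_normalizer he)
    have hEgi : E ≤ Subgroup.normalizer (Eg : Set P) := by
      intro e he
      rw [Subgroup.mem_normalizer_iff_map_conj_eq, hEg, Subgroup.map_map]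
      have h1 : g⁻¹ * e * g ∈ Subgroup.normalizer (E : Set P) := by
        rw [Subgroup.mem_normalizer_iff'' (H := Subgroup.normalizer (E : Set P))] at hg
        exact (hg e).mp (Subgroup.le_normalizer he)
      rw [Subgroup.mem_normalizer_iff_map_conj_eq] at h1
      conv_rhs => rw [← h1, Subgroup.map_map]
      congr 1
      apply MonoidHom.ext
      intro x
      show e * (g * x * g⁻¹) * e⁻¹ = g * ((g⁻¹ * e * g) * x * (g⁻¹ * e * g)⁻¹) * g⁻¹
      group
    have hEgel : Cfsg.IsElementaryAbelian p Eg := elementary_map hE _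
    have hFg : ∀ y ∈ Eg, y ∈ V → y ∈ F := by
      rintro _ ⟨e, he, rfl⟩ hy
      have he' : e ∈ V := by
        have := hVn.conj_mem _ hy g⁻¹
        simpa [MulAut.conj_apply, mul_assoc] using this
      have : e ∈ F := ⟨he, he'⟩
      rw [hFeq] at this ⊢
      exact hHn.conj_mem e this g
    have hHEg : ∀ x ∈ H, x ∈ Eg := fun x hx => by
      have : g⁻¹ * x * g⁻¹⁻¹ ∈ H := hHn.conj_mem x hx g⁻¹
      rw [inv_inv, ← hFeq] at this
      exact ⟨g⁻¹ * x * g, this.1, by show g * (g⁻¹ * x * g) * g⁻¹ = x; group⟩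
    have hdec : ∀ y ∈ Eg, ∃ e ∈ E, e⁻¹ * y ∈ V := by
      intro y hy
      obtain ⟨e, he⟩ := hrsurj ⟨y * v * y⁻¹ * v⁻¹, hHstep y v hvV⟩
      have hed : ((e : E) : P) * v * ((e : E) : P)⁻¹ * v⁻¹ = y * v * y⁻¹ * v⁻¹ := congrArg Subtype.val he
      refine ⟨(e : E), e.1.2, ?_⟩
      set d : P := ((e : E) : P) with hd
      have hdE : d ∈ E := e.1.2
      have hy' : y ∈ Subgroup.normalizer (E : Set P) := hEgN hy
      have hd' : d ∈ Subgroup.normalizer (Eg : Set P) := hEgi hdE
      set z : P := y * d⁻¹ * y⁻¹ * d with hz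
      have hzE : z ∈ E := mul_mem ((Subgroup.mem_normalizer_iff.mp hy' _).mp (inv_mem hdE)) hdE
      have hzEg : z ∈ Eg := by
        have h1 := (Subgroup.mem_normalizer_iff.mp (inv_mem hd') y⁻¹).mp (inv_mem hy)
        rw [inv_inv] at h1
        have h2 := mul_mem hy h1
        rwa [show y * (d⁻¹ * y⁻¹ * d) = z by rw [hz]; group] at h2
      have hp0 : d⁻¹ ^ p = 1 := hE.2 _ (inv_mem hdE)
      have h3 := mul_pow_of_central_commutator (c := d⁻¹) (x := y) (z := z)
        (by rw [hz]; group) (elementary_comm hE hzE (inv_mem hdE)) (elementary_comm hEgel hzEg hy) p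
      rw [hp0, hEgel.2 y hy, mul_one, mul_one] at h3
      have h4 : z ^ p.choose 2 = 1 := by
        obtain ⟨k, hk⟩ := hp.out.dvd_choose_self (k := 2) (by norm_num)
          (lt_of_le_of_ne hp.out.two_le (Ne.symm hodd))
        rw [hk, pow_mul, hE.2 _ hzE, one_pow]
      rw [h4] at h3
      refine hal _ h3 (hvgen _ ?_ ?_)
      · intro x hx
        exact ((show Commute d⁻¹ x from elementary_comm hE (inv_mem hdE) ((hFeq.symm ▸ hx : x ∈ F)).1).mul_left
          (elementary_comm hEgel hy (hHEg x hx))).eq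
      · have e1 : y * v = y * v * y⁻¹ * v⁻¹ * v * y := by group
        have e2 : v * d⁻¹ = d⁻¹ * (d * v * d⁻¹ * v⁻¹) * v := by group
        calc d⁻¹ * y * v = d⁻¹ * (d * v * d⁻¹ * v⁻¹) * v * y := by
              rw [hed, mul_assoc d⁻¹ y v]; nth_rewrite 1 [e1]; group
          _ = v * (d⁻¹ * y) := by rw [← e2, mul_assoc]
    by_contra hnot
    obtain ⟨y, hy, hyE⟩ := SetLike.not_le_iff_exists.mp hnot
    obtain ⟨e, he, hc⟩ := hdec y hy
    set c := e⁻¹ * y with hcdef
    have hyec : y = e * c := by rw [hcdef]; group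
    -- components of `c` outside `F`
    have hcF : c ∉ F := fun h' => hyE (hyec ▸ mul_mem he h'.1)
    have hcH : c ∉ H := fun h' => hcF (hFeq.symm ▸ h')
    have hVc : ∀ g : P, (∀ x ∈ H, g * x = x * g) → g * c = c * g → ∀ x ∈ V, g * x = x * g := by
      intro g hgH hgc x hx
      have hle : V ≤ Subgroup.centralizer ({g} : Set P) := by
        rw [← hsupV c hc hcH]
        refine sup_le (fun u hu => ?_) (Subgroup.zpowers_le.mpr ?_)
        · rw [Subgroup.mem_centralizer_singleton_iff]; exact (hgH u hu).symm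
        · rw [Subgroup.mem_centralizer_singleton_iff]; exact hgc.symm
      exact (Subgroup.mem_centralizer_singleton_iff.mp (hle hx)).symm
    -- for every element of `Eg`, the commutation relation with `y`
    have hrel : ∀ y' ∈ Eg, ∀ e' ∈ E, e'⁻¹ * y' ∈ V →
        e * (e'⁻¹ * y') * e⁻¹ * (e'⁻¹ * y')⁻¹ = e' * c * e'⁻¹ * c⁻¹ := by
      intro y' hy' e' he' hc'
      set c' := e'⁻¹ * y' with hc'def
      have hye : y' = e' * c' := by rw [hc'def]; group
      have hA : e * c' * e⁻¹ * c'⁻¹ ∈ H := hHstep e c' hc'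
      have hB : e' * c * e'⁻¹ * c⁻¹ ∈ H := hHstep e' c hc
      have hcomm : y * y' = y' * y := elementary_comm hEgel hy hy'
      rw [hyec, hye] at hcomm
      have hcc' : c * c' = c' * c := elementary_comm hV hc hc'
      have l1 : e' * c' * (e * c) = e' * e * (e⁻¹ * c' * e) * c := by group
      have l2 : e * c * (e' * c') = e * e' * (e'⁻¹ * c * e') * c' := by group
      rw [l1, l2, elementary_comm hE he he', mul_assoc, mul_assoc (e' * e)] at hcomm
      have h5 : e'⁻¹ * c * e' * c' = e⁻¹ * c' * e * c := mul_left_cancel hcomm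
      have h6 : c = e' * c * e'⁻¹ * c⁻¹ * (e'⁻¹ * c * e') := by
        have h7 := hkertop e'⁻¹ (inv_mem he') _ hB
        calc c = e'⁻¹ * (e' * c * e'⁻¹ * c⁻¹) * c * e' := by group
          _ = _ := by rw [h7]; group
      have h7 : c' = e * c' * e⁻¹ * c'⁻¹ * (e⁻¹ * c' * e) := by
        have h8 := hkertop e⁻¹ (inv_mem he) _ hA
        calc c' = e⁻¹ * (e * c' * e⁻¹ * c'⁻¹) * c' * e := by group
          _ = _ := by rw [h8]; group
      generalize e * c' * e⁻¹ * c'⁻¹ = A at hA h7 ⊢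
      generalize e' * c * e'⁻¹ * c⁻¹ = B at hB h6 ⊢
      generalize e'⁻¹ * c * e' = C1 at h5 h6
      generalize e⁻¹ * c' * e = C2 at h5 h7
      have hC1 : C1 ∈ V := by
        have := mul_mem (inv_mem (hHV hB)) hc
        rwa [h6, inv_mul_cancel_left] at this
      have hC2 : C2 ∈ V := by
        have := mul_mem (inv_mem (hHV hA)) hc'
        rwa [h7, inv_mul_cancel_left] at this
      rw [h6, h7] at h5
      rw [← mul_assoc, elementary_comm hV hC1 (hHV hA), mul_assoc,
        elementary_comm hV hC1 hC2, ← mul_assoc C2, elementary_comm hV hC2 (hHV hB)] at h5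
      have h9 : A * (C2 * C1) = B * (C2 * C1) := by
        rw [h5]; simp only [mul_assoc]
      exact mul_right_cancel h9
    -- pick `e'` whose commutator with `c` avoids the subgroup generated by that of `e`
    have hφ : ∀ x : P, x ∈ H → ∃ e' ∈ E, e' * c * e'⁻¹ * c⁻¹ = x := by
      intro x hx
      let δ' : E →* H :=
        { toFun := fun e' => ⟨(e' : P) * c * (e' : P)⁻¹ * c⁻¹, hHstep _ c hc⟩
          map_one' := Subtype.ext (by simp)
          map_mul' := fun a b => Subtype.ext (by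
            show (a : P) * b * c * ((a : P) * b)⁻¹ * c⁻¹ =
              (a : P) * c * (a : P)⁻¹ * c⁻¹ * ((b : P) * c * (b : P)⁻¹ * c⁻¹)
            have hd : (b : P) * c * (b : P)⁻¹ * c⁻¹ ∈ H := hHstep _ c hc
            calc (a : P) * b * c * ((a : P) * b)⁻¹ * c⁻¹
                = (a : P) * ((b : P) * c * (b : P)⁻¹ * c⁻¹) * c * (a : P)⁻¹ * c⁻¹ := by group
              _ = ((b : P) * c * (b : P)⁻¹ * c⁻¹) * ((a : P) * c * (a : P)⁻¹ * c⁻¹) := by
                  rw [hkertop a a.2 _ hd]; group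
              _ = _ := hHab _ hd _ (hHstep _ c hc)) }
      have hs : δ'.range = ⊤ := by
        refine Subgroup.eq_top_of_le_card _ ?_
        have h1 := Subgroup.card_mul_index δ'.ker
        rw [Subgroup.index_ker, hEc] at h1
        have h2 : Nat.card δ'.ker ≤ Nat.card H := by
          refine Nat.card_le_card_of_injective (fun a => (⟨((a.1 : E) : P), ?_⟩ : H))
            (fun a b hab => Subtype.ext (Subtype.ext (congrArg (fun x : H => (x : P)) hab)))
          refine (le_of_eq hFeq) (hEcV _ a.1.2 (hVc _ (hkertop _ a.1.2) ?_))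
          have := congrArg Subtype.val a.2
          change ((a.1 : E) : P) * c * ((a.1 : E) : P)⁻¹ * c⁻¹ = 1 at this
          rwa [mul_inv_eq_one, mul_inv_eq_iff_eq_mul] at this
        rw [hHcard] at h2 ⊢
        refine Nat.le_of_mul_le_mul_left (a := p ^ 2) ?_ (pow_pos hp.out.pos 2)
        rw [← pow_add, ← h1]
        exact Nat.mul_le_mul_right _ h2
      obtain ⟨e', he'⟩ := MonoidHom.range_eq_top.mp hs ⟨x, hx⟩
      exact ⟨e', e'.2, congrArg Subtype.val he'⟩
    set a := e * c * e⁻¹ * c⁻¹ with hadef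
    have haH : a ∈ H := hHstep e c hc
    obtain ⟨x, hxH, hxa⟩ : ∃ x ∈ H, x ∉ Subgroup.zpowers a := by
      refine SetLike.exists_of_lt (lt_of_le_of_ne (Subgroup.zpowers_le.mpr haH) fun h' => ?_)
      have h1 : Nat.card (Subgroup.zpowers a) ≤ p := by
        rw [Nat.card_zpowers]
        exact Nat.le_of_dvd hp.out.pos (orderOf_dvd_of_pow_eq_one (hV.2 a (hHV haH)))
      rw [h', hHcard] at h1
      exact absurd h1 (not_le.mpr (lt_self_pow₀ hp.out.one_lt (by norm_num)))
    -- an element of `Eg` over a prescribed element of `E`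
    obtain ⟨e', he', hxe⟩ := hφ x hxH
    obtain ⟨y', hy', hc'⟩ : ∃ y' ∈ Eg, e'⁻¹ * y' ∈ V := by
      let π := QuotientGroup.mk' V
      have hle : Eg.map π ≤ E.map π := by
        rintro _ ⟨w, hw, rfl⟩
        obtain ⟨d, hd, hdV⟩ := hdec w hw
        exact ⟨d, hd, (QuotientGroup.eq).mpr hdV⟩
      have hk : ∀ X : Subgroup P, X ⊓ V = H → Nat.card (X.map π) * Nat.card H = Nat.card X := by
        intro X hX
        have := Subgroup.relIndex_mul_relIndex ⊥ (V ⊓ X) X bot_le inf_le_right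
        rw [Subgroup.relIndex_bot_left, Subgroup.relIndex_bot_left, Subgroup.inf_relIndex_right,
          inf_comm, hX, mul_comm] at this
        rw [← Subgroup.relIndex_ker, QuotientGroup.ker_mk']
        exact this
      have h1 := hk E (hFeq)
      have h2 := hk Eg (le_antisymm (fun w hw => hFeq ▸ hFg w hw.1 hw.2)
        (fun w hw => ⟨hHEg w hw, hHV hw⟩))
      rw [show Nat.card Eg = Nat.card E from Subgroup.card_map_of_injective (MulAut.conj g).injective, ← h1] at h2
      have := Subgroup.eq_of_le_of_card_ge hle (Nat.eq_of_mul_eq_mul_right Nat.card_pos h2).ge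
      have : π e' ∈ Eg.map π := this ▸ Subgroup.mem_map_of_mem π he'
      obtain ⟨w, hw, hwe⟩ := this
      exact ⟨w, hw, (QuotientGroup.eq).mp hwe.symm⟩
    have hr := hrel y' hy' e' he' hc'
    rw [hxe] at hr
    -- the commutator of `e` with anything in `V` lies in `⟨a⟩`
    apply hxa
    rw [← hr]
    generalize e'⁻¹ * y' = u at hc'
    rw [← hsupV c hc hcH, ← SetLike.mem_coe, Subgroup.normal_mul] at hc'
    obtain ⟨u1, hu1, _, ⟨i, rfl⟩, rfl⟩ := hc'
    have e1 : e * (u1 * c ^ i) * e⁻¹ * (u1 * c ^ i)⁻¹ = u1 * (e * c ^ i * e⁻¹ * (c ^ i)⁻¹) * u1⁻¹ := by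
      rw [← mul_assoc e u1, hkertop e he u1 hu1]
      group
    rw [e1, elementary_comm hV (hHV hu1) (hHV (hHstep e _ (zpow_mem hc i))), mul_inv_cancel_right,
      ← MulAut.conj_apply, map_zpow, MulAut.conj_apply]
    have hcom : Commute (e * c * e⁻¹) c :=
      elementary_comm hV (hVn.conj_mem c hc e) hc
    rw [← inv_zpow, ← (hcom.inv_right).mul_zpow]
    exact zpow_mem (Subgroup.mem_zpowers a) i
  haveI := hP.isNilpotent
  have htop : Subgroup.normalizer (E : Set P) = ⊤ :=
    normalizerCondition_iff_only_full_group_self_normalizing.mp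
      Group.normalizerCondition_of_isNilpotent _ hNN
  exact absurd (hno E (Subgroup.normalizer_eq_top_iff.mp htop) hE) (not_lt.mpr hEc.ge)

end Cfsg.Agent.H40
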