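import Mathlib.FieldTheory.ChevalleyWarning
import Mathlib.LinearAlgebra.QuadraticForm.Basis
import Mathlib.LinearAlgebra.Dimension.Free
import Mathlib.LinearAlgebra.FiniteDimensional.Basic
import Mathlib.Algebra.Module.ZMod

/-!
Vector valued quadratic maps over the field with two elements without nontrivial zeros.
-/

set_option autoImplicit false

namespace Cfsg.Agent.H40.QuadraticBound

open Module MvPolynomial

/-- Quadratic maps over the field with two elements without nonzero zeros. -/
theorem finrank_le {U W : Type*} [AddCommGroup U] [Module (ZMod 2) U] [AddCommGroup W]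
    [Module (ZMod 2) W] [Finite U] [Finite W] (Q : QuadraticMap (ZMod 2) U W)
    (hQ : ∀ u, Q u = 0 → u = 0) :
    finrank (ZMod 2) U ≤ 2 * finrank (ZMod 2) W := by
  classical
  by_contra hlt
  push Not at hlt
  set e := finBasis (ZMod 2) U
  set b := finBasis (ZMod 2) W
  set B := Q.toBilin e
  let f : Fin (finrank (ZMod 2) W) → MvPolynomial (Fin (finrank (ZMod 2) U)) (ZMod 2) := fun j =>
    ∑ i, ∑ k, C (b.repr (B (e i) (e k)) j) * (X i * X k)
  have hdeg : ∀ j, (f j).totalDegree ≤ 2 := by
    intro j
    refine (totalDegree_finsetSum _ _).trans (Finset.sup_le fun i _ => ?_)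
    refine (totalDegree_finsetSum _ _).trans (Finset.sup_le fun k _ => ?_)
    refine (totalDegree_mul _ _).trans ?_
    rw [totalDegree_C, zero_add]
    refine (totalDegree_mul _ _).trans ?_
    rw [totalDegree_X, totalDegree_X]
  have heval : ∀ (x : Fin (finrank (ZMod 2) U) → ZMod 2) (j),
      eval x (f j) = b.repr (Q (e.equivFun.symm x)) j := by
    intro x j
    have h1 : Q (e.equivFun.symm x) = ∑ i, ∑ k, (x i * x k) • B (e i) (e k) := by
      rw [← QuadraticMap.toQuadraticMap_toBilin Q e, LinearMap.BilinMap.toQuadraticMap_apply,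
        Basis.equivFun_symm_apply]
      simp only [map_sum, map_smul, LinearMap.sum_apply, LinearMap.smul_apply, Finset.smul_sum,
        smul_smul, B]
      rw [Finset.sum_comm]
      exact Finset.sum_congr rfl fun i _ => Finset.sum_congr rfl fun k _ => by rw [mul_comm]
    rw [h1]
    simp only [f, eval_mul, eval_C, eval_X, map_sum, map_smul, Finsupp.finsetSum_apply,
      Finsupp.smul_apply, smul_eq_mul]
    exact Finset.sum_congr rfl fun i _ => Finset.sum_congr rfl fun k _ => mul_comm _ _
  have h := char_dvd_card_solutions_of_fintype_sum_lt 2 (f := f) (lt_of_le_of_lt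
    ((Finset.sum_le_card_nsmul _ _ 2 fun j _ => hdeg j).trans
      (by rw [Finset.card_univ, Fintype.card_fin, smul_eq_mul, mul_comm]))
    (by rw [Fintype.card_fin]; exact hlt))
  have hone : Fintype.card {x : Fin (finrank (ZMod 2) U) → ZMod 2 //
      ∀ j, eval x (f j) = 0} = 1 := by
    refine Fintype.card_eq_one_iff.mpr ⟨⟨0, fun j => by
      rw [heval, map_zero, QuadraticMap.map_zero, map_zero, Finsupp.zero_apply]⟩, ?_⟩
    rintro ⟨x, hx⟩
    apply Subtype.ext
    have h2 : b.repr (Q (e.equivFun.symm x)) = 0 := Finsupp.ext fun j => by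
      rw [← heval]; exact hx j
    have h3 := hQ _ (b.repr.map_eq_zero_iff.mp h2)
    exact e.equivFun.symm.map_eq_zero_iff.mp h3
  simp only [Fintype.card_eq_nat_card] at h hone
  rw [hone] at h
  omega

variable {U W : Type*} [AddCommGroup U] [Module (ZMod 2) U] [AddCommGroup W]
  [Module (ZMod 2) W] [Finite U] [Finite W] (Q : QuadraticMap (ZMod 2) U W)

/-- If all zeros lie in `K`, the codimension of `K` is at most twice that of the target. -/
theorem finrank_le_add (K : Submodule (ZMod 2) U) (hQ : ∀ u, Q u = 0 → u ∈ K) :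
    finrank (ZMod 2) U ≤ finrank (ZMod 2) K + 2 * finrank (ZMod 2) W := by
  obtain ⟨K', hK'⟩ := K.exists_isCompl
  rw [← Submodule.finrank_add_eq_of_isCompl hK']
  refine Nat.add_le_add_left (finrank_le (Q.comp K'.subtype) fun u hu => ?_) _
  exact Subtype.ext (Submodule.disjoint_def.mp hK'.disjoint _ (hQ _ hu) u.2)

/-- A functional which is linear on the values gives a strict bound. -/
theorem finrank_lt_of_linear (hQ : ∀ u, Q u = 0 → u = 0) (l : W →ₗ[ZMod 2] ZMod 2) (hl : l ≠ 0)
    (hlin : ∀ u v, l (Q (u + v)) = l (Q u) + l (Q v)) :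
    finrank (ZMod 2) U < 2 * finrank (ZMod 2) W := by
  let F : U →ₗ[ZMod 2] ZMod 2 :=
    AddMonoidHom.toZModLinearMap 2 (AddMonoidHom.mk' (fun u => l (Q u)) hlin)
  obtain ⟨π, hπ⟩ := LinearMap.exists_leftInverse_of_injective (LinearMap.ker l).subtype
    (Submodule.ker_subtype _)
  have h := finrank_le ((π.compQuadraticMap Q).comp (LinearMap.ker F).subtype) (fun u hu => by
    refine Subtype.ext (hQ _ ?_)
    have hmem : Q (u : U) ∈ LinearMap.ker l :=
      LinearMap.mem_ker.mpr (show F (u : U) = 0 from LinearMap.mem_ker.mp u.2)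
    have h1 : π (Q (u : U)) = ⟨_, hmem⟩ := LinearMap.congr_fun hπ ⟨_, hmem⟩
    exact congrArg Subtype.val (h1.symm.trans (show π (Q (u : U)) = 0 from hu)))
  have h2 := LinearMap.finrank_range_add_finrank_ker F
  have h3 := LinearMap.finrank_range_add_finrank_ker l
  have h4 : finrank (ZMod 2) (LinearMap.range F) ≤ 1 :=
    (Submodule.finrank_le _).trans_eq (finrank_self _)
  have h5 : finrank (ZMod 2) (LinearMap.range l) ≠ 0 := fun h0 =>
    hl (LinearMap.range_eq_bot.mp (Submodule.finrank_eq_zero.mp h0))
  omega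

/-- A nonzero vector in the radical gives a strict bound. -/
theorem finrank_lt_of_radical (hQ : ∀ u, Q u = 0 → u = 0) {z : U} (hz : z ≠ 0)
    (hrad : ∀ v, Q (z + v) = Q z + Q v) : finrank (ZMod 2) U < 2 * finrank (ZMod 2) W := by
  have h2z : ∀ w : W, w + w = 0 := fun w => by
    rw [← two_smul (ZMod 2) w, show (2 : ZMod 2) = 0 from by decide, zero_smul]
  have h2u : ∀ w : U, w + w = 0 := fun w => by
    rw [← two_smul (ZMod 2) w, show (2 : ZMod 2) = 0 from by decide, zero_smul]
  have hQz : Q z ≠ 0 := fun h => hz (hQ z h)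
  obtain ⟨U', hU'⟩ := (Submodule.span (ZMod 2) {z}).exists_isCompl
  set L := Submodule.span (ZMod 2) {Q z}
  haveI : Finite (W ⧸ L) := Finite.of_surjective _ L.mkQ_surjective
  have h := finrank_le ((L.mkQ.compQuadraticMap Q).comp U'.subtype) (fun u hu => by
    obtain ⟨a, ha⟩ := Submodule.mem_span_singleton.mp
      ((Submodule.Quotient.mk_eq_zero L).mp hu)
    have hcases : a = 0 ∨ a = 1 := (by decide : ∀ c : ZMod 2, c = 0 ∨ c = 1) a
    refine Subtype.ext ?_
    rcases hcases with rfl | rfl
    · exact hQ _ (by rw [zero_smul] at ha; exact ha.symm)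
    · rw [one_smul] at ha
      have h1 : z + (u : U) = 0 := hQ _ (by rw [hrad, ha]; exact h2z _)
      have h2 : z ∈ U' := by
        rw [show z = z + (u : U) + u by rw [add_assoc, h2u, add_zero], h1, zero_add]; exact u.2
      exact absurd (Submodule.disjoint_def.mp hU'.disjoint z
        (Submodule.mem_span_singleton_self z) h2) hz)
  have h3 := Submodule.finrank_add_eq_of_isCompl hU'
  have h4 := L.finrank_quotient_add_finrank
  rw [finrank_span_singleton hz] at h3
  rw [finrank_span_singleton hQz] at h4
  omega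

end Cfsg.Agent.H40.QuadraticBound
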