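import Mathlib.LinearAlgebra.Matrix.Transvection
import Mathlib.LinearAlgebra.Matrix.SpecialLinearGroup
import Mathlib.Algebra.CharP.Two
import Mathlib.FieldTheory.Finite.Basic
import Cfsg.Agent.H40.Layer

/-!
The centralizer of a transvection in `SL_n(2)` has characteristic 2.
-/

set_option autoImplicit false
open Matrix

namespace Cfsg.Agent.H40

theorem generalizedFitting_eq_pCore {G : Type*} [Group G] [Finite G] {p : ℕ} [hp : Fact p.Prime]
    (h : Subgroup.centralizer (Cfsg.pCore p G : Set G) ≤ Cfsg.pCore p G) :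
    Cfsg.generalizedFittingSubgroup G = Cfsg.pCore p G := by
  refine le_antisymm (generalizedFitting_le_of_selfcentralizing _ ?_ h)
    ((Fitting.pCore_le_fitting p).trans Components.fitting_le_generalizedFitting)
  rw [Fitting.fitting_eq_iSup_pCore]
  refine iSup_le fun q => ?_
  haveI : Fact (q : ℕ).Prime := ⟨q.2⟩
  rcases eq_or_ne (q : ℕ) p with hq | hq
  · rw [hq]
  · refine le_trans (fun x hx => ?_) h
    rw [Subgroup.mem_centralizer_iff]
    exact fun y hy => Fitting.pCore_commute hq.symm hy hx

variable {n : ℕ} {F : Type*} [Field F] [Fintype F] [DecidableEq F]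

theorem entries_of_commute {i j : Fin n} (hij : i ≠ j) {c : F} (hc : c ≠ 0)
    {g : Matrix (Fin n) (Fin n) F} (h : g * transvection i j c = transvection i j c * g) :
    (∀ a, a ≠ i → g a i = 0) ∧ (∀ b, b ≠ j → g j b = 0) ∧ g i i = g j j := by
  simp only [transvection, Matrix.mul_add, Matrix.add_mul, mul_one, one_mul, add_right_inj] at h
  refine ⟨fun a ha => ?_, fun b hb => ?_, ?_⟩
  · have := congrFun (congrFun h a) j
    simp [ha, hc] at this
    exact this
  · have := congrFun (congrFun h i) b
    simp [hb, hc] at this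
    exact this
  · have := congrFun (congrFun h i) j
    simp [hc, mul_comm c] at this
    exact this

theorem transvection_centralizer_char_two (hF : Fintype.card F = 2) (i j : Fin n) (hij : i ≠ j)
    (t : SpecialLinearGroup (Fin n) F)
    (ht : (t : Matrix (Fin n) (Fin n) F) = transvection i j 1) :
    Subgroup.centralizer (Cfsg.pCore 2 ↥(Subgroup.centralizer ({t} : Set (SpecialLinearGroup (Fin n) F))) :
        Set ↥(Subgroup.centralizer ({t} : Set (SpecialLinearGroup (Fin n) F)))) ≤
      Cfsg.pCore 2 ↥(Subgroup.centralizer ({t} : Set (SpecialLinearGroup (Fin n) F))) := by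
  classical
  haveI : CharP F 2 := charP_of_card_eq_prime hF
  set C := Subgroup.centralizer ({t} : Set (SpecialLinearGroup (Fin n) F)) with hC
  let M : C → Matrix (Fin n) (Fin n) F := fun g => ((g : SpecialLinearGroup (Fin n) F) : Matrix _ _ F)
  have Mmul : ∀ g h : C, M (g * h) = M g * M h := fun _ _ => rfl
  have Mone : M 1 = 1 := rfl
  have Minj : Function.Injective M := fun g h e => Subtype.ext (Subtype.ext e)
  have one_of_ne : ∀ x : F, x ≠ 0 → x = 1 := by
    intro x hx
    have h1 := FiniteField.pow_card_sub_one_eq_one x hx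
    rwa [hF, pow_one] at h1
  have hent : ∀ g : C, (∀ a, a ≠ i → M g a i = 0) ∧ (∀ b, b ≠ j → M g j b = 0) ∧ M g i i = M g j j := by
    intro g
    refine entries_of_commute hij one_ne_zero ?_
    rw [← ht]
    exact congrArg (fun s : SpecialLinearGroup (Fin n) F => (s : Matrix (Fin n) (Fin n) F))
      (Subgroup.mem_centralizer_singleton_iff.mp g.2)
  let P : C → Prop := fun g => ∀ a b, a ≠ i → b ≠ j → M g a b = (1 : Matrix (Fin n) (Fin n) F) a b
  have hPmul : ∀ g h, P g → P h → P (g * h) := by
    intro g h hg hh a b ha hb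
    rw [Mmul, Matrix.mul_apply]
    rw [Finset.sum_eq_single a]
    · rw [hh a b ha hb]
      rcases eq_or_ne a j with rfl | haj
      · simp [Matrix.one_apply, Ne.symm hb]
      · rw [hg a a ha haj]; simp
    · intro c _ hca
      rcases eq_or_ne c j with rfl | hcj
      · rw [(hent h).2.1 b hb, mul_zero]
      · rw [hg a c ha hcj, Matrix.one_apply_ne (Ne.symm hca), zero_mul]
    · simp
  have hPone : P 1 := fun a b _ _ => by rw [Mone]
  let Q : Subgroup C :=
    { carrier := {g | P g}
      one_mem' := hPone
      mul_mem' := fun {g h} hg hh => hPmul g h hg hh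
      inv_mem' := fun {g} hg => by
        have hpow : ∀ k : ℕ, P (g ^ k) := by
          intro k
          induction k with
          | zero => rw [pow_zero]; exact hPone
          | succ k ih => rw [pow_succ]; exact hPmul _ _ ih hg
        obtain ⟨k, hk⟩ := Nat.exists_eq_add_one.mpr (orderOf_pos g)
        have : g ^ k = g⁻¹ := eq_inv_of_mul_eq_one_left (by rw [← pow_succ, ← hk, pow_orderOf_eq_one])
        exact this ▸ hpow k }
  haveI hQn : Q.Normal := by
    refine ⟨fun q hq g a b ha hb => ?_⟩
    have h1 : (M g * M g⁻¹) a b = (1 : Matrix (Fin n) (Fin n) F) a b := by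
      rw [← Mmul, mul_inv_cancel, Mone]
    rw [← h1, Mmul, Mmul, Matrix.mul_assoc, Matrix.mul_apply, Matrix.mul_apply]
    refine Finset.sum_congr rfl fun c _ => ?_
    rcases eq_or_ne c i with rfl | hci
    · rw [(hent g).1 a ha, zero_mul, zero_mul]
    congr 1
    rw [Matrix.mul_apply, Finset.sum_eq_single c]
    · rcases eq_or_ne c j with rfl | hcj
      · rw [(hent g⁻¹).2.1 b hb, mul_zero]
      · rw [hq c c hci hcj]; simp
    · intro d _ hdc
      rcases eq_or_ne d j with rfl | hdj
      · rw [(hent g⁻¹).2.1 b hb, mul_zero]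
      · rw [hq c d hci hdj, Matrix.one_apply_ne (Ne.symm hdc), zero_mul]
    · simp
  have hdiag : ∀ g ∈ Q, M g i i = 1 ∧ M g j j = 1 := by
    intro g hg
    have hne : M g i i ≠ 0 := by
      intro h0
      have hdet : (M g).det = 1 := (g : SpecialLinearGroup (Fin n) F).2
      rw [Matrix.det_eq_zero_of_column_eq_zero i (fun a => ?_)] at hdet
      · exact zero_ne_one hdet
      · rcases eq_or_ne a i with rfl | ha
        · exact h0
        · exact (hent g).1 a ha
    exact ⟨one_of_ne _ hne, (hent g).2.2 ▸ one_of_ne _ hne⟩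
  have hQp : IsPGroup 2 Q := by
    intro g
    refine ⟨2, Subtype.ext (Minj ?_)⟩
    have hMpow : ∀ k, M ((g : C) ^ k) = M (g : C) ^ k := by
      intro k
      induction k with
      | zero => exact Mone
      | succ k ih => rw [pow_succ, pow_succ, Mmul, ih]
    rw [SubmonoidClass.coe_pow, hMpow]
    show M (g : C) ^ 4 = M 1
    rw [Mone]
    obtain ⟨N, hN⟩ : ∃ N, N = M (g : C) - 1 := ⟨_, rfl⟩
    have hgN : M (g : C) = 1 + N := by rw [hN]; abel
    have hNi : ∀ a, N a i = 0 := fun a => by
      rcases eq_or_ne a i with rfl | ha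
      · simp [hN, (hdiag _ g.2).1]
      · simp [hN, (hent g).1 a ha, Matrix.one_apply_ne ha]
    have hNj : ∀ b, N j b = 0 := fun b => by
      rcases eq_or_ne b j with rfl | hb
      · simp [hN, (hdiag _ g.2).2]
      · simp [hN, (hent g).2.1 b hb, Matrix.one_apply_ne hb.symm]
    have hN0 : ∀ a b, a ≠ i → b ≠ j → N a b = 0 := fun a b ha hb => by
      simp [hN, g.2 a b ha hb]
    have hN3 : N * N * N = 0 := by
      ext a b
      rw [Matrix.zero_apply, Matrix.mul_apply]
      refine Finset.sum_eq_zero fun c _ => ?_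
      rw [Matrix.mul_apply, Finset.sum_mul]
      refine Finset.sum_eq_zero fun d _ => ?_
      rcases eq_or_ne c i with rfl | hci
      · rw [hNi d, mul_zero, zero_mul]
      rcases eq_or_ne c j with rfl | hcj
      · rw [hNj b, mul_zero]
      rcases eq_or_ne d i with rfl | hdi
      · rw [hNi a, zero_mul, zero_mul]
      · rw [hN0 d c hdi hcj, mul_zero, zero_mul]
    have h2 : ∀ A : Matrix (Fin n) (Fin n) F, A + A = 0 := fun A => by
      ext a b; exact CharTwo.add_self_eq_zero _
    have hsq : ∀ A : Matrix (Fin n) (Fin n) F, (1 + A) * (1 + A) = 1 + A * A := fun A => by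
      rw [Matrix.add_mul, Matrix.mul_add, Matrix.mul_add, one_mul, one_mul, mul_one,
        show 1 + A + (A + A * A) = 1 + (A + A) + A * A by abel, h2, add_zero]
    rw [hgN, show (4 : ℕ) = 2 + 2 from rfl, pow_add, pow_two, hsq, hsq, ← Matrix.mul_assoc, hN3,
      Matrix.zero_mul, add_zero]
  have hQle : Q ≤ Cfsg.pCore 2 C := Fitting.le_pCore hQn hQp
  intro x hx
  apply hQle
  -- test elements of `Q`
  have test : ∀ a b, a ≠ b → (a = i ∨ b = j) → b ≠ i → a ≠ j →
      M x * Matrix.single a b (1 : F) = Matrix.single a b (1 : F) * M x := by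
    intro a b hab hor hbi haj
    obtain ⟨s, hs⟩ : ∃ s : SpecialLinearGroup (Fin n) F,
        (s : Matrix (Fin n) (Fin n) F) = transvection a b (1 : F) :=
      ⟨⟨_, det_transvection_of_ne a b hab 1⟩, rfl⟩
    have hmem : s ∈ C := by
      rw [hC, Subgroup.mem_centralizer_singleton_iff]
      apply Subtype.ext
      show (s : Matrix (Fin n) (Fin n) F) * (t : Matrix (Fin n) (Fin n) F) =
        (t : Matrix (Fin n) (Fin n) F) * (s : Matrix (Fin n) (Fin n) F)
      rw [hs, ht, transvection, transvection]
      simp only [Matrix.mul_add, Matrix.add_mul, mul_one, one_mul]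
      rw [Matrix.single_mul_single_of_ne (1 : F) a b i hbi 1,
        Matrix.single_mul_single_of_ne (1 : F) i j a (Ne.symm haj) 1]
      abel
    have hmemQ : (⟨s, hmem⟩ : C) ∈ Q := by
      intro c d hc hd
      show (s : Matrix (Fin n) (Fin n) F) c d = _
      rw [hs]
      rw [transvection, Matrix.add_apply, Matrix.single_apply_of_ne]
      · rw [add_zero]
      · rintro ⟨rfl, rfl⟩
        rcases hor with h | h
        · exact hc h
        · exact hd h
    have h := congrArg M (Subgroup.mem_centralizer_iff.mp hx _ (hQle hmemQ))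
    rw [Mmul, Mmul] at h
    change (s : Matrix (Fin n) (Fin n) F) * M x = M x * (s : Matrix (Fin n) (Fin n) F) at h
    rw [hs] at h
    simp only [transvection, Matrix.mul_add, Matrix.add_mul, mul_one, one_mul, add_right_inj] at h
    exact h.symm
  intro a b ha hb
  rcases eq_or_ne a b with rfl | hab
  · rw [Matrix.one_apply_eq]
    apply one_of_ne
    intro h0
    have hdet : (M x).det = 1 := (x : SpecialLinearGroup (Fin n) F).2
    rw [Matrix.det_eq_zero_of_column_eq_zero a (fun c => ?_)] at hdet
    · exact zero_ne_one hdet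
    · rcases eq_or_ne c a with rfl | hca
      · exact h0
      · have := congrFun (congrFun (test a j hb (Or.inr rfl) (Ne.symm hij) hb) c) j
        simpa [hca] using this
  · rw [Matrix.one_apply_ne hab]
    have := congrFun (congrFun (test b j hb (Or.inr rfl) (Ne.symm hij) hb) a) j
    simpa [hab] using this

end Cfsg.Agent.H40
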